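import Groth.Prelude.Def_ArtFun4

/-! # Transport of deformation functors along isomorphisms -/

set_option autoImplicit false

universe u

open CategoryTheory CategoryTheory.Limits AlgebraicGeometry ArtFun ArtFun.Art

namespace Groth.L14.DefLift

variable {Λ k : Type u} [CommRing Λ] [Field k] [Algebra Λ k]
variable {X Y : Scheme.{u}} {x : X ⟶ specPt k} {y : Y ⟶ specPt k}

/-- The same deformation, with the closed fibre renamed. -/
noncomputable def reindex (e : X ≅ Y) (h : e.hom ≫ y = x) {A : Art Λ k} (ξ : DefSch X x A) : DefSch Y y A where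
  total := ξ.total
  f := ξ.f
  flat := ξ.flat
  i := e.inv ≫ ξ.i
  isPullback := IsPullback.paste_horiz
    (IsPullback.of_horiz_isIso ⟨by rw [← h, Category.comp_id, e.inv_hom_id_assoc]⟩ : IsPullback e.inv y x (𝟙 _))
    ξ.isPullback |> fun p => by rwa [Category.id_comp] at p

/-- Isomorphisms are respected. -/
noncomputable def reindexIso (e : X ≅ Y) (h : e.hom ≫ y = x) {A : Art Λ k} {ξ ξ' : DefSch X x A} (i : ξ.Iso ξ') :
    (reindex e h ξ).Iso (reindex e h ξ') :=
  ⟨i.iso, i.hom_f, (Category.assoc _ _ _).trans (congrArg (e.inv ≫ ·) i.i_hom)⟩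

theorem reindex_baseChange (e : X ≅ Y) (h : e.hom ≫ y = x) {A B : Art Λ k} (g : A ⟶ B) (ξ : DefSch X x A) :
    Nonempty ((reindex e h (ξ.baseChange g)).Iso ((reindex e h ξ).baseChange g)) := by
  refine ⟨⟨Iso.refl _, Category.id_comp _, pullback.hom_ext ?_ ?_⟩⟩
  · refine (congrArg (· ≫ _) (Category.comp_id _)).trans ((Category.assoc _ _ _).trans ?_)
    refine ((congrArg (e.inv ≫ ·) (DefSch.baseChange_i_fst ξ g))).trans ?_
    exact (DefSch.baseChange_i_fst (reindex e h ξ) g).symm
  · refine (congrArg (· ≫ _) (Category.comp_id _)).trans ((Category.assoc _ _ _).trans ?_)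
    refine ((congrArg (e.inv ≫ ·) (DefSch.baseChange_i_f ξ g))).trans ?_
    refine Eq.trans ?_ (DefSch.baseChange_i_f (reindex e h ξ) g).symm
    rw [← Category.assoc, ← h, e.inv_hom_id_assoc]

/-- Transport of classes. -/
noncomputable def reindexCl (e : X ≅ Y) (h : e.hom ≫ y = x) (A : Art Λ k)
    (c : (defFunctor X x).obj A) : (defFunctor Y y).obj A :=
  Quotient.lift (s := DefSch.setoid X x A) (fun ξ => (reindex e h ξ).cl) (fun _ _ hr => Quotient.sound (Nonempty.map (reindexIso e h) hr)) c

theorem reindexCl_natural (e : X ≅ Y) (h : e.hom ≫ y = x) {A B : Art Λ k} (g : A ⟶ B) (c : (defFunctor X x).obj A) :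
    reindexCl e h B ((defFunctor X x).map g c) = (defFunctor Y y).map g (reindexCl e h A c) := by
  induction c using Quotient.inductionOn with
  | h ξ => exact Quotient.sound (reindex_baseChange e h g ξ)

theorem reindexCl_leftInverse (e : X ≅ Y) (h : e.hom ≫ y = x) (h' : e.inv ≫ x = y) (A : Art Λ k)
    (c : (defFunctor X x).obj A) : reindexCl e.symm h' A (reindexCl e h A c) = c := by
  induction c using Quotient.inductionOn with
  | h ξ => exact Quotient.sound ⟨⟨Iso.refl _, Category.id_comp _,
      (Category.comp_id _).trans (e.hom_inv_id_assoc ξ.i)⟩⟩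

/-- Having a hull only depends on the isomorphism class of the scheme. -/
theorem hasHull_of_iso (e : X ≅ Y) (h : e.hom ≫ y = x) (hY : HasHull (defFunctor (Λ := Λ) Y y)) :
    HasHull (defFunctor (Λ := Λ) X x) := by
  have h' : e.inv ≫ x = y := by rw [← h, e.inv_hom_id_assoc]
  obtain ⟨H⟩ := hY
  have hbij : ∀ A : Art Λ k, Function.Bijective (reindexCl e.symm h' A) := fun A =>
    ⟨Function.LeftInverse.injective (g := reindexCl e h A) fun c => reindexCl_leftInverse e.symm h' h A c,
      fun c => ⟨reindexCl e h A c, reindexCl_leftInverse e h h' A c⟩⟩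
  refine ⟨⟨H.ring,
    { app := fun A φ => reindexCl e.symm h' A (H.family.app A φ)
      natural := fun f φ => (congrArg _ (H.family.natural f φ)).trans (reindexCl_natural e.symm h' f _) },
    fun B A μ hμ φ y' hy => ?_, (hbij _).comp H.miniversal.2⟩⟩
  obtain ⟨z, rfl⟩ := (hbij B).2 y'
  obtain ⟨ψ, h1, h2⟩ := H.miniversal.1 μ hμ φ z ((hbij A).1 ((reindexCl_natural e.symm h' μ z).trans hy))
  exact ⟨ψ, h1, congrArg _ h2⟩

end Groth.L14.DefLift
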