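import Groth.Agent.L14.DefLift.Glue
import Groth.Agent.L14.DefLift.DefTransfer
import Groth.Agent.L20.Pinch.Props

/-! # Gluing deformations of schemes over fibre products of Artinian rings -/

set_option autoImplicit false
set_option linter.style.haveILetI false
set_option linter.unusedSectionVars false
set_option backward.isDefEq.respectTransparency.types false

universe u

open CategoryTheory CategoryTheory.Limits AlgebraicGeometry ArtFun ArtFun.Art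

namespace Groth.L14.DefLift

variable {Λ k : Type u} [CommRing Λ] [Field k] [Algebra Λ k]

section Thickening

variable {X : Scheme.{u}} {x : X ⟶ specPt k} {A : Art Λ k} (ξ : DefSch X x A)

instance isClosedImmersion_i : IsClosedImmersion ξ.i := by
  haveI : IsClosedImmersion (specRes A) := IsClosedImmersion.spec_of_surjective _ A.res_surjective
  exact MorphismProperty.of_isPullback (P := @IsClosedImmersion.{u}) ξ.isPullback.flip inferInstance

theorem surjective_i : Function.Surjective ξ.i := by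
  have hs : ∀ P Q : PrimeSpectrum A, P = Q := fun P Q =>
    PrimeSpectrum.ext ((IsLocalRing.eq_maximalIdeal (Ideal.IsPrime.isMaximal' P.isPrime)).trans
      (IsLocalRing.eq_maximalIdeal (Ideal.IsPrime.isMaximal' Q.isPrime)).symm)
  haveI : Surjective (specRes A) := ⟨fun z => ⟨⟨⊥, Ideal.isPrime_bot⟩, hs _ _⟩⟩
  haveI : Surjective ξ.i := MorphismProperty.of_isPullback (P := @Surjective.{u}) ξ.isPullback.flip inferInstance
  exact ξ.i.surjective

theorem exists_open (W : X.Opens) : ∃ V : ξ.total.Opens, ξ.i ⁻¹ᵁ V = W := by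
  obtain ⟨O, hO, e⟩ := ξ.i.isClosedEmbedding.isInducing.isOpen_iff.mp W.2
  exact ⟨⟨O, hO⟩, TopologicalSpace.Opens.ext e⟩

theorem isAffineOpen_of_preimage {V : ξ.total.Opens} (h : IsAffineOpen (ξ.i ⁻¹ᵁ V)) : IsAffineOpen V := by
  haveI : IsClosedImmersion (ξ.i ∣_ V) :=
    MorphismProperty.of_isPullback (P := @IsClosedImmersion) (isPullback_morphismRestrict ξ.i _).flip inferInstance
  haveI : IsAffine (ξ.i ⁻¹ᵁ V).toScheme := h
  refine Groth.L20.ThickAffine.isAffine_of_surjective (ξ.i ∣_ V) fun y => ?_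
  obtain ⟨z, hz⟩ := surjective_i ξ (V.ι y)
  have hzV : z ∈ ξ.i ⁻¹ᵁ V := by
    change ξ.i z ∈ V
    rw [hz]
    exact y.2
  refine ⟨⟨z, hzV⟩, V.ι.isOpenEmbedding.injective ?_⟩
  rw [← Scheme.Hom.comp_apply, morphismRestrict_ι]
  exact hz

/-- A deformation over an affine open. -/
noncomputable def restrictAff {V : ξ.total.Opens} (hV : IsAffineOpen V) {W : X.Opens} (hW : IsAffineOpen W)
    (e : ξ.i ⁻¹ᵁ V = W) : DefSch (Spec Γ(X, W)) (hW.fromSpec ≫ x) A where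
  total := Spec Γ(ξ.total, V)
  f := hV.fromSpec ≫ ξ.f
  flat := inferInstance
  i := Spec.map (ξ.i.appLE V W e.ge)
  isPullback := by
    refine IsPullback.paste_vert (IsOpenImmersion.isPullback _ hW.fromSpec hV.fromSpec ξ.i
      (IsAffineOpen.SpecMap_appLE_fromSpec ξ.i hV hW e.ge).symm ?_) ξ.isPullback
    rw [hV.opensRange_fromSpec, hW.opensRange_fromSpec, e]

/-- A deformation of an affine scheme is given by an algebra. -/
theorem exists_defo' {B₀ : Type u} [CommRing B₀] [Algebra k B₀] {R : CommRingCat.{u}} (f : Spec R ⟶ spec A) [Flat f]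
    (i : Spec (CommRingCat.of B₀) ⟶ Spec R)
    (h : IsPullback i (Spec.map (CommRingCat.ofHom (algebraMap k B₀))) f (specRes A)) :
    ∃ (D : Defo B₀ A A.res.toRingHom) (ε : D.B ≃+* R),
      Spec.map (CommRingCat.ofHom ε.toRingHom) ≫ Spec.map (CommRingCat.ofHom (algebraMap A D.B)) = f ∧
      i ≫ Spec.map (CommRingCat.ofHom ε.toRingHom) = Spec.map (CommRingCat.ofHom D.β) := by
  obtain ⟨D, e, hef, hei⟩ := exists_defo
    ({ total := Spec R, f := f, flat := inferInstance, i := i, isPullback := h } :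
      DefSch (Spec (CommRingCat.of B₀)) (Spec.map (CommRingCat.ofHom (algebraMap k B₀))) A)
  let a : CommRingCat.of D.B ⟶ R := Spec.preimage e.hom
  let b : R ⟶ CommRingCat.of D.B := Spec.preimage e.inv
  let ε : D.B ≃+* R := RingEquiv.ofRingHom a.hom b.hom
    (congrArg CommRingCat.Hom.hom (Spec.map_injective (by
      rw [Spec.map_comp, Spec.map_preimage, Spec.map_preimage, Spec.map_id]
      exact e.hom_inv_id) : b ≫ a = 𝟙 _))
    (congrArg CommRingCat.Hom.hom (Spec.map_injective (by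
      rw [Spec.map_comp, Spec.map_preimage, Spec.map_preimage, Spec.map_id]
      exact e.inv_hom_id) : a ≫ b = 𝟙 _))
  have hε : Spec.map (CommRingCat.ofHom ε.toRingHom) = e.hom := Spec.map_preimage e.hom
  exact ⟨D, ε, by rw [hε]; exact hef, by rw [hε]; exact hei⟩

theorem isIso_of_hom_affine {R₀ : CommRingCat.{u}} {y : Spec R₀ ⟶ specPt k} {ξ₁ ξ₂ : DefSch (Spec R₀) y A}
    {R₁ R₂ : CommRingCat.{u}} (e₁ : Spec R₁ = ξ₁.total) (e₂ : Spec R₂ = ξ₂.total) (φ : ξ₁.total ⟶ ξ₂.total)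
    (hf : φ ≫ ξ₂.f = ξ₁.f) (hi : ξ₁.i ≫ φ = ξ₂.i) : IsIso φ := by
  obtain ⟨ψ, rfl⟩ := Spec.map_surjective y
  letI : Algebra k R₀ := ψ.hom.toAlgebra
  obtain ⟨D₁, a₁, ha₁, hb₁⟩ := exists_defo (B₀ := R₀) ξ₁
  obtain ⟨D₂, a₂, ha₂, hb₂⟩ := exists_defo (B₀ := R₀) ξ₂
  let c : Spec (CommRingCat.of D₁.B) ⟶ Spec (CommRingCat.of D₂.B) := a₁.inv ≫ φ ≫ a₂.hom
  let q : CommRingCat.of D₂.B ⟶ CommRingCat.of D₁.B := Spec.preimage c
  have hq : Spec.map q = c := Spec.map_preimage _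
  have h1 : ∀ a, q.hom (algebraMap A D₂.B a) = algebraMap A D₁.B a := fun a => by
    refine ConcreteCategory.congr_hom (Spec.map_injective (a₁ := CommRingCat.ofHom (algebraMap A D₂.B) ≫ q)
      (a₂ := CommRingCat.ofHom (algebraMap A D₁.B)) ?_) a
    rw [Spec.map_comp, hq, Category.assoc, Category.assoc, ha₂, hf, ← ha₁, Iso.inv_hom_id_assoc]
  have h2 : ∀ b, D₁.β (q.hom b) = D₂.β b := fun b => by
    refine ConcreteCategory.congr_hom (Spec.map_injective (a₁ := q ≫ CommRingCat.ofHom D₁.β)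
      (a₂ := CommRingCat.ofHom D₂.β) ?_) b
    rw [Spec.map_comp, hq, ← hb₁, Category.assoc, Iso.hom_inv_id_assoc, reassoc_of% hi, hb₂]
  haveI : IsIso q := (ConcreteCategory.isIso_iff_bijective q).mpr (bijective_of_compat q.hom h1 h2)
  haveI : IsIso c := hq ▸ inferInstance
  rw [show φ = a₁.hom ≫ c ≫ a₂.inv by simp [c]]
  infer_instance

/-- A morphism of deformations is an isomorphism. -/
theorem isIso_of_hom {ξ₁ ξ₂ : DefSch X x A} (φ : ξ₁.total ⟶ ξ₂.total) (hf : φ ≫ ξ₂.f = ξ₁.f)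
    (hi : ξ₁.i ≫ φ = ξ₂.i) : IsIso φ := by
  let 𝒰 : ξ₂.total.OpenCover :=
    { I₀ := ξ₂.total.affineOpens
      X := fun V => Spec Γ(ξ₂.total, V.1)
      f := fun V => V.2.fromSpec
      mem₀ := (Scheme.ofArrows_mem_precoverage_iff _).mpr ⟨fun y => by
        obtain ⟨V, hV, hy, -⟩ := exists_isAffineOpen_mem_and_subset (X := ξ₂.total) (x := y) (U := ⊤)
          (TopologicalSpace.Opens.mem_top _)
        exact ⟨⟨V, hV⟩, by rw [hV.range_fromSpec]; exact hy⟩, fun V => inferInstance⟩ }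
  refine IsZariskiLocalAtTarget.of_openCover (P := MorphismProperty.isomorphisms Scheme.{u}) 𝒰 fun ⟨V, hV⟩ => ?_
  let W := ξ₂.i ⁻¹ᵁ V
  have hW : IsAffineOpen W := hV.preimage ξ₂.i
  have e₁ : ξ₁.i ⁻¹ᵁ (φ ⁻¹ᵁ V) = W := by
    show (ξ₁.i ≫ φ) ⁻¹ᵁ V = W
    rw [hi]
  have hV₁ : IsAffineOpen (φ ⁻¹ᵁ V) := isAffineOpen_of_preimage ξ₁ (by rw [e₁]; exact hW)
  let φV := Spec.map (φ.appLE V (φ ⁻¹ᵁ V) le_rfl)
  have hsq : φV ≫ hV.fromSpec = hV₁.fromSpec ≫ φ := IsAffineOpen.SpecMap_appLE_fromSpec φ hV hV₁ le_rfl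
  haveI : IsIso φV := by
    refine isIso_of_hom_affine (ξ₁ := restrictAff ξ₁ hV₁ hW e₁) (ξ₂ := restrictAff ξ₂ hV hW rfl) rfl rfl φV ?_ ?_
    · show φV ≫ hV.fromSpec ≫ ξ₂.f = hV₁.fromSpec ≫ ξ₁.f
      rw [reassoc_of% hsq, hf]
    · show Spec.map (ξ₁.i.appLE _ W e₁.ge) ≫ φV = Spec.map (ξ₂.i.appLE V W le_rfl)
      rw [← cancel_mono hV.fromSpec, Category.assoc, hsq, IsAffineOpen.SpecMap_appLE_fromSpec ξ₂.i hV hW,
        ← Category.assoc, IsAffineOpen.SpecMap_appLE_fromSpec ξ₁.i hV₁ hW, Category.assoc, hi]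
  have hpb : IsPullback φV hV₁.fromSpec hV.fromSpec φ :=
    IsOpenImmersion.isPullback _ _ _ _ hsq.symm (by rw [hV.opensRange_fromSpec, hV₁.opensRange_fromSpec])
  show IsIso (pullback.snd φ hV.fromSpec)
  rw [show pullback.snd φ hV.fromSpec = hpb.flip.isoPullback.inv ≫ φV from (hpb.flip.isoPullback_inv_snd).symm]
  infer_instance

theorem cl_eq_of_hom {ξ₁ ξ₂ : DefSch X x A} (φ : ξ₁.total ⟶ ξ₂.total) (hf : φ ≫ ξ₂.f = ξ₁.f)
    (hi : ξ₁.i ≫ φ = ξ₂.i) : ξ₁.cl = ξ₂.cl := by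
  haveI := isIso_of_hom φ hf hi
  exact Quotient.sound ⟨⟨asIso φ, hf, hi⟩⟩

end Thickening

section Over

variable {X : Scheme.{u}} {x : X ⟶ specPt k}

/-- A map of deformations over a map of the bases. -/
def OverS {A A' : Art Λ k} (μ : A ⟶ A') (ξ : DefSch X x A) (ξ' : DefSch X x A') : Prop :=
  ∃ c : ξ'.total ⟶ ξ.total, c ≫ ξ.f = ξ'.f ≫ specMap μ ∧ ξ'.i ≫ c = ξ.i

theorem map_cl_iff {A A' : Art Λ k} (μ : A ⟶ A') (ξ : DefSch X x A) (ξ' : DefSch X x A') :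
    (defFunctor X x).map μ ξ.cl = ξ'.cl ↔ OverS μ ξ ξ' := by
  constructor
  · intro h
    obtain ⟨e⟩ := Quotient.exact h
    refine ⟨e.iso.inv ≫ pullback.fst ξ.f (specMap μ), ?_, ?_⟩
    · rw [Category.assoc, pullback.condition, ← Category.assoc]
      exact congrArg (· ≫ specMap μ) e.symm.hom_f
    · rw [← Category.assoc, show ξ'.i ≫ e.iso.inv = (ξ.baseChange μ).i from e.symm.i_hom]
      exact DefSch.baseChange_i_fst _ _
  · rintro ⟨c, hc, hci⟩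
    refine (cl_eq_of_hom (ξ₁ := ξ') (ξ₂ := ξ.baseChange μ) (pullback.lift c ξ'.f hc) (pullback.lift_snd _ _ _)
      (pullback.hom_ext ?_ ?_)).symm
    · rw [Category.assoc, pullback.lift_fst, hci]
      exact (DefSch.baseChange_i_fst _ _).symm
    · rw [Category.assoc, pullback.lift_snd]
      exact ξ'.i_f.trans (DefSch.baseChange_i_f _ _).symm

theorem isClosedImmersion_of_over {A A' : Art Λ k} {μ : A ⟶ A'} (hμ : Function.Surjective μ) {ξ : DefSch X x A}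
    {ξ' : DefSch X x A'} {c : ξ'.total ⟶ ξ.total} (hc : c ≫ ξ.f = ξ'.f ≫ specMap μ) (hci : ξ'.i ≫ c = ξ.i) :
    IsClosedImmersion c := by
  haveI := isIso_of_hom (ξ₁ := ξ') (ξ₂ := ξ.baseChange μ) (pullback.lift c ξ'.f hc) (pullback.lift_snd _ _ _)
    (pullback.hom_ext
      (((Category.assoc _ _ _).trans ((congrArg (_ ≫ ·) (pullback.lift_fst _ _ _)).trans hci)).trans
        (DefSch.baseChange_i_fst _ _).symm)
      (((Category.assoc _ _ _).trans ((congrArg (_ ≫ ·) (pullback.lift_snd _ _ _)).trans ξ'.i_f)).trans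
        (DefSch.baseChange_i_f _ _).symm))
  haveI : IsClosedImmersion (specMap μ) := IsClosedImmersion.spec_of_surjective _ hμ
  haveI : IsClosedImmersion (pullback.fst ξ.f (specMap μ)) :=
    MorphismProperty.pullback_fst _ _ inferInstance
  rw [show c = pullback.lift c ξ'.f hc ≫ pullback.fst ξ.f (specMap μ) from (pullback.lift_fst _ _ _).symm]
  infer_instance

end Over

section Affine

open Groth.L20.Pinch
open Groth.L09.Patch (sp sp_comp)

variable {B A A' A'' : Art Λ k} {p' : B ⟶ A'} {p'' : B ⟶ A''} {f' : A' ⟶ A} {f'' : A'' ⟶ A}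

theorem affine_pinch (hfp : IsFibreProd p' p'' f' f'') (hs : Function.Surjective f'') {B₀ : CommRingCat.{u}}
    (y : Spec B₀ ⟶ specPt k) {R R₁ R₂ R₀ : Type u} [CommRing R] [CommRing R₁] [CommRing R₂] [CommRing R₀]
    {p1 : R →+* R₁} {p2 : R →+* R₂} {r1 : R₁ →+* R₀} {r2 : R₂ →+* R₀} (h : IsFib p1 p2 r1 r2)
    (g₁ : Spec (CommRingCat.of R₁) ⟶ spec A') [Flat g₁] (i₁ : Spec B₀ ⟶ Spec (CommRingCat.of R₁))
    (h₁ : IsPullback i₁ y g₁ (specRes A'))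
    (g₂ : Spec (CommRingCat.of R₂) ⟶ spec A'') [Flat g₂] (i₂ : Spec B₀ ⟶ Spec (CommRingCat.of R₂))
    (h₂ : IsPullback i₂ y g₂ (specRes A''))
    (g₀ : Spec (CommRingCat.of R₀) ⟶ spec A) [Flat g₀] (i₀ : Spec B₀ ⟶ Spec (CommRingCat.of R₀))
    (h₀ : IsPullback i₀ y g₀ (specRes A))
    (w₁ : sp r1 ≫ g₁ = g₀ ≫ specMap f') (v₁ : i₀ ≫ sp r1 = i₁)
    (w₂ : sp r2 ≫ g₂ = g₀ ≫ specMap f'') (v₂ : i₀ ≫ sp r2 = i₂)
    (g : Spec (CommRingCat.of R) ⟶ spec B) (e₁ : sp p1 ≫ g = g₁ ≫ specMap p') (e₂ : sp p2 ≫ g = g₂ ≫ specMap p'') :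
    Flat g ∧ IsPullback (i₁ ≫ sp p1) y g (specRes B) := by
  obtain ⟨ψ, rfl⟩ := Spec.map_surjective y
  letI : Algebra k B₀ := ψ.hom.toAlgebra
  obtain ⟨D₁, ε₁, a₁, b₁⟩ := exists_defo' (B₀ := B₀) g₁ i₁ h₁
  obtain ⟨D₂, ε₂, a₂, b₂⟩ := exists_defo' (B₀ := B₀) g₂ i₂ h₂
  obtain ⟨D₀, ε₀, a₀, b₀⟩ := exists_defo' (B₀ := B₀) g₀ i₀ h₀
  have hi : ∀ {R : Type u} [CommRing R] {D : Type u} [CommRing D] (ε : D ≃+* R),
      IsIso (Spec.map (CommRingCat.ofHom ε.toRingHom)) := fun ε => by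
    haveI : IsIso (CommRingCat.ofHom ε.toRingHom) := ε.toCommRingCatIso.isIso_hom
    infer_instance
  have hA : ∀ {A₁ : Art Λ k} {R₁ : Type u} [CommRing R₁] {r : R₁ →+* R₀} {D : Defo B₀ A₁ A₁.res.toRingHom}
      {ε : D.B ≃+* R₁} {g₁ : Spec (CommRingCat.of R₁) ⟶ spec A₁} {μ : A₁ ⟶ A},
      Spec.map (CommRingCat.ofHom ε.toRingHom) ≫ Spec.map (CommRingCat.ofHom (algebraMap A₁ D.B)) = g₁ →
      sp r ≫ g₁ = g₀ ≫ specMap μ → ∀ a, r (ε (algebraMap A₁ D.B a)) = ε₀ (algebraMap A D₀.B (μ a)) := by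
    intro A₁ R₁ _ r D ε g₁ μ e w a
    rw [← e, ← a₀, Category.assoc, sp, ← Spec.map_comp, ← Spec.map_comp, ← Spec.map_comp, ← Spec.map_comp] at w
    exact ConcreteCategory.congr_hom (Spec.map_injective w) a
  have hB : ∀ {R₁ : Type u} [CommRing R₁] {r : R₁ →+* R₀} {A₁ : Art Λ k} {D : Defo B₀ A₁ A₁.res.toRingHom}
      {ε : D.B ≃+* R₁} {i₁ : Spec B₀ ⟶ Spec (CommRingCat.of R₁)},
      i₁ ≫ Spec.map (CommRingCat.ofHom ε.toRingHom) = Spec.map (CommRingCat.ofHom D.β) → i₀ ≫ sp r = i₁ →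
      ∀ b, D₀.β (ε₀.symm (r (ε b))) = D.β b := by
    intro R₁ _ r A₁ D ε i₁ e v b
    haveI := hi ε₀
    have hi₀ : i₀ = Spec.map (CommRingCat.ofHom D₀.β) ≫ Spec.map (CommRingCat.ofHom ε₀.symm.toRingHom) := by
      rw [← b₀, Category.assoc, ← Spec.map_comp, ← CommRingCat.ofHom_comp,
        show ε₀.toRingHom.comp ε₀.symm.toRingHom = RingHom.id _ from RingHom.ext ε₀.apply_symm_apply,
        CommRingCat.ofHom_id, Spec.map_id, Category.comp_id]
    rw [← v, hi₀, sp, Category.assoc, Category.assoc, ← Spec.map_comp, ← Spec.map_comp, ← Spec.map_comp] at e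
    exact ConcreteCategory.congr_hom (Spec.map_injective e) b
  let q₁ : D₁.B →+* D₀.B := ε₀.symm.toRingHom.comp (r1.comp ε₁.toRingHom)
  let q₂ : D₂.B →+* D₀.B := ε₀.symm.toRingHom.comp (r2.comp ε₂.toRingHom)
  have hq₁ : ∀ z, ε₀ (q₁ z) = r1 (ε₁ z) := fun z => ε₀.apply_symm_apply _
  have hq₂ : ∀ z, ε₀ (q₂ z) = r2 (ε₂ z) := fun z => ε₀.apply_symm_apply _
  obtain ⟨E, r', r'', hr'a, hr'b, hr''a, hr''b, -, hrc, hrinj, hrsurj⟩ := exists_glue hfp hs q₁ q₂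
    (fun a => ε₀.injective ((hq₁ _).trans (hA a₁ w₁ a))) (fun b => hB b₁ v₁ b)
    (fun a => ε₀.injective ((hq₂ _).trans (hA a₂ w₂ a))) (fun b => hB b₂ v₂ b)
  choose θ hθ₁ hθ₂ using fun z => h.glue (ε₁ (r' z)) (ε₂ (r'' z)) (by rw [← hq₁, ← hq₂, hrc])
  let θh : E.B →+* R :=
    { toFun := θ
      map_one' := h.ext (by rw [hθ₁, map_one, map_one, map_one]) (by rw [hθ₂, map_one, map_one, map_one])
      map_mul' := fun u v => h.ext (by rw [hθ₁, map_mul p1, hθ₁, hθ₁, map_mul, map_mul])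
        (by rw [hθ₂, map_mul p2, hθ₂, hθ₂, map_mul, map_mul])
      map_zero' := h.ext (by rw [hθ₁, map_zero, map_zero, map_zero]) (by rw [hθ₂, map_zero, map_zero, map_zero])
      map_add' := fun u v => h.ext (by rw [hθ₁, map_add p1, hθ₁, hθ₁, map_add, map_add])
        (by rw [hθ₂, map_add p2, hθ₂, hθ₂, map_add, map_add]) }
  have hbij : Function.Bijective θh := by
    refine ⟨fun u v e => hrinj u v (ε₁.injective ?_) (ε₂.injective ?_), fun t => ?_⟩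
    · rw [← hθ₁, ← hθ₁]
      exact congrArg p1 e
    · rw [← hθ₂, ← hθ₂]
      exact congrArg p2 e
    · obtain ⟨z, hz₁, hz₂⟩ := hrsurj (ε₁.symm (p1 t)) (ε₂.symm (p2 t)) (ε₀.injective (by
        rw [hq₁, hq₂, ε₁.apply_symm_apply, ε₂.apply_symm_apply, h.comm_apply]))
      exact ⟨z, h.ext ((hθ₁ z).trans (by rw [hz₁, ε₁.apply_symm_apply])) ((hθ₂ z).trans (by rw [hz₂, ε₂.apply_symm_apply]))⟩
  let εE : E.B ≃+* R := RingEquiv.ofBijective θh hbij
  have hside : ∀ {A₁ : Art Λ k} {μ : B ⟶ A₁} {R₁ : Type u} [CommRing R₁] {p : R →+* R₁}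
      {D : Defo B₀ A₁ A₁.res.toRingHom} {ε : D.B ≃+* R₁} {r : E.B →+* D.B},
      (∀ z, p (θ z) = ε (r z)) → (∀ c, r (algebraMap B E.B c) = algebraMap A₁ D.B (μ c)) →
      sp p ≫ Spec.map (CommRingCat.ofHom εE.toRingHom) ≫ Spec.map (CommRingCat.ofHom (algebraMap B E.B)) =
        (Spec.map (CommRingCat.ofHom ε.toRingHom) ≫ Spec.map (CommRingCat.ofHom (algebraMap A₁ D.B))) ≫ specMap μ := by
    intro A₁ μ R₁ _ p D ε r hp hr
    rw [sp, ← Spec.map_comp, ← Spec.map_comp, ← Spec.map_comp, ← Spec.map_comp]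
    exact congrArg Spec.map (CommRingCat.hom_ext (RingHom.ext fun c => (hp _).trans (congrArg ε (hr c))))
  have hg : Spec.map (CommRingCat.ofHom εE.toRingHom) ≫ Spec.map (CommRingCat.ofHom (algebraMap B E.B)) = g :=
    h.hom_ext_spec _ _ ((hside hθ₁ hr'a).trans (by rw [a₁, e₁])) ((hside hθ₂ hr''a).trans (by rw [a₂, e₂]))
  have hi' : (i₁ ≫ sp p1) ≫ Spec.map (CommRingCat.ofHom εE.toRingHom) = Spec.map (CommRingCat.ofHom E.β) := by
    rw [Category.assoc, sp, ← Spec.map_comp,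
      show CommRingCat.ofHom εE.toRingHom ≫ CommRingCat.ofHom p1 =
        CommRingCat.ofHom r' ≫ CommRingCat.ofHom ε₁.toRingHom from CommRingCat.hom_ext (RingHom.ext hθ₁),
      Spec.map_comp, ← Category.assoc, b₁, ← Spec.map_comp]
    exact congrArg Spec.map (CommRingCat.hom_ext (RingHom.ext hr'b))
  haveI := hi εE
  refine ⟨?_, ?_⟩
  · haveI : Flat (Spec.map (CommRingCat.ofHom (algebraMap B E.B))) :=
      HasRingHomProperty.Spec_iff.mpr (RingHom.flat_algebraMap_iff.mpr E.flat)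
    rw [← hg]
    infer_instance
  · refine (toSch_isPullback E).of_iso (Iso.refl _) (asIso (Spec.map (CommRingCat.ofHom εE.toRingHom))).symm
      (Iso.refl _) (Iso.refl _) ?_ ?_ ?_ ?_
    · simp only [Iso.refl_hom, Category.id_comp, Iso.symm_hom, asIso_inv, IsIso.comp_inv_eq]
      exact hi'.symm
    · simp only [Iso.refl_hom, Category.id_comp, Category.comp_id]
      rfl
    · simp only [Iso.refl_hom, Category.comp_id, Iso.symm_hom, asIso_inv, IsIso.eq_inv_comp]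
      exact hg
    · simp

end Affine

section Glue

open Groth.L20.Pinch

variable {X : Scheme.{u}} {x : X ⟶ specPt k}
variable {B A A' A'' : Art Λ k} {p' : B ⟶ A'} {p'' : B ⟶ A''} {f' : A' ⟶ A} {f'' : A'' ⟶ A}

set_option maxHeartbeats 800000 in
theorem exists_sglue' (hfp : IsFibreProd p' p'' f' f'') (hs : Function.Surjective f'') {ξ' : DefSch X x A'}
    {ξ'' : DefSch X x A''} {ξ₀ : DefSch X x A} {c' : ξ₀.total ⟶ ξ'.total} (hc' : c' ≫ ξ'.f = ξ₀.f ≫ specMap f')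
    (hi' : ξ₀.i ≫ c' = ξ'.i) {c'' : ξ₀.total ⟶ ξ''.total} (hc'' : c'' ≫ ξ''.f = ξ₀.f ≫ specMap f'')
    (hi'' : ξ₀.i ≫ c'' = ξ''.i) :
    ∃ (ξ : DefSch X x B) (b : ξ'.total ⟶ ξ.total) (a : ξ''.total ⟶ ξ.total),
      (b ≫ ξ.f = ξ'.f ≫ specMap p' ∧ ξ'.i ≫ b = ξ.i) ∧ (a ≫ ξ.f = ξ''.f ≫ specMap p'' ∧ ξ''.i ≫ a = ξ.i) ∧
      c' ≫ b = c'' ≫ a ∧
      (∀ {T : Scheme.{u}} (s' : ξ'.total ⟶ T) (s'' : ξ''.total ⟶ T), c' ≫ s' = c'' ≫ s'' →
        ∃ H : ξ.total ⟶ T, b ≫ H = s' ∧ a ≫ H = s'') ∧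
      ∀ {T : Scheme.{u}} (h h' : ξ.total ⟶ T), b ≫ h = b ≫ h' → a ≫ h = a ≫ h' → h = h' := by
  haveI : IsClosedImmersion c'' := isClosedImmersion_of_over hs hc'' hi''
  have hstd : Std c'' c' := fun y => by
    obtain ⟨V, hV, hy, -⟩ := exists_isAffineOpen_mem_and_subset (X := ξ'.total) (x := y) (U := ⊤)
      (TopologicalSpace.Opens.mem_top _)
    obtain ⟨U, hU⟩ := exists_open ξ'' (ξ'.i ⁻¹ᵁ V)
    have hUa : IsAffineOpen U := isAffineOpen_of_preimage ξ'' (by rw [hU]; exact hV.preimage ξ'.i)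
    refine ⟨⟨U, V, hUa, hV, Groth.L20.ThickAffine.preimage_inj ξ₀.i (surjective_i ξ₀) ?_⟩, hy⟩
    show (ξ₀.i ≫ c'') ⁻¹ᵁ U = (ξ₀.i ≫ c') ⁻¹ᵁ V
    rw [hi', hi'', hU]
  obtain ⟨P, a, b, hP⟩ := hstd.exists_isPinch
  obtain ⟨g, hga, hgb⟩ := hP.exists_desc (ξ''.f ≫ specMap p'') (ξ'.f ≫ specMap p') (by
    rw [reassoc_of% hc'', reassoc_of% hc', ← Art.specMap_comp, ← Art.specMap_comp, hfp.w])
  let iP : X ⟶ P := ξ'.i ≫ b
  have hiP : ξ''.i ≫ a = iP := by rw [← hi'', Category.assoc, hP.comm, reassoc_of% hi']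
  choose kk u hu hp hX hY _ hYr using hP.chart
  let 𝒰 : P.OpenCover :=
    { I₀ := P
      X := fun p => (kk p).spec
      f := u
      mem₀ := (Scheme.ofArrows_mem_precoverage_iff _).mpr ⟨fun p => ⟨p, hp p⟩, hu⟩ }
  have key : ∀ p, ∃ (W : X.Opens) (hW : IsAffineOpen W) (i : Spec Γ(X, W) ⟶ (kk p).spec),
      IsPullback i hW.fromSpec (u p) iP ∧ Flat (u p ≫ g) ∧
        IsPullback i (hW.fromSpec ≫ x) (u p ≫ g) (specRes B) := by
    intro p
    haveI := hu p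
    let K := kk p
    let W := ξ'.i ⁻¹ᵁ K.V
    have hW : IsAffineOpen W := K.hV.preimage ξ'.i
    have e₀ : ξ₀.i ⁻¹ᵁ (c'' ⁻¹ᵁ K.U) = W := by
      show (ξ₀.i ≫ c'') ⁻¹ᵁ K.U = W
      rw [Scheme.Hom.comp_preimage, K.eq, ← Scheme.Hom.comp_preimage, hi']
    have e₂ : ξ''.i ⁻¹ᵁ K.U = W := by
      rw [← hi'']
      exact e₀
    let d₁ := restrictAff ξ' K.hV hW rfl
    let d₂ := restrictAff ξ'' K.hU hW e₂
    let d₀ := restrictAff ξ₀ K.hW hW e₀
    haveI := d₁.flat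
    haveI := d₂.flat
    haveI := d₀.flat
    obtain ⟨hfl, hpb⟩ := @affine_pinch _ _ _ _ _ _ _ _ _ _ _ _ _ hfp hs _ (hW.fromSpec ≫ x) K.R _ _ _ _ _ _ _
      _ _ _ _ K.isFib d₁.f d₁.flat d₁.i d₁.isPullback d₂.f d₂.flat d₂.i d₂.isPullback d₀.f d₀.flat d₀.i d₀.isPullback
      (show Spec.map (c'.appLE K.V (c'' ⁻¹ᵁ K.U) K.eq.le) ≫ K.hV.fromSpec ≫ ξ'.f =
          (K.hW.fromSpec ≫ ξ₀.f) ≫ specMap f' by
        rw [← Category.assoc, ← K.spec_j, Category.assoc, hc', Category.assoc])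
      (show Spec.map (ξ₀.i.appLE (c'' ⁻¹ᵁ K.U) W e₀.ge) ≫ Spec.map (c'.appLE K.V (c'' ⁻¹ᵁ K.U) K.eq.le) =
          Spec.map (ξ'.i.appLE K.V W le_rfl) by
        rw [← cancel_mono K.hV.fromSpec, Category.assoc, ← K.spec_j, ← Category.assoc,
          IsAffineOpen.SpecMap_appLE_fromSpec ξ₀.i K.hW hW, IsAffineOpen.SpecMap_appLE_fromSpec ξ'.i K.hV hW,
          Category.assoc, hi'])
      (show Spec.map (c''.app K.U) ≫ K.hU.fromSpec ≫ ξ''.f = (K.hW.fromSpec ≫ ξ₀.f) ≫ specMap f'' by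
        rw [← Category.assoc, ← K.spec_i, Category.assoc, hc'', Category.assoc])
      (show Spec.map (ξ₀.i.appLE (c'' ⁻¹ᵁ K.U) W e₀.ge) ≫ Spec.map (c''.app K.U) =
          Spec.map (ξ''.i.appLE K.U W e₂.ge) by
        rw [← cancel_mono K.hU.fromSpec, Category.assoc, ← K.spec_i, ← Category.assoc,
          IsAffineOpen.SpecMap_appLE_fromSpec ξ₀.i K.hW hW, IsAffineOpen.SpecMap_appLE_fromSpec ξ''.i K.hU hW,
          Category.assoc, hi''])
      (u p ≫ g)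
      (show K.inY ≫ u p ≫ g = (K.hV.fromSpec ≫ ξ'.f) ≫ specMap p' by
        rw [← Category.assoc, ← hY p, Category.assoc, hgb, Category.assoc])
      (show K.inX ≫ u p ≫ g = (K.hU.fromSpec ≫ ξ''.f) ≫ specMap p'' by
        rw [← Category.assoc, ← hX p, Category.assoc, hga, Category.assoc])
    refine ⟨W, hW, _, IsOpenImmersion.isPullback _ _ _ _ ?_ ?_, hfl, hpb⟩
    · show hW.fromSpec ≫ ξ'.i ≫ b = (Spec.map (ξ'.i.appLE K.V W le_rfl) ≫ K.inY) ≫ u p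
      rw [Category.assoc, ← hY p, ← Category.assoc, ← Category.assoc,
        IsAffineOpen.SpecMap_appLE_fromSpec ξ'.i K.hV hW]
    · rw [hW.opensRange_fromSpec]
      show (ξ'.i ≫ b) ⁻¹ᵁ _ = W
      rw [Scheme.Hom.comp_preimage, show b ⁻¹ᵁ (u p).opensRange = K.V from TopologicalSpace.Opens.ext (hYr p)]
  choose W hW i hsq hfl hpb using key
  haveI : Flat g := IsZariskiLocalAtSource.of_openCover 𝒰 hfl
  have hpbP : IsPullback iP x g (specRes B) := by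
    refine Scheme.isPullback_of_openCover iP x g (specRes B) 𝒰 fun p => ?_
    refine (hpb p).of_iso (hsq p).flip.isoPullback (Iso.refl _) (Iso.refl _) (Iso.refl _) ?_ ?_ ?_ ?_
    · simp only [Iso.refl_hom, Category.comp_id]
      exact ((hsq p).flip.isoPullback_hom_snd).symm
    · simp only [Iso.refl_hom, Category.comp_id]
      show _ = (hsq p).flip.isoPullback.hom ≫ pullback.fst iP (u p) ≫ x
      rw [(hsq p).flip.isoPullback_hom_fst_assoc]
    · simp only [Iso.refl_hom, Category.comp_id, Category.id_comp]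
      rfl
    · simp
  let ξ : DefSch X x B := { total := P, f := g, flat := inferInstance, i := iP, isPullback := hpbP }
  refine ⟨ξ, b, a, ⟨hgb, rfl⟩, ⟨hga, hiP⟩, hP.comm.symm, fun s' s'' e => ?_, fun h h' e1 e2 => hP.hom_ext h h' e2 e1⟩
  obtain ⟨H, hHa, hHb⟩ := hP.exists_desc s'' s' e.symm
  exact ⟨H, hHb, hHa⟩

theorem exists_sglue (hfp : IsFibreProd p' p'' f' f'') (hs : Function.Surjective f'') {ξ' : DefSch X x A'}
    {ξ'' : DefSch X x A''} {ξ₀ : DefSch X x A} {c' : ξ₀.total ⟶ ξ'.total} (hc' : c' ≫ ξ'.f = ξ₀.f ≫ specMap f')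
    (hi' : ξ₀.i ≫ c' = ξ'.i) {c'' : ξ₀.total ⟶ ξ''.total} (hc'' : c'' ≫ ξ''.f = ξ₀.f ≫ specMap f'')
    (hi'' : ξ₀.i ≫ c'' = ξ''.i) :
    ∃ (ξ : DefSch X x B) (b : ξ'.total ⟶ ξ.total) (a : ξ''.total ⟶ ξ.total),
      (b ≫ ξ.f = ξ'.f ≫ specMap p' ∧ ξ'.i ≫ b = ξ.i) ∧ (a ≫ ξ.f = ξ''.f ≫ specMap p'' ∧ ξ''.i ≫ a = ξ.i) ∧
      c' ≫ b = c'' ≫ a ∧
      ∀ (z : DefSch X x B) (s' : ξ'.total ⟶ z.total) (s'' : ξ''.total ⟶ z.total),
        s' ≫ z.f = ξ'.f ≫ specMap p' → ξ'.i ≫ s' = z.i → s'' ≫ z.f = ξ''.f ≫ specMap p'' →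
        c' ≫ s' = c'' ≫ s'' → ξ.cl = z.cl := by
  obtain ⟨ξ, b, a, hb, ha, hab, hdesc, hext⟩ := exists_sglue' hfp hs hc' hi' hc'' hi''
  refine ⟨ξ, b, a, hb, ha, hab, fun z s' s'' h1 h2 h3 h4 => ?_⟩
  obtain ⟨H, hHb, hHa⟩ := hdesc s' s'' h4
  refine cl_eq_of_hom (ξ₁ := ξ) (ξ₂ := z) H (hext _ _ ?_ ?_) ?_
  · rw [reassoc_of% hHb, h1, hb.1]
  · rw [reassoc_of% hHa, h3, ha.1]
  · rw [← hb.2, Category.assoc, hHb, h2]

variable (X x)

theorem isIso_i_base (ξ : DefSch X x (Art.base Λ k)) : IsIso ξ.i := ξ.isPullback.isIso_fst_of_isIso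

theorem h0_sch : H0 (defFunctor (Λ := Λ) X x) := by
  refine ⟨⟨(DefSch.self X x inferInstance).cl⟩, ⟨fun c c' => ?_⟩⟩
  induction c using Quotient.inductionOn with
  | h ξ => induction c' using Quotient.inductionOn with
    | h ξ' =>
      haveI := isIso_i_base X x ξ
      refine cl_eq_of_hom (ξ₁ := ξ) (ξ₂ := ξ') (inv ξ.i ≫ ξ'.i) ?_ (IsIso.hom_inv_id_assoc _ _)
      rw [Category.assoc, IsIso.inv_comp_eq, ξ'.i_f, ξ.i_f]

theorem s1_sch : S1 (defFunctor (Λ := Λ) X x) := by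
  intro B A A' A'' p' p'' f' f'' hfp hs
  rintro ⟨⟨z', z''⟩, h⟩
  induction z' using Quotient.inductionOn with
  | h ξ' => induction z'' using Quotient.inductionOn with
    | h ξ'' =>
      obtain ⟨c', hc', hi'⟩ := (map_cl_iff f' ξ' (ξ''.baseChange f'')).mp h
      obtain ⟨ξ, b, a, h1, h2, -, -⟩ := exists_sglue hfp hs hc' hi'
        (c'' := pullback.fst ξ''.f (specMap f'')) pullback.condition (DefSch.baseChange_i_fst _ _)
      exact ⟨ξ.cl, FibProd.ext ((map_cl_iff p' ξ ξ').mpr ⟨b, h1⟩) ((map_cl_iff p'' ξ ξ'').mpr ⟨a, h2⟩)⟩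

theorem heps_sch : Heps (defFunctor (Λ := Λ) X x) := by
  intro B A' p' p'' hfp
  refine ⟨fun z z' e => ?_, s1_sch X x p' p'' _ _ hfp (dual Λ k).res_surjective⟩
  induction z using Quotient.inductionOn with
  | h ξ => induction z' using Quotient.inductionOn with
    | h ζ =>
      let ξ₀ : DefSch X x (Art.base Λ k) := DefSch.self X x inferInstance
      have hto : ∀ {C : Art Λ k} (μ : C ⟶ Art.base Λ k) (η : DefSch X x C),
          η.i ≫ η.f = x ≫ specMap μ := fun {C} μ η => by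
        rw [η.i_f, eq_toBase μ]
        rfl
      let ξ' := ξ.baseChange p'
      let ξ'' := ξ.baseChange p''
      obtain ⟨η, -, -, -, -, -, huniv⟩ := exists_sglue hfp (dual Λ k).res_surjective (ξ₀ := ξ₀) (ξ' := ξ') (ξ'' := ξ'')
        (c' := ξ'.i) (hto _ ξ') (Category.id_comp _) (c'' := ξ''.i) (hto _ ξ'') (Category.id_comp _)
      have key : ∀ ρ : DefSch X x B, OverS p' ρ ξ' → OverS p'' ρ ξ'' → η.cl = ρ.cl := by
        rintro ρ ⟨s', a1, a2⟩ ⟨s'', b1, b2⟩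
        exact huniv ρ s' s'' a1 a2 b1 (a2.trans b2.symm)
      have e1 := congrArg (fun t => t.1.1) e
      have e2 := congrArg (fun t => t.1.2) e
      exact (key ξ ((map_cl_iff p' ξ ξ').mp rfl) ((map_cl_iff p'' ξ ξ'').mp rfl)).symm.trans
        (key ζ ((map_cl_iff p' ζ ξ').mp e1.symm) ((map_cl_iff p'' ζ ξ'').mp e2.symm))

end Glue

end Groth.L14.DefLift
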