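import Groth.Agent.L14.DefLift.TangentFin
import Groth.Agent.L14.DefLift.DefTransfer
import Groth.Agent.L12.Criteria
import Mathlib.AlgebraicGeometry.Morphisms.Smooth

/-! # Hulls for affine schemes with finitely many non-smooth points -/

set_option autoImplicit false
set_option linter.style.haveILetI false
set_option backward.isDefEq.respectTransparency false

universe u

open CategoryTheory AlgebraicGeometry ArtFun ArtFun.Art

namespace Groth.L14.DefLift

variable {Λ k : Type u} [CommRing Λ] [Field k] [Algebra Λ k]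

theorem hasHull_spec [IsNoetherianRing Λ] (hk : Function.Surjective (algebraMap Λ k))
    (B₀ : Type u) [CommRing B₀] [Algebra k B₀] [Algebra.FiniteType k B₀]
    (h : {q : PrimeSpectrum B₀ | q ∉ Algebra.smoothLocus k B₀}.Finite) :
    HasHull (defFunctor (Λ := Λ) (Spec (CommRingCat.of B₀)) (Spec.map (CommRingCat.ofHom (algebraMap k B₀)))) := by
  haveI : Module.Finite Λ k := Module.Finite.of_surjective (Algebra.linearMap Λ k) hk
  obtain ⟨T⟩ := Groth.L12.nonempty_tangentStr (h0_defFunctor Λ k B₀) (heps_defFunctor Λ k B₀)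
  letI := T
  exact Groth.L12.hasHull_of (h0_defFunctor Λ k B₀) (s1_defFunctor Λ k B₀) (heps_defFunctor Λ k B₀)
    (hfin_defFunctor Λ B₀ h)
    (Groth.L12.der_injective_of_subsingleton (Groth.L12.subsingleton_derivation_of_surjective hk) _)

theorem mem_smoothLocus_of_smooth {B₀ : Type u} [CommRing B₀] [Algebra k B₀] [Algebra.FinitePresentation k B₀]
    (U : (Spec (CommRingCat.of B₀)).Opens)
    (hU : Smooth (U.ι ≫ Spec.map (CommRingCat.ofHom (algebraMap k B₀)))) (q : PrimeSpectrum B₀) (hq : q ∈ U) :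
    q ∈ Algebra.smoothLocus k B₀ := by
  obtain ⟨_, ⟨_, ⟨u, rfl⟩, rfl⟩, hqu, huU⟩ :=
    PrimeSpectrum.isBasis_basic_opens.exists_subset_of_mem_open (show q ∈ U.1 from hq) U.2
  let j : Spec (CommRingCat.of (Localization.Away u)) ⟶ Spec (CommRingCat.of B₀) :=
    Spec.map (CommRingCat.ofHom (algebraMap B₀ (Localization.Away u)))
  haveI : IsOpenImmersion j := IsOpenImmersion.of_isLocalization u
  have hr : Set.range j ⊆ Set.range U.ι := by
    rw [Scheme.Opens.range_ι]
    exact (PrimeSpectrum.localization_away_comap_range (Localization.Away u) u).le.trans huU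
  let l := IsOpenImmersion.lift U.ι j hr
  haveI : IsOpenImmersion (l ≫ U.ι) := by rw [IsOpenImmersion.lift_fac]; infer_instance
  haveI : IsOpenImmersion l := IsOpenImmersion.of_comp l U.ι
  haveI : Smooth (Spec.map (CommRingCat.ofHom (algebraMap k (Localization.Away u)))) := by
    rw [show Spec.map (CommRingCat.ofHom (algebraMap k (Localization.Away u))) =
      l ≫ U.ι ≫ Spec.map (CommRingCat.ofHom (algebraMap k B₀)) by
        rw [IsOpenImmersion.lift_fac_assoc, IsScalarTower.algebraMap_eq k B₀ (Localization.Away u),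
          CommRingCat.ofHom_comp, Spec.map_comp]]
    infer_instance
  have h1 : RingHom.Smooth (algebraMap k (Localization.Away u)) :=
    HasRingHomProperty.Spec_iff.mp (inferInstance : Smooth (Spec.map (CommRingCat.ofHom (algebraMap k (Localization.Away u)))))
  exact Algebra.basicOpen_subset_smoothLocus_iff_smooth.mpr (RingHom.smooth_algebraMap.mp h1) hqu

theorem hasHull_affine [IsNoetherianRing Λ] (hk : Function.Surjective (algebraMap Λ k))
    (X : Scheme.{u}) [IsAffine X] (x : X ⟶ Spec (CommRingCat.of k)) [LocallyOfFiniteType x]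
    (U : X.Opens) (hU : Smooth (U.ι ≫ x)) (hfin : ((U : Set X)ᶜ).Finite) :
    HasHull (defFunctor (Λ := Λ) X x) := by
  let φ : CommRingCat.of k ⟶ Γ(X, ⊤) := Spec.preimage (X.isoSpec.inv ≫ x)
  letI : Algebra k Γ(X, ⊤) := φ.hom.toAlgebra
  have hφ : Spec.map (CommRingCat.ofHom (algebraMap k Γ(X, ⊤))) = X.isoSpec.inv ≫ x := Spec.map_preimage _
  have he : X.isoSpec.hom ≫ Spec.map (CommRingCat.ofHom (algebraMap k Γ(X, ⊤))) = x := by
    rw [hφ, X.isoSpec.hom_inv_id_assoc]
  refine hasHull_of_iso X.isoSpec he ?_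
  haveI : Algebra.FiniteType k Γ(X, ⊤) := by
    rw [← RingHom.finiteType_algebraMap]
    refine HasRingHomProperty.Spec_iff (P := @LocallyOfFiniteType).mp ?_
    rw [show Spec.map φ = X.isoSpec.inv ≫ x from Spec.map_preimage _]
    infer_instance
  haveI : Algebra.FinitePresentation k Γ(X, ⊤) := Algebra.FinitePresentation.of_finiteType.mp inferInstance
  refine hasHull_spec hk Γ(X, ⊤) ?_
  let V : (Spec Γ(X, ⊤)).Opens := X.isoSpec.inv ⁻¹ᵁ U
  refine ((hfin.image X.isoSpec.hom).subset fun q hq => ⟨X.isoSpec.inv q, fun hU' => hq ?_, ?_⟩)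
  · refine mem_smoothLocus_of_smooth V ?_ q hU'
    rw [hφ, ← Category.assoc, ← morphismRestrict_ι]
    rw [Category.assoc]
    infer_instance
  · exact congrFun (congrArg (fun f => (f : Spec Γ(X, ⊤) ⟶ Spec Γ(X, ⊤)).base.hom.toFun) X.isoSpec.inv_hom_id) q

end Groth.L14.DefLift
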