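import Mathlib.RingTheory.Flat.Basic
import Mathlib.RingTheory.RingHom.Flat
import Mathlib.LinearAlgebra.TensorProduct.Quotient
import Mathlib.RingTheory.Artinian.Ring
import Mathlib.RingTheory.LocalRing.Basic
import Mathlib.RingTheory.Nakayama
import Mathlib.RingTheory.HopkinsLevitzki

/-! # Socle steps in flat algebras over Artinian local rings -/

set_option autoImplicit false
set_option linter.style.haveILetI false

universe u

open TensorProduct IsLocalRing

namespace Groth.L14.DefLift

variable {A R : Type u} [CommRing A] [IsLocalRing A] [CommRing R]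

/-- On a flat algebra, multiplication by a socle element is injective modulo the maximal ideal. -/
theorem mem_map_of_mul_mem (φ : A →+* R) (hφ : φ.Flat) {J : Ideal A} {t : A} (ht : t ∉ J)
    (hmt : ∀ a ∈ maximalIdeal A, a * t ∈ J) {r : R} (h : φ t * r ∈ J.map φ) : r ∈ (maximalIdeal A).map φ := by
  letI := φ.toAlgebra
  haveI : Module.Flat A R := hφ
  let g : (A ⧸ maximalIdeal A) →ₗ[A] A ⧸ J :=
    Submodule.liftQ _ ((Submodule.mkQ J).comp (LinearMap.toSpanSingleton A A t)) fun a ha => by
      simpa [LinearMap.mem_ker, ← map_mul, Ideal.Quotient.eq_zero_iff_mem] using hmt a ha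
  have hg : Function.Injective g := by
    rw [← LinearMap.ker_eq_bot, Submodule.eq_bot_iff]
    intro c hc
    obtain ⟨a, rfl⟩ := Submodule.Quotient.mk_surjective _ c
    have ha : a * t ∈ J := (Submodule.Quotient.mk_eq_zero _).mp (show Submodule.Quotient.mk (a • t) = 0 from hc)
    rw [Submodule.Quotient.mk_eq_zero]
    by_contra hm
    rw [mem_maximalIdeal, mem_nonunits_iff, not_not] at hm
    exact ht ((Submodule.smul_mem_iff_of_isUnit J hm).mp ha)
  let eJ := TensorProduct.quotTensorEquivQuotSMul R J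
  let em := TensorProduct.quotTensorEquivQuotSMul R (maximalIdeal A)
  have h1 : ((Ideal.Quotient.mk J t) ⊗ₜ[A] r : (A ⧸ J) ⊗[A] R) = 0 := by
    refine eJ.injective ((TensorProduct.quotTensorEquivQuotSMul_mk_tmul J t r).trans ?_)
    rw [map_zero, Submodule.Quotient.mk_eq_zero, Ideal.smul_top_eq_map, Submodule.restrictScalars_mem]
    rw [Algebra.smul_def]
    exact h
  have h2 : g.rTensor R ((Ideal.Quotient.mk (maximalIdeal A) 1) ⊗ₜ[A] r) = 0 := by
    rw [LinearMap.rTensor_tmul]
    refine Eq.trans ?_ h1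
    congr 1
    show Submodule.Quotient.mk ((1 : A) * t) = _
    rw [one_mul]
    rfl
  have h3 := Module.Flat.rTensor_preserves_injective_linearMap (M := R) g hg (h2.trans (map_zero _).symm)
  have h4 := congrArg em h3
  rw [map_zero] at h4
  have h5 := (TensorProduct.quotTensorEquivQuotSMul_mk_tmul (maximalIdeal A) (1 : A) r).symm.trans h4
  rwa [Submodule.Quotient.mk_eq_zero, one_smul, Ideal.smul_top_eq_map, Submodule.restrictScalars_mem] at h5

/-- A nonzero ideal of an Artinian local ring is a socle step over a smaller one. -/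
theorem exists_socle_step [IsArtinianRing A] {I : Ideal A} (hI : I ≠ ⊥) :
    ∃ (J : Ideal A) (t : A), J < I ∧ t ∈ I ∧ t ∉ J ∧ I = J ⊔ Ideal.span {t} ∧
      ∀ a ∈ maximalIdeal A, ∀ z ∈ I, a * z ∈ J := by
  haveI : IsNoetherianRing A := inferInstance
  obtain ⟨J, hJ, hmax⟩ := (wellFounded_gt (α := Ideal A)).has_min {J | J < I} ⟨⊥, bot_lt_iff_ne_bot.mpr hI⟩
  change J < I at hJ
  obtain ⟨t, htI, htJ⟩ := SetLike.exists_of_lt hJ
  have hspan : I = J ⊔ Ideal.span {t} := by
    refine (le_antisymm (sup_le hJ.le ((Ideal.span_singleton_le_iff_mem _).mpr htI)) ?_).symm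
    by_contra hne
    refine hmax (J ⊔ Ideal.span {t}) (lt_of_le_not_ge
      (sup_le hJ.le ((Ideal.span_singleton_le_iff_mem _).mpr htI)) hne) ?_
    exact lt_of_le_not_ge le_sup_left fun hle => htJ (hle (Ideal.mem_sup_right (Ideal.mem_span_singleton_self t)))
  refine ⟨J, t, hJ, htI, htJ, hspan, fun a ha z hz => ?_⟩
  by_contra hne
  have hle : J ⊔ maximalIdeal A • I ≤ I := sup_le hJ.le Submodule.smul_le_right
  have heq : J ⊔ maximalIdeal A • I = I := by
    by_contra hne'
    refine hmax _ (lt_of_le_of_ne hle hne') (lt_of_le_not_ge le_sup_left fun h => hne ?_)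
    exact h (Ideal.mem_sup_right (Submodule.smul_mem_smul ha hz))
  exact hJ.not_ge (Submodule.le_of_le_smul_of_le_jacobson_bot (IsNoetherian.noetherian I)
    (IsLocalRing.maximalIdeal_le_jacobson _) heq.ge)

end Groth.L14.DefLift
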