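import Groth.Agent.L14.DefLift.AutLift
import Groth.Agent.L14.DefLift.SqLemma
import Groth.Agent.L19.OmegaSh.Affine
import Groth.Prelude.Def_Omega3

/-! # Automorphisms of deformations and derivations of the structure sheaf -/

set_option autoImplicit false
set_option linter.style.haveILetI false
set_option linter.unusedSectionVars false
set_option backward.isDefEq.respectTransparency.types false
set_option backward.isDefEq.respectTransparency false

universe u

open CategoryTheory CategoryTheory.Limits AlgebraicGeometry TopologicalSpace Opposite ArtFun ArtFun.Art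

namespace Groth.L14.DefLift

open Groth.L18.Frame (rs ro rs_rs ro_ro rs_smul ro_self rs_self)

theorem appLE_congr_hom {P Q : Scheme.{u}} {f g : P ⟶ Q} (h : f = g) {U : Q.Opens} {V : P.Opens} (e : V ≤ f ⁻¹ᵁ U)
    (e' : V ≤ g ⁻¹ᵁ U) (r : Γ(Q, U)) : f.appLE U V e r = g.appLE U V e' r := by
  subst h
  rfl

variable {Λ k : Type u} [CommRing Λ] [Field k] [Algebra Λ k] {X : Scheme.{u}} {x : X ⟶ specPt k} {A : Art Λ k}

section Chart

variable (ξ : DefSch X x A)

/-- The structure map on sections of a deformation. -/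
noncomputable def baseS (V : ξ.total.Opens) : A →+* Γ(ξ.total, V) :=
  ((Scheme.ΓSpecIso (CommRingCat.of A)).inv ≫ ξ.f.appLE ⊤ V le_top).hom

theorem ro_baseS {V V' : ξ.total.Opens} (h : V' ≤ V) (a : A) : ro h (baseS ξ V a) = baseS ξ V' a :=
  ConcreteCategory.congr_hom (Scheme.Hom.appLE_map ξ.f (U := ⊤) (V := V) (V' := V') le_top (homOfLE h).op)
    ((Scheme.ΓSpecIso (CommRingCat.of A)).inv a)

theorem specMap_baseS {V : ξ.total.Opens} (hV : IsAffineOpen V) :
    Spec.map (CommRingCat.ofHom (baseS ξ V)) = hV.fromSpec ≫ ξ.f := by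
  rw [← IsAffineOpen.SpecMap_appLE_fromSpec ξ.f (isAffineOpen_top _) hV le_top, IsAffineOpen.fromSpec_top,
    Scheme.isoSpec_Spec_inv, baseS, CommRingCat.ofHom_hom, Spec.map_comp]

theorem appLE_baseS {V : ξ.total.Opens} {W : X.Opens} (h : W ≤ ξ.i ⁻¹ᵁ V) (a : A) :
    ξ.i.appLE V W h (baseS ξ V a) = x.appLE ⊤ W le_top ((Scheme.ΓSpecIso (CommRingCat.of k)).inv (A.res a)) := by
  have h1 : ξ.f.appLE ⊤ V le_top ≫ ξ.i.appLE V W h = (ξ.i ≫ ξ.f).appLE ⊤ W le_top :=
    Scheme.Hom.appLE_comp_appLE _ _ _ _ _ _ _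
  have h2 : (specRes A).appLE ⊤ ⊤ le_top ≫ x.appLE ⊤ W le_top = (x ≫ specRes A).appLE ⊤ W le_top :=
    Scheme.Hom.appLE_comp_appLE _ _ _ _ _ _ _
  refine (ConcreteCategory.congr_hom h1 _).trans ((appLE_congr_hom ξ.i_f _ le_top _).trans ?_)
  refine (ConcreteCategory.congr_hom h2 _).symm.trans (congrArg (x.appLE ⊤ W le_top) ?_)
  exact (Scheme.Hom.appLE_eq_app (specRes A) (U := ⊤)).symm ▸
    (ConcreteCategory.congr_hom (Scheme.ΓSpecIso_inv_naturality (CommRingCat.ofHom A.res.toRingHom)) a).symm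

theorem chart {V : ξ.total.Opens} (hV : IsAffineOpen V) {W : X.Opens} (hW : IsAffineOpen W) (e : ξ.i ⁻¹ᵁ V = W) :
    (baseS ξ V).Flat ∧ Function.Surjective (ξ.i.appLE V W e.ge) ∧
      ∀ r, ξ.i.appLE V W e.ge r = 0 ↔ r ∈ (IsLocalRing.maximalIdeal A).map (baseS ξ V) := by
  obtain ⟨ψ, hψ⟩ := Spec.map_surjective (hW.fromSpec ≫ x)
  letI : Algebra k Γ(X, W) := ψ.hom.toAlgebra
  obtain ⟨D, ε, ha, hb⟩ := exists_defo' (B₀ := Γ(X, W)) (R := Γ(ξ.total, V)) (hV.fromSpec ≫ ξ.f)
    (Spec.map (ξ.i.appLE V W e.ge)) (by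
      have h : IsPullback (Spec.map (ξ.i.appLE V W e.ge)) (hW.fromSpec ≫ x) (hV.fromSpec ≫ ξ.f) (specRes A) :=
        (restrictAff ξ hV hW e).isPullback
      rw [← hψ] at h
      exact h)
  rw [← specMap_baseS ξ hV, ← Spec.map_comp] at ha
  have h1 : ε.toRingHom.comp (algebraMap A D.B) = baseS ξ V :=
    congrArg CommRingCat.Hom.hom (Spec.map_injective ha)
  rw [← Spec.map_comp] at hb
  have h2 : ∀ z, ξ.i.appLE V W e.ge (ε z) = D.β z := ConcreteCategory.congr_hom (Spec.map_injective hb)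
  refine ⟨?_, fun b => ?_, fun r => ?_⟩
  · rw [← h1]
    exact RingHom.Flat.comp (RingHom.flat_algebraMap_iff.mpr D.flat) (RingHom.Flat.of_bijective ε.bijective)
  · obtain ⟨z, hz⟩ := D.surj b
    exact ⟨ε z, (h2 z).trans hz⟩
  · have hm : RingHom.ker A.res.toRingHom = IsLocalRing.maximalIdeal A :=
      Ideal.ext fun a => (RingHom.mem_ker.trans (A.mem_maximalIdeal_iff a).symm)
    obtain ⟨z, rfl⟩ := ε.surjective r
    rw [h2, ← h1, ← Ideal.map_map, ← hm, ← D.ker_eq]
    exact ⟨fun h => Ideal.mem_map_of_mem _ (RingHom.mem_ker.mpr h),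
      fun h => RingHom.mem_ker.mp ((Ideal.apply_mem_of_equiv_iff (f := ε)).mp h)⟩

theorem i_le_of_le {V V' : ξ.total.Opens} (h : ξ.i ⁻¹ᵁ V' ≤ ξ.i ⁻¹ᵁ V) : V' ≤ V := fun y hy => by
  obtain ⟨z, rfl⟩ := surjective_i ξ y
  exact h hy

theorem i_eq_of_eq {V V' : ξ.total.Opens} (h : ξ.i ⁻¹ᵁ V' = ξ.i ⁻¹ᵁ V) : V' = V :=
  le_antisymm (i_le_of_le ξ h.le) (i_le_of_le ξ h.ge)

end Chart

theorem ext_affine (G : X.Modules) {Z : X.Opens} (s t : Γ(G, Z))
    (h : ∀ (U : X.affineOpens) (hU : U.1 ≤ Z), rs G hU s = rs G hU t) : s = t :=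
  Groth.L19.OmegaSh.eq_of_good (f := 𝟙 X) s t fun U _ hU => h U hU

variable (x) in
/-- Every derivation of the structure sheaf vanishes. -/
def DerZero : Prop := ∀ (D : OmegaSh.Der x (Coh.structureModule X)) (U : X.Opens) (s : Γ(X, U)), D.app U s = 0

theorem exists_der (δ : ∀ U : X.affineOpens, Γ(X, U.1) → Γ(X, U.1))
    (hadd : ∀ U a b, δ U (a + b) = δ U a + δ U b)
    (hmul : ∀ U a b, δ U (a * b) = a * δ U b + b * δ U a)
    (hres : ∀ (U U' : X.affineOpens) (h : U'.1 ≤ U.1) a, δ U' (ro h a) = ro h (δ U a))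
    (hbase : ∀ (U : X.affineOpens) (c : k), δ U (x.appLE ⊤ U.1 le_top ((Scheme.ΓSpecIso (CommRingCat.of k)).inv c)) = 0) :
    ∃ D : OmegaSh.Der x (Coh.structureModule X), ∀ (U : X.affineOpens) a, D.app U.1 a = δ U a := by
  let M : X.Modules := Coh.structureModule X
  let B := fun U : X.affineOpens => (U : X.Opens)
  have hB : Opens.IsBasis (Set.range B) := by
    rw [Subtype.range_coe]
    exact X.isBasis_affineOpens
  let α : (inducedFunctor B).op ⋙ M.presheaf ⟶ (inducedFunctor B).op ⋙ M.presheaf :=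
    { app := fun p => AddCommGrpCat.ofHom (AddMonoidHom.mk' (δ p.unop) (hadd p.unop))
      naturality := fun p q g => by
        ext m
        exact hres p.unop q.unop g.unop.hom.le m }
  let Φ : M.presheaf ⟶ M.presheaf :=
    TopCat.Sheaf.restrictHomEquivHom M.presheaf ⟨M.presheaf, M.isSheaf⟩ hB α
  have hΦ : ∀ (U : X.affineOpens) (m : Γ(X, U.1)), Φ.app (op U.1) m = δ U m := fun U m =>
    ConcreteCategory.congr_hom (TopCat.Sheaf.extend_hom_app M.presheaf ⟨M.presheaf, M.isSheaf⟩ hB α U) m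
  have hn : ∀ {W W' : X.Opens} (h : W' ≤ W) (a : Γ(X, W)),
      ro h (Φ.app (op W) a) = (Φ.app (op W') (ro h a) : Γ(X, W')) := fun h a =>
    (ConcreteCategory.congr_hom (Φ.naturality (homOfLE h).op) a).symm
  refine ⟨{
    d := fun {W} => AddMonoidHom.mk' (fun a => Φ.app W a) fun a b => map_add (Φ.app W).hom a b
    d_mul := fun {W} (a b : Γ(X, W.unop)) => ext_affine M _ _ fun U h => by
      show ro h (show Γ(X, W.unop) from Φ.app (op W.unop) (a * b)) =
        ro h (a * (show Γ(X, W.unop) from Φ.app (op W.unop) b) + b * (show Γ(X, W.unop) from Φ.app (op W.unop) a))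
      simp only [hn, hΦ, map_add, map_mul, hmul]
    d_map := fun {W W'} g a => ConcreteCategory.congr_hom (Φ.naturality g) a
    d_app := fun {V} c => ext_affine M _ _ fun U h => by
      refine ((hn h (x.app V.unop c)).trans (hΦ U _)).trans (Eq.trans ?_ (map_zero (X.presheaf.map (homOfLE h).op).hom).symm)
      rcases isEmpty_or_nonempty U.1 with he | ⟨⟨z, hz⟩⟩
      · haveI : Subsingleton Γ(X, U.1) := by
          have : U.1 = ⊥ := Opens.ext (Set.isEmpty_coe_sort.mp he)
          rw [this]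
          infer_instance
        exact Subsingleton.elim _ _
      · obtain ⟨V⟩ := V
        obtain rfl : V = ⊤ := top_le_iff.mp fun p _ => (Subsingleton.elim (x z) p) ▸ h hz
        obtain ⟨c₀, rfl⟩ := (ConcreteCategory.bijective_of_isIso (Scheme.ΓSpecIso (CommRingCat.of k)).inv).2 c
        exact hbase U c₀ }, fun U a => hΦ U a⟩

set_option maxHeartbeats 800000 in
/-- Without derivations, deformations are rigid. -/
theorem hom_eq_id (h0 : DerZero x) (ξ : DefSch X x A) (e : ξ.Iso ξ) : e.iso.hom = 𝟙 ξ.total := by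
  have hbase : ∀ y, e.iso.hom y = y := fun y => by
    obtain ⟨z, rfl⟩ := surjective_i ξ y
    rw [← Scheme.Hom.comp_apply, e.i_hom]
  have hpre : ∀ V : ξ.total.Opens, V ≤ e.iso.hom ⁻¹ᵁ V := fun V y hy => by
    show e.iso.hom y ∈ V
    rw [hbase]
    exact hy
  let φ : ∀ V : ξ.total.Opens, Γ(ξ.total, V) →+* Γ(ξ.total, V) := fun V => (e.iso.hom.appLE V V (hpre V)).hom
  have φi : ∀ {V : ξ.total.Opens} {W : X.Opens} (h : W ≤ ξ.i ⁻¹ᵁ V) r,
      ξ.i.appLE V W h (φ V r) = ξ.i.appLE V W h r := fun {V W} h r => by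
    have h1 : e.iso.hom.appLE V V (hpre V) ≫ ξ.i.appLE V W h = (ξ.i ≫ e.iso.hom).appLE V W (by rw [e.i_hom]; exact h) :=
      Scheme.Hom.appLE_comp_appLE _ _ _ _ _ _ _
    exact (ConcreteCategory.congr_hom h1 r).trans (appLE_congr_hom e.i_hom _ _ r)
  have φb : ∀ (V : ξ.total.Opens) a, φ V (baseS ξ V a) = baseS ξ V a := fun V a => by
    have h1 : ξ.f.appLE ⊤ V le_top ≫ e.iso.hom.appLE V V (hpre V) = (e.iso.hom ≫ ξ.f).appLE ⊤ V le_top :=
      Scheme.Hom.appLE_comp_appLE _ _ _ _ _ _ _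
    exact (ConcreteCategory.congr_hom h1 _).trans (appLE_congr_hom e.hom_f _ le_top _)
  have φn : ∀ {V V' : ξ.total.Opens} (h : V' ≤ V) r, φ V' (ro h r) = ro h (φ V r) := fun {V V'} h r => by
    exact (ConcreteCategory.congr_hom (Scheme.Hom.map_appLE e.iso.hom (hpre V') (homOfLE h).op) r).trans
      (ConcreteCategory.congr_hom (Scheme.Hom.appLE_map e.iso.hom (hpre V) (homOfLE h).op) r).symm
  suffices H : ∀ I : Ideal A, (∀ V : ξ.total.Opens, IsAffineOpen V → ∀ r, φ V r - r ∈ I.map (baseS ξ V)) →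
      ∀ V : ξ.total.Opens, IsAffineOpen V → ∀ r, φ V r = r by
    have hid := H ⊤ fun V _ r => by
      rw [Ideal.map_top]
      exact Submodule.mem_top
    refine Scheme.Cover.hom_ext ξ.total.affineCover _ _ fun j => ?_
    let V := (ξ.total.affineCover.f j).opensRange
    have hV : IsAffineOpen V := isAffineOpen_opensRange _
    have hid' : e.iso.hom.appLE V V (hpre V) = 𝟙 _ := CommRingCat.hom_ext (RingHom.ext (hid V hV))
    have : hV.fromSpec ≫ e.iso.hom = hV.fromSpec := by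
      rw [← IsAffineOpen.SpecMap_appLE_fromSpec e.iso.hom hV hV (hpre V), hid', Spec.map_id, Category.id_comp]
    rw [← IsOpenImmersion.lift_fac hV.fromSpec (ξ.total.affineCover.f j) (by rw [hV.range_fromSpec]; rfl),
      Category.assoc, this, Category.assoc, Category.comp_id]
  intro I
  induction I using WellFoundedLT.induction with
  | ind I ih =>
    intro hI
    by_cases hI0 : I = ⊥
    · intro V hV r
      have := hI V hV r
      rwa [hI0, Ideal.map_bot, Ideal.mem_bot, sub_eq_zero] at this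
    obtain ⟨J, t, hJ, htI, htJ, hspan, hmI⟩ := exists_socle_step hI0
    refine ih J hJ ?_
    have htm : ∀ a ∈ IsLocalRing.maximalIdeal A, a * t ∈ J := fun a ha => hmI a ha t htI
    have hdec : ∀ {V : ξ.total.Opens}, IsAffineOpen V → ∀ r, ∃ s, φ V r - r - baseS ξ V t * s ∈ J.map (baseS ξ V) := by
      intro V hV r
      have h := hI V hV r
      rw [hspan, Ideal.map_sup, Ideal.map_span, Set.image_singleton] at h
      obtain ⟨j, hj, z, hz, e'⟩ := Submodule.mem_sup.mp h
      obtain ⟨s, rfl⟩ := Ideal.mem_span_singleton'.mp hz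
      exact ⟨s, by rw [← e', mul_comm (baseS ξ V t) s, add_sub_cancel_right]; exact hj⟩
    have hm0 : ∀ {V : ξ.total.Opens}, IsAffineOpen V → ∀ d, d ∈ (IsLocalRing.maximalIdeal A).map (baseS ξ V) →
        φ V d - d ∈ J.map (baseS ξ V) := by
      intro V hV d hd
      refine Submodule.span_induction (p := fun d _ => φ V d - d ∈ J.map (baseS ξ V)) ?_ ?_ ?_ ?_ hd
      · rintro _ ⟨a, -, rfl⟩
        rw [φb, sub_self]
        exact zero_mem _
      · rw [map_zero, sub_self]
        exact zero_mem _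
      · intro a b _ _ ha hb
        rw [map_add, add_sub_add_comm]
        exact add_mem ha hb
      · intro c d hd ha
        have h1 : d * (φ V c - c) ∈ J.map (baseS ξ V) := by
          refine Ideal.map_mono (f := baseS ξ V) (Ideal.mul_le.mpr hmI) ?_
          rw [Ideal.map_mul]
          exact Ideal.mul_mem_mul hd (hI V hV c)
        rw [smul_eq_mul, map_mul, show φ V c * φ V d - c * d = φ V c * (φ V d - d) + d * (φ V c - c) by ring]
        exact add_mem (Ideal.mul_mem_left _ _ ha) h1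
    have hwd : ∀ U : X.affineOpens, ∀ b : Γ(X, U.1), ∃ c, ∀ (V : ξ.total.Opens) (e' : ξ.i ⁻¹ᵁ V = U.1) r,
        ξ.i.appLE V U.1 e'.ge r = b → ∀ s, φ V r - r - baseS ξ V t * s ∈ J.map (baseS ξ V) →
          ξ.i.appLE V U.1 e'.ge s = c := by
      intro U b
      obtain ⟨V, hVU⟩ := exists_open ξ U.1
      have hV : IsAffineOpen V := isAffineOpen_of_preimage ξ (by rw [hVU]; exact U.2)
      obtain ⟨hfl, hsurj, hker⟩ := chart ξ hV U.2 hVU
      obtain ⟨r₀, hr₀⟩ := hsurj b
      obtain ⟨s₀, hs₀⟩ := hdec hV r₀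
      refine ⟨ξ.i.appLE V U.1 hVU.ge s₀, fun V' e' r hr s hs => ?_⟩
      obtain rfl : V' = V := i_eq_of_eq ξ (e'.trans hVU.symm)
      rw [← sub_eq_zero, ← map_sub, hker]
      refine mem_map_of_mul_mem _ hfl htJ htm ?_
      have hd := hm0 hV _ ((hker (r - r₀)).mp (by rw [map_sub, hr, hr₀, sub_self]))
      have h2 := sub_mem (sub_mem hd hs) (neg_mem hs₀)
      rw [map_sub] at h2
      convert h2 using 1
      ring
    choose δ hδ using hwd
    have hspec : ∀ U : X.affineOpens, ∀ b : Γ(X, U.1), ∃ (V : ξ.total.Opens) (_ : IsAffineOpen V)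
        (e' : ξ.i ⁻¹ᵁ V = U.1) (r s : Γ(ξ.total, V)), ξ.i.appLE V U.1 e'.ge r = b ∧
          φ V r - r - baseS ξ V t * s ∈ J.map (baseS ξ V) := by
      intro U b
      obtain ⟨V, hVU⟩ := exists_open ξ U.1
      have hV : IsAffineOpen V := isAffineOpen_of_preimage ξ (by rw [hVU]; exact U.2)
      obtain ⟨hfl, hsurj, hker⟩ := chart ξ hV U.2 hVU
      obtain ⟨r₀, hr₀⟩ := hsurj b
      obtain ⟨s₀, hs₀⟩ := hdec hV r₀
      exact ⟨V, hV, hVU, r₀, s₀, hr₀, hs₀⟩
    refine Exists.elim (exists_der (x := x) δ ?_ ?_ ?_ ?_) fun D hD => ?_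
    rotate_left 4
    · intro V hV r
      let U : X.affineOpens := ⟨ξ.i ⁻¹ᵁ V, hV.preimage ξ.i⟩
      obtain ⟨s, hs⟩ := hdec hV r
      have h1 : δ U (ξ.i.appLE V U.1 le_rfl r) = 0 := (hD U _).symm.trans (h0 D U.1 _)
      have h2 := hδ U _ V rfl r rfl s hs
      rw [h1] at h2
      obtain ⟨-, -, hker⟩ := chart ξ hV U.2 rfl
      have h3 := add_mem hs (show baseS ξ V t * s ∈ J.map (baseS ξ V) by
        refine Ideal.map_mono (f := baseS ξ V) (show Ideal.span {t} * IsLocalRing.maximalIdeal A ≤ J from ?_) ?_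
        · rw [Ideal.mul_le]
          intro a ha b hb
          obtain ⟨c, rfl⟩ := Ideal.mem_span_singleton'.mp ha
          rw [mul_comm, ← mul_assoc]
          exact htm _ (Ideal.mul_mem_right _ _ hb)
        · rw [Ideal.map_mul]
          exact Ideal.mul_mem_mul (Ideal.mem_map_of_mem _ (Ideal.mem_span_singleton_self t)) ((hker s).mp h2))
      rwa [sub_add_cancel] at h3
    · intro U a b
      obtain ⟨V, hV, e', r, s, hr, hs⟩ := hspec U a
      obtain ⟨V', hV', e'', r', s', hr', hs'⟩ := hspec U b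
      obtain rfl : V = V' := i_eq_of_eq ξ (e'.trans e''.symm)
      rw [← hδ U a _ e' r hr s hs, ← hδ U b _ e' r' hr' s' hs', ← map_add]
      refine (hδ U (a + b) _ e' (r + r') (by rw [map_add, hr, hr']) (s + s') ?_).symm
      convert add_mem hs hs' using 1
      rw [map_add]
      ring
    · intro U a b
      obtain ⟨V, hV, e', r, s, hr, hs⟩ := hspec U a
      obtain ⟨V', hV', e'', r', s', hr', hs'⟩ := hspec U b
      obtain rfl : V = V' := i_eq_of_eq ξ (e'.trans e''.symm)
      rw [← hδ U a _ e' r hr s hs, ← hδ U b _ e' r' hr' s' hs']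
      rw [hδ U (a * b) _ e' (r * r') (by rw [map_mul, hr, hr']) (φ V r * s' + r' * s) ?_ |>.symm]
      · rw [map_add, map_mul, map_mul, φi, hr, hr']
      · convert add_mem (Ideal.mul_mem_left _ (φ V r) hs') (Ideal.mul_mem_left _ r' hs) using 1
        rw [map_mul]
        ring
    · intro U U' h a
      obtain ⟨V, hV, e', r, s, hr, hs⟩ := hspec U a
      obtain ⟨V', hV'⟩ := exists_open ξ U'.1
      have hle : V' ≤ V := i_le_of_le ξ (hV'.le.trans (h.trans e'.ge))
      have hn : ∀ z, ξ.i.appLE V' U'.1 hV'.ge (ro hle z) = ro h (ξ.i.appLE V U.1 e'.ge z) := fun z =>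
        (ConcreteCategory.congr_hom (Scheme.Hom.map_appLE ξ.i hV'.ge (homOfLE hle).op) z).trans
          (ConcreteCategory.congr_hom (Scheme.Hom.appLE_map ξ.i e'.ge (homOfLE h).op) z).symm
      rw [← hδ U a _ e' r hr s hs, ← hn]
      refine (hδ U' _ _ hV' (ro hle r) (by rw [hn, hr]) (ro hle s) ?_).symm
      have h4 : J.map (baseS ξ V') = (J.map (baseS ξ V)).map (ξ.total.presheaf.map (homOfLE hle).op).hom := by
        rw [Ideal.map_map]
        congr 1
        exact RingHom.ext fun a => (ro_baseS ξ hle a).symm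
      rw [h4, φn, ← ro_baseS ξ hle t]
      have h5 := Ideal.mem_map_of_mem (ξ.total.presheaf.map (homOfLE hle).op).hom hs
      rw [map_sub, map_sub, map_mul] at h5
      exact h5
    · intro U c
      obtain ⟨V, hVU⟩ := exists_open ξ U.1
      obtain ⟨a, rfl⟩ := A.res_surjective c
      refine (hδ U _ V hVU (baseS ξ V a) (appLE_baseS ξ _ a) 0 ?_).symm.trans (map_zero _)
      rw [φb, sub_self, mul_zero, sub_zero]
      exact zero_mem _

end Groth.L14.DefLift
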