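import Groth.Agent.L14.DefLift.AutDer

/-! # Rigidity of deformations implies the vanishing of derivations -/

set_option autoImplicit false
set_option linter.style.haveILetI false
set_option linter.unusedSectionVars false
set_option backward.isDefEq.respectTransparency.types false
set_option backward.isDefEq.respectTransparency false

universe u

open CategoryTheory CategoryTheory.Limits AlgebraicGeometry TopologicalSpace Opposite ArtFun ArtFun.Art

namespace Groth.L14.DefLift

open Groth.L18.Frame (rs ro rs_rs ro_ro rs_smul ro_self rs_self)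

variable {k : Type u} [Field k] {X : Scheme.{u}} {x : X ⟶ specPt k}

theorem derZero_of_rigid
    (h : ∀ (A : Art k k) (ξ : DefSch X x A) (e : ξ.Iso ξ), e.iso.hom = 𝟙 ξ.total) : DerZero x := by
  intro D
  let A : Art k k := dual k k
  let ε : A := (DualNumber.eps : DualNumber k)
  let ξ : DefSch X x A := (DefSch.self X x inferInstance).baseChange (ofBase A)
  let p : ξ.total ⟶ X := pullback.fst x (specMap (ofBase A))
  have hip : ξ.i ≫ p = 𝟙 X := DefSch.baseChange_i_fst _ _
  let E : ∀ W : X.Opens, Γ(ξ.total, p ⁻¹ᵁ W) := fun W => baseS ξ (p ⁻¹ᵁ W) ε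
  have hee : ε * ε = 0 := DualNumber.eps_mul_eps
  have hE : ∀ W, E W * E W = 0 := fun W => by rw [← map_mul, hee, map_zero]
  let δ : ∀ W : X.Opens, Γ(X, W) →+ Γ(X, W) := fun W =>
    AddMonoidHom.mk' (fun a => OmegaSh.fnSect X W (D.app W a)) fun a b => by rw [map_add, map_add]
  have δmul : ∀ W (a b : Γ(X, W)), δ W (a * b) = a * δ W b + b * δ W a := fun W a b =>
    (congrArg (OmegaSh.fnSect X W) (D.d_mul (X := op W) a b)).trans (map_add _ _ _)
  have δres : ∀ {W W' : X.Opens} (hle : W' ≤ W) (a : Γ(X, W)), δ W' (ro hle a) = ro hle (δ W a) := fun hle a =>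
    D.d_map (homOfLE hle).op a
  have δone : ∀ W, δ W 1 = 0 := fun W => by
    have h1 := δmul W 1 1
    rw [one_mul, one_mul] at h1
    exact left_eq_add.mp h1
  let θ : ∀ W : X.Opens, Γ(X, W) →+* Γ(ξ.total, p ⁻¹ᵁ W) := fun W =>
    { toFun := fun a => p.app W a + p.app W (δ W a) * E W
      map_one' := by rw [δone, map_one, map_zero, zero_mul, add_zero]
      map_zero' := by rw [map_zero, map_zero, map_zero, zero_mul, add_zero]
      map_add' := fun a b => by rw [map_add, map_add, map_add]; ring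
      map_mul' := fun a b => by
        rw [δmul, map_add, map_mul, map_mul, map_mul]
        linear_combination -(p.app W (δ W a) * p.app W (δ W b)) * hE W }
  let c : X.presheaf ⟶ (TopCat.Presheaf.pushforward CommRingCat p.base).obj ξ.total.presheaf :=
    { app := fun W => CommRingCat.ofHom (θ W.unop)
      naturality := fun W W' g => by
        ext a
        show θ W'.unop (ro g.unop.le a) =
          ro (Scheme.Hom.preimage_mono p g.unop.le) (p.app W.unop a + p.app W.unop (δ W.unop a) * E W.unop)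
        have hp : ∀ z : Γ(X, W.unop), p.app W'.unop (ro g.unop.le z) =
            ro (Scheme.Hom.preimage_mono p g.unop.le) (p.app W.unop z) := fun z =>
          ConcreteCategory.congr_hom (p.naturality g) z
        show p.app W'.unop (ro g.unop.le a) + p.app W'.unop (δ W'.unop (ro g.unop.le a)) * E W'.unop = _
        rw [δres, hp, hp]
        exact ((map_add (ξ.total.presheaf.map (homOfLE (Scheme.Hom.preimage_mono p g.unop.le)).op).hom _ _).trans
          (congrArg₂ (· + ·) rfl ((map_mul (ξ.total.presheaf.map (homOfLE _).op).hom _ _).trans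
            (congrArg (_ * ·) (ro_baseS ξ _ ε))))).symm }
  let g : ξ.total ⟶ X := ⟨⟨⟨p.base, c⟩, fun z => ⟨fun s hs => by
    obtain ⟨U, hz, a, rfl⟩ := X.presheaf.germ_exist s
    have h1 : (PresheafedSpace.Hom.stalkMap (⟨p.base, c⟩ : ξ.total.toPresheafedSpace ⟶ X.toPresheafedSpace) z)
        (X.presheaf.germ U _ hz a) = ξ.total.presheaf.germ (p ⁻¹ᵁ U) z hz (θ U a) :=
      PresheafedSpace.stalkMap_germ_apply _ U z hz a
    rw [h1] at hs
    have h2 : IsUnit (ξ.total.presheaf.germ (p ⁻¹ᵁ U) z hz (p.app U a)) := by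
      have hnil : IsNilpotent (ξ.total.presheaf.germ (p ⁻¹ᵁ U) z hz (p.app U (δ U a) * E U)) :=
        ⟨2, by rw [pow_two, ← map_mul, mul_mul_mul_comm, hE, mul_zero, map_zero]⟩
      have h3 := hnil.neg.isUnit_add_right_of_commute hs (Commute.all _ _)
      refine (Eq.trans ?_ (neg_add_cancel_right (ξ.total.presheaf.germ (p ⁻¹ᵁ U) z hz (p.app U a))
        (ξ.total.presheaf.germ (p ⁻¹ᵁ U) z hz (p.app U (δ U a) * E U)))) ▸ h3
      rw [show (θ U a) = p.app U a + p.app U (δ U a) * E U from rfl, map_add]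
      ring
    rw [← Scheme.Hom.germ_stalkMap_apply p U z hz a] at h2
    exact (isUnit_map_iff (p.stalkMap z).hom _).mp h2⟩⟩⟩
  have hgx : g ≫ x = p ≫ x := by
    refine ext_of_isAffine ?_
    ext t
    show θ (x ⁻¹ᵁ ⊤) (x.app ⊤ t) = p.app (x ⁻¹ᵁ ⊤) (x.app ⊤ t)
    show p.app (x ⁻¹ᵁ ⊤) (x.app ⊤ t) + p.app _ (δ (x ⁻¹ᵁ ⊤) (x.app ⊤ t)) * E _ = _
    rw [show δ (x ⁻¹ᵁ ⊤) (x.app ⊤ t) = 0 from D.d_app (X := op ⊤) t, map_zero, zero_mul, add_zero]
  have hgi : ξ.i ≫ g = ξ.i ≫ p := by
    refine Scheme.Hom.ext rfl fun U => ?_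
    ext a
    have hiE : ξ.i.app (p ⁻¹ᵁ U) (E U) = 0 := by
      rw [Scheme.Hom.app_eq_appLE, appLE_baseS, show A.res ε = 0 from TrivSqZeroExt.fst_inr k (1 : k), map_zero,
        map_zero]
    show ro _ (ξ.i.app (p ⁻¹ᵁ U) (p.app U a + p.app U (δ U a) * E U)) = ξ.i.app (p ⁻¹ᵁ U) (p.app U a)
    rw [map_add, map_mul, hiE, mul_zero, add_zero]
    exact ro_self _ _
  have hφ : g ≫ x = pullback.snd x (specMap (ofBase A)) ≫ specMap (ofBase A) := hgx.trans pullback.condition
  let φ : ξ.total ⟶ ξ.total := pullback.lift g (pullback.snd x (specMap (ofBase A))) hφ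
  have hid : φ = 𝟙 ξ.total := h A ξ (autOf ξ φ (pullback.lift_snd _ _ _) (pullback.hom_ext
    (by rw [Category.assoc, pullback.lift_fst]; exact hgi)
    (by rw [Category.assoc]; exact congrArg _ (pullback.lift_snd _ _ _))))
  have hgp : g = p := by
    have h1 : φ ≫ p = g := pullback.lift_fst _ _ _
    rw [hid, Category.id_comp] at h1
    exact h1.symm
  have haff : ∀ (U : X.affineOpens) (a : Γ(X, U.1)), δ U.1 a = 0 := fun U a => by
    have hU : ξ.i ⁻¹ᵁ (p ⁻¹ᵁ U.1) = U.1 := by
      rw [← Scheme.Hom.comp_preimage, hip]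
      rfl
    have hV : IsAffineOpen (p ⁻¹ᵁ U.1) := isAffineOpen_of_preimage ξ (by rw [hU]; exact U.2)
    obtain ⟨hfl, -, hker⟩ := chart ξ hV U.2 hU
    have h1 : θ U.1 a = p.app U.1 a := by
      have h2 := appLE_congr_hom hgp (U := U.1) (V := p ⁻¹ᵁ U.1) le_rfl le_rfl a
      rw [← Scheme.Hom.app_eq_appLE] at h2
      exact h2.trans (ConcreteCategory.congr_hom (Scheme.Hom.app_eq_appLE p (U := U.1)) a).symm
    replace h1 : p.app U.1 (δ U.1 a) * E U.1 = 0 := left_eq_add.mp h1.symm
    have hne : ε ∉ (⊥ : Ideal A) := fun he => one_ne_zero (α := k)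
      (congrArg TrivSqZeroExt.snd (Ideal.mem_bot.mp he : (DualNumber.eps : DualNumber k) = 0))
    have hm : ∀ b ∈ IsLocalRing.maximalIdeal A, b * ε ∈ (⊥ : Ideal A) := fun b hb => by
      rw [Ideal.mem_bot]
      have hb0 : TrivSqZeroExt.fst b = 0 := (A.mem_maximalIdeal_iff b).mp hb
      refine TrivSqZeroExt.ext ?_ ?_
      · show TrivSqZeroExt.fst (b * ε) = 0
        rw [show TrivSqZeroExt.fst (b * ε) = TrivSqZeroExt.fst b * TrivSqZeroExt.fst ε from TrivSqZeroExt.fst_mul _ _,
          hb0, zero_mul]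
      · show TrivSqZeroExt.snd ((show DualNumber k from b) * (DualNumber.eps : DualNumber k)) = 0
        rw [TrivSqZeroExt.snd_mul, hb0, zero_smul, DualNumber.fst_eps, MulOpposite.op_zero, zero_smul, add_zero]
    have h3 := (hker _).mpr (mem_map_of_mul_mem (baseS ξ (p ⁻¹ᵁ U.1)) hfl hne hm (r := p.app U.1 (δ U.1 a)) (by
      rw [Ideal.map_bot, Ideal.mem_bot, mul_comm]
      exact h1))
    refine Eq.trans ?_ h3
    have h4 : p.app U.1 ≫ ξ.i.appLE (p ⁻¹ᵁ U.1) U.1 hU.ge = (ξ.i ≫ p).appLE U.1 U.1 hU.ge := by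
      rw [Scheme.Hom.app_eq_appLE, Scheme.Hom.appLE_comp_appLE]
    refine Eq.trans ?_ (ConcreteCategory.congr_hom h4 (δ U.1 a)).symm
    rw [appLE_congr_hom hip hU.ge le_rfl, Scheme.Hom.appLE]
    simp
    exact (ro_self le_rfl _).symm
  intro W a
  refine ext_affine (Coh.structureModule X) _ _ fun U hU => ?_
  refine Eq.trans ?_ (map_zero ((Coh.structureModule X).presheaf.map (homOfLE hU).op).hom).symm
  exact (δres hU a).symm.trans (haff U (ro hU a))

end Groth.L14.DefLift
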