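import Groth.Agent.L14.DefLift.SchGlue
import Groth.Agent.L12.ArtPullback

/-! # Lifting automorphisms of deformations and injectivity of the comparison maps -/

set_option autoImplicit false
set_option linter.style.haveILetI false
set_option linter.unusedSectionVars false
set_option backward.isDefEq.respectTransparency.types false

universe u

open CategoryTheory CategoryTheory.Limits AlgebraicGeometry ArtFun ArtFun.Art

namespace Groth.L14.DefLift

variable {Λ k : Type u} [CommRing Λ] [Field k] [Algebra Λ k] {X : Scheme.{u}} {x : X ⟶ specPt k}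

theorem isPullback_over {A A' : Art Λ k} {μ : A ⟶ A'} {ξ : DefSch X x A} {ξ' : DefSch X x A'}
    {c : ξ'.total ⟶ ξ.total} (hc : c ≫ ξ.f = ξ'.f ≫ specMap μ) (hci : ξ'.i ≫ c = ξ.i) :
    IsPullback c ξ'.f ξ.f (specMap μ) := by
  haveI := isIso_of_hom (ξ₁ := ξ') (ξ₂ := ξ.baseChange μ) (pullback.lift c ξ'.f hc) (pullback.lift_snd _ _ _)
    (pullback.hom_ext
      (((Category.assoc _ _ _).trans ((congrArg (_ ≫ ·) (pullback.lift_fst _ _ _)).trans hci)).trans
        (DefSch.baseChange_i_fst _ _).symm)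
      (((Category.assoc _ _ _).trans ((congrArg (_ ≫ ·) (pullback.lift_snd _ _ _)).trans ξ'.i_f)).trans
        (DefSch.baseChange_i_f _ _).symm))
  exact IsPullback.of_iso_pullback ⟨hc⟩ (asIso (pullback.lift c ξ'.f hc)) (pullback.lift_fst _ _ _)
    (pullback.lift_snd _ _ _)

/-- An endomorphism of a deformation is an automorphism. -/
noncomputable def autOf {A : Art Λ k} (ξ : DefSch X x A) (φ : ξ.total ⟶ ξ.total) (hf : φ ≫ ξ.f = ξ.f)
    (hi : ξ.i ≫ φ = ξ.i) : ξ.Iso ξ :=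
  haveI := isIso_of_hom φ hf hi
  ⟨asIso φ, hf, hi⟩

theorem iso_ext {A : Art Λ k} {ξ ξ' : DefSch X x A} {e e' : ξ.Iso ξ'} (h : e.iso.hom = e'.iso.hom) : e = e' := by
  obtain ⟨i, _, _⟩ := e
  obtain ⟨i', _, _⟩ := e'
  obtain rfl : i = i' := Iso.ext h
  rfl

variable {B A A' A'' : Art Λ k} {p' : B ⟶ A'} {p'' : B ⟶ A''} {f' : A' ⟶ A} {f'' : A'' ⟶ A}

/-- If automorphisms lift along `f''` then the comparison map is injective. -/
theorem cmp_injective (hfp : IsFibreProd p' p'' f' f'') (hs : Function.Surjective f'')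
    (haut : ∀ ξ'' : DefSch X x A'', Function.Surjective fun e : ξ''.Iso ξ'' => e.baseChange f'') :
    Function.Injective (cmp (defFunctor X x) hfp) := by
  intro z z' e
  induction z using Quotient.inductionOn with
  | h ξ => induction z' using Quotient.inductionOn with
    | h ζ =>
      let ξ₁ := ξ.baseChange p'
      let ξ₂ := ξ.baseChange p''
      let ξ₀ := ξ₂.baseChange f''
      obtain ⟨s₁, hs₁, hi₁⟩ := (map_cl_iff p' ζ ξ₁).mp (congrArg (fun t => t.1.1) e).symm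
      obtain ⟨s₂, hs₂, hi₂⟩ := (map_cl_iff p'' ζ ξ₂).mp (congrArg (fun t => t.1.2) e).symm
      have hw : specMap f'' ≫ specMap p'' = specMap f' ≫ specMap p' := by
        rw [← Art.specMap_comp, ← Art.specMap_comp, hfp.w]
      let c'' : ξ₀.total ⟶ ξ₂.total := pullback.fst ξ₂.f (specMap f'')
      have hc'' : c'' ≫ ξ₂.f = ξ₀.f ≫ specMap f'' := pullback.condition
      have hci'' : ξ₀.i ≫ c'' = ξ₂.i := DefSch.baseChange_i_fst _ _
      let c' : ξ₀.total ⟶ ξ₁.total := pullback.lift (c'' ≫ pullback.fst ξ.f (specMap p'')) (ξ₀.f ≫ specMap f')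
        (by rw [Category.assoc, pullback.condition, reassoc_of% hc'', hw, Category.assoc])
      have hc' : c' ≫ ξ₁.f = ξ₀.f ≫ specMap f' := pullback.lift_snd _ _ _
      have hci' : ξ₀.i ≫ c' = ξ₁.i := by
        refine pullback.hom_ext ?_ ?_
        · rw [Category.assoc, pullback.lift_fst, reassoc_of% hci'']
          exact (DefSch.baseChange_i_fst _ _).trans (DefSch.baseChange_i_fst _ _).symm
        · rw [Category.assoc, pullback.lift_snd, reassoc_of% ξ₀.i_f, specRes_comp]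
          exact (DefSch.baseChange_i_f _ _).symm
      obtain ⟨η, -, -, -, -, -, huniv⟩ := exists_sglue hfp hs hc' hci' hc'' hci''
      have h1 : η.cl = ξ.cl :=
        huniv ξ (pullback.fst ξ.f (specMap p')) (pullback.fst ξ.f (specMap p'')) pullback.condition
          (DefSch.baseChange_i_fst _ _) pullback.condition (pullback.lift_fst _ _ _)
      have hpb₂ := isPullback_over hs₂ hi₂
      let l : ξ₀.total ⟶ ξ₂.total := hpb₂.lift (c' ≫ s₁) (ξ₀.f ≫ specMap f'')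
        (by rw [Category.assoc, hs₁, reassoc_of% hc', Category.assoc, hw])
      have hl₁ : l ≫ s₂ = c' ≫ s₁ := hpb₂.lift_fst _ _ _
      have hl₂ : l ≫ ξ₂.f = ξ₀.f ≫ specMap f'' := hpb₂.lift_snd _ _ _
      have hli : ξ₀.i ≫ l = ξ₂.i := by
        refine hpb₂.hom_ext ?_ ?_
        · rw [Category.assoc, hl₁, reassoc_of% hci', hi₁, hi₂]
        · rw [Category.assoc, hl₂, reassoc_of% ξ₀.i_f, specRes_comp]
          exact ξ₂.i_f.symm
      obtain ⟨a, ha⟩ := haut ξ₂ (autOf ξ₀ (pullback.lift l ξ₀.f hl₂) (pullback.lift_snd _ _ _)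
        (pullback.hom_ext (by rw [Category.assoc, pullback.lift_fst, hli]; exact hci''.symm)
          (by rw [Category.assoc, pullback.lift_snd])))
      have hal : c'' ≫ a.iso.hom = l := by
        refine (DefSch.pullMap_fst a.iso.hom a.hom_f f'').symm.trans ?_
        exact (congrArg (fun t : ξ₀.Iso ξ₀ => t.iso.hom ≫ c'') ha).trans (pullback.lift_fst _ _ _)
      have h2 : η.cl = ζ.cl :=
        huniv ζ s₁ (a.iso.hom ≫ s₂) hs₁ hi₁ (by rw [Category.assoc, hs₂, reassoc_of% a.hom_f])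
          (by rw [reassoc_of% hal, hl₁])
      exact h1.symm.trans h2

/-- If the comparison map of `A' ×_A A'` is injective then automorphisms lift along `A' → A`. -/
theorem surjective_baseChange_aut {p₁ p₂ : B ⟶ A'} {p : A' ⟶ A} (hfp : IsFibreProd p₁ p₂ p p)
    (hs : Function.Surjective p) (hinj : Function.Injective (cmp (defFunctor X x) hfp)) (ξ' : DefSch X x A') :
    Function.Surjective fun e : ξ'.Iso ξ' => e.baseChange p := by
  intro τ
  let c := pullback.fst ξ'.f (specMap p)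
  have hτ : τ.iso.hom ≫ pullback.snd ξ'.f (specMap p) = pullback.snd ξ'.f (specMap p) := τ.hom_f
  have hτi : (ξ'.baseChange p).i ≫ τ.iso.hom = (ξ'.baseChange p).i := τ.i_hom
  have hc : c ≫ ξ'.f = (ξ'.baseChange p).f ≫ specMap p := pullback.condition
  have hci : (ξ'.baseChange p).i ≫ c = ξ'.i := DefSch.baseChange_i_fst _ _
  have hd : (τ.iso.hom ≫ c) ≫ ξ'.f = (ξ'.baseChange p).f ≫ specMap p := by
    rw [Category.assoc, hc, ← Category.assoc]
    exact congrArg (· ≫ specMap p) hτ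
  have hdi : (ξ'.baseChange p).i ≫ τ.iso.hom ≫ c = ξ'.i := by rw [reassoc_of% hτi, hci]
  obtain ⟨η₁, b, a, ⟨hb, hbi⟩, ⟨ha, hai⟩, hab, -⟩ := exists_sglue hfp hs hc hci hc hci
  obtain ⟨η₂, b₂, a₂, ⟨hb₂, hbi₂⟩, ⟨ha₂, hai₂⟩, hab₂, -⟩ := exists_sglue hfp hs hc hci hd hdi
  obtain ⟨φ⟩ := Quotient.exact (hinj (a₁ := η₁.cl) (a₂ := η₂.cl) (FibProd.ext
    (((map_cl_iff p₁ η₁ ξ').mpr ⟨b, hb, hbi⟩).trans ((map_cl_iff p₁ η₂ ξ').mpr ⟨b₂, hb₂, hbi₂⟩).symm)
    (((map_cl_iff p₂ η₁ ξ').mpr ⟨a, ha, hai⟩).trans ((map_cl_iff p₂ η₂ ξ').mpr ⟨a₂, ha₂, hai₂⟩).symm)))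
  have key : ∀ {q : B ⟶ A'} (s : ξ'.total ⟶ η₁.total) (s' : ξ'.total ⟶ η₂.total),
      s ≫ η₁.f = ξ'.f ≫ specMap q → ξ'.i ≫ s = η₁.i → s' ≫ η₂.f = ξ'.f ≫ specMap q → ξ'.i ≫ s' = η₂.i →
      ∃ e : ξ'.Iso ξ', e.iso.hom ≫ s' = s ≫ φ.iso.hom := by
    intro q s s' h1 h2 h3 h4
    have hpb := isPullback_over h3 h4
    refine ⟨autOf ξ' (hpb.lift (s ≫ φ.iso.hom) ξ'.f (by rw [Category.assoc, φ.hom_f, h1])) (hpb.lift_snd _ _ _)
      (hpb.hom_ext ?_ ?_), hpb.lift_fst _ _ _⟩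
    · rw [Category.assoc, hpb.lift_fst, reassoc_of% h2, h4]
      exact φ.i_hom
    · rw [Category.assoc, hpb.lift_snd]
  obtain ⟨α, hα⟩ := key b b₂ hb hbi hb₂ hbi₂
  obtain ⟨β, hβ⟩ := key a a₂ ha hai ha₂ hai₂
  refine ⟨α.symm.trans β, iso_ext (pullback.hom_ext ?_ ((DefSch.pullMap_snd _ (α.symm.trans β).hom_f _).trans hτ.symm))⟩
  refine (DefSch.pullMap_fst _ (α.symm.trans β).hom_f _).trans ((isPullback_over ha₂ hai₂).hom_ext ?_ ?_)
  · show (c ≫ α.iso.inv ≫ β.iso.hom) ≫ a₂ = (τ.iso.hom ≫ c) ≫ a₂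
    have hpm : DefSch.pullMap (ξ := ξ') (ξ' := ξ') α.iso.inv α.symm.hom_f p ≫ c = c ≫ α.iso.inv :=
      DefSch.pullMap_fst _ _ _
    rw [Category.assoc, Category.assoc, hβ, ← reassoc_of% hpm, ← reassoc_of% hab, reassoc_of% hpm, ← hα,
      Iso.inv_hom_id_assoc]
    exact hab₂
  · show (c ≫ α.iso.inv ≫ β.iso.hom) ≫ ξ'.f = (τ.iso.hom ≫ c) ≫ ξ'.f
    rw [Category.assoc, Category.assoc, β.hom_f, show α.iso.inv ≫ ξ'.f = ξ'.f from α.symm.hom_f, hd, hc]

end Groth.L14.DefLift
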