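import Groth.Agent.L14.DefLift.AutDer2
import Groth.Agent.L19.OmegaSh.Universal

/-! # Rigidity of deformations and homomorphisms from the differentials -/

set_option autoImplicit false
set_option linter.style.haveILetI false
set_option backward.isDefEq.respectTransparency.types false
set_option backward.isDefEq.respectTransparency false

universe u

open CategoryTheory CategoryTheory.Limits AlgebraicGeometry TopologicalSpace Opposite ArtFun ArtFun.Art

namespace Groth.L14.DefLift

variable {k : Type u} [Field k] {X : Scheme.{u}} (x : X ⟶ specPt k) [QuasiSeparated x]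

theorem derZero_iff : DerZero x ↔ Subsingleton (Omega.sheaf x ⟶ Coh.structureModule X) := by
  have huniv := Groth.L19.OmegaSh.isUniversal_dOmega (f := x)
  constructor
  · intro h
    refine ⟨fun α β => ?_⟩
    obtain ⟨γ, -, hγ⟩ := huniv _ ((OmegaSh.dOmega x).postcomp α.val)
    refine (hγ α rfl).trans (hγ β ?_).symm
    refine PresheafOfModules.Derivation.ext (funext fun U => AddMonoidHom.ext fun s => ?_)
    exact (h ((OmegaSh.dOmega x).postcomp β.val) U.unop s).trans
      (h ((OmegaSh.dOmega x).postcomp α.val) U.unop s).symm
  · intro h D U s
    obtain ⟨α, hα, -⟩ := huniv _ D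
    obtain rfl : α = 0 := Subsingleton.elim _ _
    rw [← hα]
    rfl

end Groth.L14.DefLift
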