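import Groth.Agent.L01.NilDescent
import Groth.Agent.L01.SqZeroFlat
import Mathlib.RingTheory.Artinian.Ring
import Mathlib.RingTheory.MvPolynomial.Ideal
import Mathlib.Algebra.Module.Projective
import Mathlib.RingTheory.RingHom.Flat
import Mathlib.LinearAlgebra.TensorProduct.Quotient

/-! # Lifting flat deformations of an algebra with vanishing obstructions -/

set_option autoImplicit false
set_option linter.style.haveILetI false

universe u

open MvPolynomial TensorProduct

namespace Groth.L14.DefLift

/-- Iterated Nakayama for a nilpotent ideal. -/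
theorem le_of_nilpotent {A M : Type u} [CommRing A] [AddCommGroup M] [Module A M] {m : Ideal A}
    (hm : IsNilpotent m) {N S : Submodule A M} (h : N ≤ S ⊔ m • N) : N ≤ S := by
  obtain ⟨k, hk⟩ := hm
  have key : ∀ j, N ≤ S ⊔ m ^ j • N := by
    intro j
    induction j with
    | zero => simp
    | succ j ih =>
      refine ih.trans (sup_le le_sup_left ((Submodule.smul_mono le_rfl h).trans ?_))
      rw [Submodule.smul_sup, ← Submodule.mul_smul, ← pow_succ]
      exact sup_le (Submodule.smul_le_right.trans le_sup_left) le_sup_right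
  simpa [hk] using key k

theorem map_mem_smul_top {A V W : Type u} [CommRing A] [AddCommGroup V] [Module A V] [AddCommGroup W] [Module A W]
    {m : Ideal A} (L : V →ₗ[A] W) {v : V} (hv : v ∈ m • (⊤ : Submodule A V)) : L v ∈ m • (⊤ : Submodule A W) := by
  have h := Submodule.mem_map_of_mem (f := L) hv
  rw [Submodule.map_smul''] at h
  exact Submodule.smul_mono le_rfl le_top h

variable {ι : Type u} {σ : Type u} [Fintype σ] {k : Type u} [Field k] {B₀ : Type u} [CommRing B₀] [Algebra k B₀]

/-- Relations. -/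
def Rel {R : Type u} [CommRing R] (f : σ → R) : Submodule R (σ → R) := LinearMap.ker (Fintype.linearCombination R f)

theorem comb_apply {R : Type u} [CommRing R] (f r : σ → R) :
    Fintype.linearCombination R f r = ∑ i, r i * f i := by simp [Fintype.linearCombination_apply]

theorem map_comb {R S : Type u} [CommRing R] [CommRing S] (φ : R →+* S) (f r : σ → R) :
    φ (Fintype.linearCombination R f r) = Fintype.linearCombination S (φ ∘ f) (φ ∘ r) := by
  simp [comb_apply]

variable (π₀ : MvPolynomial ι k →ₐ[k] B₀)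

/-- Every linear form on the relations killing the Koszul relations extends. -/
def Unobstructed [DecidableEq σ] (f : σ → MvPolynomial ι k) : Prop :=
  ∀ φ : Rel f →+ B₀, (∀ (a : MvPolynomial ι k) (r : Rel f), φ (a • r) = π₀ a * φ r) →
    (∀ (r : Rel f) (i j : σ), (r : σ → MvPolynomial ι k) =
      (Pi.single j (f i) : σ → MvPolynomial ι k) - Pi.single i (f j) → φ r = 0) →
    ∃ c : σ → B₀, ∀ r : Rel f, φ r = ∑ i, π₀ ((r : σ → _) i) * c i

variable (B₀) in
/-- A deformation of `B₀` over `A`. -/
structure Defo (A : Type u) [CommRing A] (ρ : A →+* k) where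
  B : Type u
  [ring : CommRing B]
  [alg : Algebra A B]
  flat : Module.Flat A B
  β : B →+* B₀
  surj : Function.Surjective β
  comm : ∀ a, β (algebraMap A B a) = algebraMap k B₀ (ρ a)
  ker_eq : RingHom.ker β = (RingHom.ker ρ).map (algebraMap A B)

attribute [instance] Defo.ring Defo.alg

variable {A A' : Type u} [CommRing A] [CommRing A'] (p : A' →+* A) {ρ : A →+* k}

/-- A lifting of a deformation along `p`. -/
def Lifts (D : Defo B₀ A ρ) : Prop :=
  ∃ (D' : Defo B₀ A' (ρ.comp p)) (q : D'.B →+* D.B), Function.Surjective q ∧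
    (∀ a, q (algebraMap A' D'.B a) = algebraMap A D.B (p a)) ∧ (∀ b, D.β (q b) = D'.β b) ∧
    RingHom.ker q = (RingHom.ker p).map (algebraMap A' D'.B)

variable {π₀} [DecidableEq σ] {f : σ → MvPolynomial ι k}

set_option maxHeartbeats 2000000 in
/-- The lifting step along a small extension. -/
theorem lifts_small (hπ₀ : Function.Surjective π₀) (hf : Ideal.span (Set.range f) = RingHom.ker π₀)
    (hun : Unobstructed π₀ f) (hp : Function.Surjective p) (hρ : Function.Surjective ρ)
    (hm : IsNilpotent (RingHom.ker ρ)) (hmax : ∀ a : A', ρ (p a) ≠ 0 → IsUnit a)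
    (u : A') (hu : RingHom.ker p = Ideal.span {u}) (hum : ∀ a : A', ρ (p a) = 0 → u * a = 0) (hu0 : u ≠ 0)
    (D : Defo B₀ A ρ) : Lifts p D := by
  classical
  haveI := D.flat
  haveI : (RingHom.ker ρ).IsMaximal := RingHom.ker_isMaximal_of_surjective ρ hρ
  let m := RingHom.ker ρ
  let B := D.B
  haveI : Module.Flat A (A ⊗[A] B) := Module.Flat.of_linearEquiv (TensorProduct.lid A B)
  haveI : Module.Free A B := Groth.L01.NilDescent.free_of_flat_baseChange m hm A Function.injective_id B
  let P := MvPolynomial ι A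
  let P' := MvPolynomial ι A'
  let res : P →+* MvPolynomial ι k := MvPolynomial.map ρ
  let Λ : P' →+* P := MvPolynomial.map p
  have hres : Function.Surjective res := MvPolynomial.map_surjective ρ hρ
  have hΛ : Function.Surjective Λ := MvPolynomial.map_surjective p hp
  have hkres : ∀ a : P, res a = 0 → a ∈ m • (⊤ : Submodule A P) := fun a ha => by
    rw [Ideal.smul_top_eq_map, Submodule.restrictScalars_mem, MvPolynomial.algebraMap_eq,
      ← MvPolynomial.ker_map ρ]
    exact ha
  have hresm : ∀ a : P, a ∈ m • (⊤ : Submodule A P) → res a = 0 := fun a ha => by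
    rw [Ideal.smul_top_eq_map, Submodule.restrictScalars_mem, MvPolynomial.algebraMap_eq,
      ← MvPolynomial.ker_map ρ] at ha
    exact ha
  have hkβ : ∀ b : B, D.β b = 0 → b ∈ m • (⊤ : Submodule A B) := fun b hb => by
    rw [Ideal.smul_top_eq_map, Submodule.restrictScalars_mem, ← D.ker_eq]
    exact hb
  -- a presentation of `B`
  choose x hx using fun i => D.surj (π₀ (X i))
  let πA : P →ₐ[A] B := aeval x
  have hβπ : ∀ a : P, D.β (πA a) = π₀ (res a) := by
    have : (D.β).comp πA.toRingHom = π₀.toRingHom.comp res := by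
      refine MvPolynomial.ringHom_ext (fun a => ?_) (fun i => ?_)
      · show D.β (aeval x (C a)) = π₀ (MvPolynomial.map ρ (C a))
        rw [MvPolynomial.aeval_C, D.comm, MvPolynomial.map_C]
        exact (π₀.commutes _).symm
      · show D.β (aeval x (X i)) = π₀ (MvPolynomial.map ρ (X i))
        rw [MvPolynomial.aeval_X, hx, MvPolynomial.map_X]
    exact RingHom.congr_fun this
  have hπA : Function.Surjective πA := by
    rw [← AlgHom.coe_toLinearMap, ← LinearMap.range_eq_top, eq_top_iff]
    refine le_of_nilpotent hm fun b _ => ?_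
    obtain ⟨a₀, ha₀⟩ := hπ₀ (D.β b)
    obtain ⟨a, rfl⟩ := hres a₀
    refine Submodule.mem_sup.mpr ⟨πA a, ⟨a, rfl⟩, b - πA a, hkβ _ ?_, add_sub_cancel _ _⟩
    rw [map_sub, hβπ, ha₀, sub_self]
  let IA : Submodule A P := LinearMap.ker πA.toLinearMap
  obtain ⟨s, hs⟩ := Module.projective_lifting_property πA.toLinearMap LinearMap.id hπA
  have hs' : ∀ b, πA (s b) = b := fun b => LinearMap.congr_fun hs b
  let qI : P →ₗ[A] IA := (LinearMap.id - s ∘ₗ πA.toLinearMap).codRestrict IA fun a => by
    show πA (a - s (πA a)) = 0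
    rw [map_sub, hs', sub_self]
  have hqI : ∀ a : IA, qI (a : P) = a := fun a => Subtype.ext (by
    show (a : P) - s (πA (a : P)) = a
    rw [show πA (a : P) = 0 from a.2, map_zero, sub_zero])
  haveI : Module.Projective A IA := Module.Projective.of_split IA.subtype qI (LinearMap.ext hqI)
  -- generators
  have hlift : ∀ i, ∃ a : P, πA a = 0 ∧ res a = f i := fun i => by
    obtain ⟨a, ha⟩ := hres (f i)
    refine ⟨qI a, (qI a).2, ?_⟩
    have h1 : πA a ∈ m • (⊤ : Submodule A B) := hkβ _ (by
      rw [hβπ, ha]; exact hf.le (Ideal.subset_span ⟨i, rfl⟩))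
    show res (a - s (πA a)) = f i
    rw [map_sub, hresm _ (map_mem_smul_top s h1), sub_zero, ha]
  choose fA hfA hfA' using hlift
  have hfAres : res ∘ fA = f := funext hfA'
  let ω : (σ → P) →ₗ[A] IA := ((Fintype.linearCombination P fA).restrictScalars A).codRestrict IA fun r => by
    show πA (Fintype.linearCombination P fA r) = 0
    simp [comb_apply, hfA]
  have hω : Function.Surjective ω := by
    rw [← LinearMap.range_eq_top, eq_top_iff]
    refine le_of_nilpotent hm fun a _ => ?_
    have h1 : res (a : P) ∈ RingHom.ker π₀ := by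
      show π₀ (res (a : P)) = 0
      rw [← hβπ, show πA (a : P) = 0 from a.2, map_zero]
    rw [← hf, Ideal.mem_span_range_iff_exists_fun] at h1
    obtain ⟨c₀, hc₀⟩ := h1
    choose c hc using fun i => hres (c₀ i)
    refine Submodule.mem_sup.mpr ⟨ω c, ⟨c, rfl⟩, a - ω c, ?_, add_sub_cancel _ _⟩
    rw [← hqI (a - ω c)]
    refine map_mem_smul_top qI (hkres _ ?_)
    show res ((a : P) - Fintype.linearCombination P fA c) = 0
    rw [map_sub, map_comb, hfAres, comb_apply, ← hc₀, sub_eq_zero]
    exact Finset.sum_congr rfl fun i _ => by rw [Function.comp_apply, hc]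
  obtain ⟨sI, hsI⟩ := Module.projective_lifting_property ω LinearMap.id hω
  let qR : (σ → P) →ₗ[A] (σ → P) := LinearMap.id - sI ∘ₗ ω
  have hqR : ∀ r, ω (qR r) = 0 := fun r => by
    simp only [qR, LinearMap.sub_apply, LinearMap.id_apply, LinearMap.comp_apply, map_sub]
    rw [show ω (sI (ω r)) = ω r from LinearMap.congr_fun hsI _, sub_self]
  have hω0 : ∀ r, ω r = 0 → qR r = r := fun r hr => by simp [qR, hr]
  have hωres : ∀ r : σ → P, res (ω r : P) = Fintype.linearCombination _ f (res ∘ r) := fun r => by
    show res (Fintype.linearCombination P fA r) = _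
    rw [map_comb, hfAres]
  have hpoint : ∀ r : σ → P, (∀ i, res (r i) = 0) → r ∈ m • (⊤ : Submodule A (σ → P)) := fun r hr => by
    have he : r = ∑ i, LinearMap.single A (fun _ : σ => P) i (r i) := (Finset.univ_sum_single r).symm
    rw [he]
    exact sum_mem fun i _ => map_mem_smul_top _ (hkres _ (hr i))
  have hmres : ∀ r : σ → P, r ∈ m • (⊤ : Submodule A (σ → P)) → res ∘ r = 0 := fun r hr =>
    funext fun i => hresm _ (map_mem_smul_top (LinearMap.proj i) hr)
  -- upstairs
  let res' : P' →+* MvPolynomial ι k := res.comp Λ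
  have hres' : Function.Surjective res' := hres.comp hΛ
  have hres'C : ∀ a : A', res' (C a) = C (ρ (p a)) := fun a => by
    show MvPolynomial.map ρ (MvPolynomial.map p (C a)) = _
    rw [MvPolynomial.map_C, MvPolynomial.map_C]
  have hup : p u = 0 := RingHom.mem_ker.mp (hu.ge (Ideal.subset_span rfl))
  have hkΛ : ∀ z : P', Λ z = 0 → ∃ w, z = C u * w := fun z hz => by
    have h1 : z ∈ RingHom.ker (MvPolynomial.map p) := hz
    rw [MvPolynomial.ker_map, hu, Ideal.map_span, Set.image_singleton, Ideal.mem_span_singleton] at h1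
    exact h1
  have hΛu : ∀ w : P', Λ (C u * w) = 0 := fun w => by
    show MvPolynomial.map p (C u * w) = 0
    rw [map_mul, MvPolynomial.map_C, hup, C_0, zero_mul]
  have hres'u : ∀ w : P', res' (C u * w) = 0 := fun w => (congrArg res (hΛu w)).trans (map_zero res)
  have hkill : ∀ w : P', res' w = 0 → C u * w = 0 := fun w hw => by
    refine MvPolynomial.ext _ _ fun d => ?_
    rw [coeff_C_mul, coeff_zero]
    refine hum _ ?_
    have h2 := congrArg (coeff d) hw
    rwa [show res' w = MvPolynomial.map ρ (MvPolynomial.map p w) from rfl, coeff_map, coeff_map, coeff_zero] at h2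
  have hcancel : ∀ z w : P', C u * z = C u * w → res' z = res' w := fun z w h => by
    rw [← sub_eq_zero, ← map_sub]
    refine MvPolynomial.ext _ _ fun d => ?_
    rw [show res' (z - w) = MvPolynomial.map ρ (MvPolynomial.map p (z - w)) from rfl, coeff_map, coeff_map, coeff_zero]
    by_contra hne
    have h2 : u * coeff d (z - w) = 0 := by rw [← coeff_C_mul, mul_sub, h, sub_self, coeff_zero]
    exact hu0 ((hmax _ hne).mul_left_eq_zero.mp h2)
  choose F hF using fun i => hΛ (fA i)
  have hFA : Λ ∘ F = fA := funext hF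
  have hΛF : ∀ r' : σ → P', Λ (Fintype.linearCombination P' F r') = (ω (Λ ∘ r') : P) := fun r' => by
    rw [map_comb, hFA]; rfl
  have hres'F : res' ∘ F = f := funext fun i => by
    show res (Λ (F i)) = f i
    rw [hF, hfA']
  have hπf : ∀ a : σ → MvPolynomial ι k, π₀ (Fintype.linearCombination _ f a) = 0 := fun a => by
    rw [comb_apply, map_sum]
    exact Finset.sum_eq_zero fun i _ => by
      rw [map_mul, show π₀ (f i) = 0 from hf.le (Ideal.subset_span ⟨i, rfl⟩), mul_zero]
  -- uniqueness of the obstruction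
  have key : ∀ (r' : σ → P') (z : P'), Fintype.linearCombination P' F r' = C u * z → res' ∘ r' = 0 →
      π₀ (res' z) = 0 := by
    intro r' z hz hr'
    have h0 : ω (Λ ∘ r') = 0 := Subtype.ext (by rw [← hΛF, hz, hΛu]; rfl)
    have h1 : Λ ∘ r' ∈ m • LinearMap.range qR := by
      rw [← hω0 _ h0, ← Submodule.map_top, ← Submodule.map_smul'']
      exact Submodule.mem_map_of_mem (hpoint _ fun i => congrFun hr' i)
    have h2 : ∀ y ∈ m • LinearMap.range qR, ∃ (y' : σ → P') (w : P'), Λ ∘ y' = y ∧
        Fintype.linearCombination P' F y' = C u * w ∧ π₀ (res' w) = 0 := by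
      intro y hy
      refine Submodule.smul_induction_on hy (fun a ha v hv => ?_) (fun y₁ y₂ h₁ h₂ => ?_)
      · obtain ⟨v, rfl⟩ := hv
        obtain ⟨a, rfl⟩ := hp a
        choose v' hv' using fun i => hΛ (qR v i)
        obtain ⟨w, hw⟩ := hkΛ (Fintype.linearCombination P' F v') (by
          rw [hΛF, show Λ ∘ v' = qR v from funext hv', hqR]; rfl)
        refine ⟨(C a : P') • v', C a * w, funext fun i => ?_, ?_, ?_⟩
        · show Λ (C a * v' i) = p a • qR v i
          rw [map_mul, hv', show Λ (C a) = C (p a) from MvPolynomial.map_C p a, Algebra.smul_def,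
            MvPolynomial.algebraMap_eq]
        · rw [map_smul, hw, smul_eq_mul]; ring
        · rw [map_mul, hres'C, RingHom.mem_ker.mp ha, C_0, zero_mul, map_zero]
      · obtain ⟨a₁, w₁, e₁, f₁, g₁⟩ := h₁
        obtain ⟨a₂, w₂, e₂, f₂, g₂⟩ := h₂
        refine ⟨a₁ + a₂, w₁ + w₂, funext fun i => ?_, by rw [map_add, f₁, f₂, mul_add], by
          rw [map_add, map_add, g₁, g₂, add_zero]⟩
        rw [← e₁, ← e₂]
        exact map_add Λ (a₁ i) (a₂ i)
    obtain ⟨y', w, hy', hw, hw0⟩ := h2 _ h1
    choose d hd using fun i => hkΛ (r' i - y' i) (by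
      rw [map_sub, sub_eq_zero]; exact (congrFun hy' i).symm)
    have h3 : C u * z = C u * (w + Fintype.linearCombination P' F d) := by
      rw [← hz, mul_add, ← hw, comb_apply, comb_apply, comb_apply, Finset.mul_sum, ← Finset.sum_add_distrib]
      refine Finset.sum_congr rfl fun i _ => ?_
      rw [← mul_assoc, ← hd]; ring
    rw [hcancel _ _ h3, map_add, map_add, hw0, zero_add, map_comb, hres'F]
    exact hπf _
  have hex : ∀ r₀ : Rel f, ∃ (r' : σ → P') (z : P'),
      res' ∘ r' = (r₀ : σ → _) ∧ Fintype.linearCombination P' F r' = C u * z := by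
    intro r₀
    choose r hr using fun i => hres ((r₀ : σ → _) i)
    have h1 : (ω r : P) ∈ m • (⊤ : Submodule A P) := hkres _ (by
      rw [hωres, show res ∘ r = r₀ from funext hr]; exact r₀.2)
    have h2 : sI (ω r) ∈ m • (⊤ : Submodule A (σ → P)) := by
      rw [← hqI (ω r)]
      exact map_mem_smul_top (sI ∘ₗ qI) h1
    choose r' hr' using fun i => hΛ (qR r i)
    obtain ⟨z, hz⟩ := hkΛ (Fintype.linearCombination P' F r') (by
      rw [hΛF, show Λ ∘ r' = qR r from funext hr', hqR]; rfl)
    refine ⟨r', z, funext fun i => ?_, hz⟩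
    show res (Λ (r' i)) = _
    rw [hr']
    show res (r i - sI (ω r) i) = _
    rw [map_sub, show res (sI (ω r) i) = 0 from congrFun (hmres _ h2) i, sub_zero, hr]
  choose R Z hR hRZ using hex
  have hwell : ∀ (r₀ : Rel f) (r' : σ → P') (z : P'), res' ∘ r' = (r₀ : σ → _) →
      Fintype.linearCombination P' F r' = C u * z → π₀ (res' (Z r₀)) = π₀ (res' z) := by
    intro r₀ r' z h1 h2
    rw [← sub_eq_zero, ← map_sub, ← map_sub]
    refine key (R r₀ - r') _ (by rw [map_sub, hRZ, h2, mul_sub]) (funext fun i => ?_)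
    show res' (R r₀ i - r' i) = 0
    rw [map_sub, sub_eq_zero]
    exact congrFun ((hR r₀).trans h1.symm) i
  let φ : Rel f →+ B₀ :=
    AddMonoidHom.mk' (fun r₀ => π₀ (res' (Z r₀))) fun a b => by
      rw [hwell (a + b) (R a + R b) (Z a + Z b) (funext fun i => ?_) (by rw [map_add, hRZ, hRZ, mul_add]),
        map_add, map_add]
      show res' (R a i + R b i) = (a : σ → _) i + (b : σ → _) i
      rw [map_add]
      exact congrArg₂ (· + ·) (congrFun (hR a) i) (congrFun (hR b) i)
  obtain ⟨c, hc⟩ := hun φ (fun a r => by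
      obtain ⟨a', ha'⟩ := hres' a
      show π₀ (res' (Z (a • r))) = π₀ a * π₀ (res' (Z r))
      rw [hwell (a • r) (a' • R r) (a' * Z r) (funext fun i => ?_) (by rw [map_smul, hRZ, smul_eq_mul]; ring),
        map_mul, map_mul, ha']
      show res' (a' * R r i) = a * (r : σ → _) i
      rw [map_mul, ha']
      exact congrArg _ (congrFun (hR r) i))
    (fun r i j hrij => by
      show π₀ (res' (Z r)) = 0
      rw [hwell r (Pi.single j (F i) - Pi.single i (F j)) 0 (funext fun l => ?_) (by
          rw [map_sub, Fintype.linearCombination_apply_single, Fintype.linearCombination_apply_single,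
            smul_eq_mul, smul_eq_mul, mul_zero, mul_comm, sub_self]), map_zero, map_zero]
      rw [hrij, Function.comp_apply, Pi.sub_apply, Pi.sub_apply, map_sub,
        Pi.apply_single (fun _ => res') (fun _ => map_zero res'), Pi.apply_single (fun _ => res') (fun _ => map_zero res'),
        show res' (F i) = f i from congrFun hres'F i, show res' (F j) = f j from congrFun hres'F j])
  choose e he using fun i => (hπ₀.comp hres') (c i)
  let F' : σ → P' := fun i => F i - C u * e i
  have hF'comb : ∀ r : σ → P', Fintype.linearCombination P' F r =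
      Fintype.linearCombination P' F' r + C u * Fintype.linearCombination P' e r := fun r => by
    simp only [comb_apply, F', Finset.mul_sum, ← Finset.sum_add_distrib]
    exact Finset.sum_congr rfl fun i _ => by ring
  have hΛF' : Λ ∘ F' = fA := funext fun i => by
    show Λ (F i - C u * e i) = fA i
    rw [map_sub, hΛu, sub_zero, hF]
  have hres'F' : res' ∘ F' = f := funext fun i => by
    show res (Λ (F' i)) = f i
    rw [show Λ (F' i) = fA i from congrFun hΛF' i, hfA']
  have key' : ∀ (r' : σ → P') (z : P'), Fintype.linearCombination P' F' r' = C u * z → π₀ (res' z) = 0 := by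
    intro r' z hz
    have h1 : Fintype.linearCombination P' F r' = C u * (z + Fintype.linearCombination P' e r') := by
      rw [hF'comb, hz, mul_add]
    have h2 : res' ∘ r' ∈ Rel f := by
      show Fintype.linearCombination _ f (res' ∘ r') = 0
      rw [← hres'F, ← map_comb, h1, hres'u]
    have h3 := hc ⟨_, h2⟩
    change π₀ (res' (Z ⟨_, h2⟩)) = _ at h3
    have h4 : π₀ (res' (Fintype.linearCombination P' e r')) = ∑ i, π₀ (res' (r' i)) * c i := by
      rw [map_comb, comb_apply, map_sum]
      exact Finset.sum_congr rfl fun i _ => by rw [map_mul, ← he i]; rfl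
    rw [hwell ⟨_, h2⟩ r' _ rfl h1, map_add, map_add, h4] at h3
    exact add_eq_right.mp h3
  -- the lifting
  let K : Ideal P' := Ideal.span (Set.range F')
  have hK0 : ∀ a ∈ K, πA (Λ a) = 0 := fun a ha => by
    obtain ⟨r, rfl⟩ := Ideal.mem_span_range_iff_exists_fun.mp ha
    rw [map_sum, map_sum]
    exact Finset.sum_eq_zero fun i _ => by rw [map_mul, map_mul, show Λ (F' i) = fA i from congrFun hΛF' i, hfA, mul_zero]
  let B' := P' ⧸ K
  let q : B' →+* B := Ideal.Quotient.lift K (πA.toRingHom.comp Λ) hK0
  have hq : ∀ a, q (Ideal.Quotient.mk K a) = πA (Λ a) := fun a => rfl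
  have hqs : Function.Surjective q := fun b => by
    obtain ⟨a, rfl⟩ := hπA b
    obtain ⟨a, rfl⟩ := hΛ a
    exact ⟨Ideal.Quotient.mk K a, rfl⟩
  have hqc : ∀ a : A', q (algebraMap A' B' a) = algebraMap A B (p a) := fun a => by
    show πA (Λ (algebraMap A' P' a)) = _
    rw [MvPolynomial.algebraMap_eq, show Λ (C a) = C (p a) from MvPolynomial.map_C p a]
    exact πA.commutes (p a)
  let I : Ideal A' := RingHom.ker p
  have hkq : RingHom.ker q = I.map (algebraMap A' B') := by
    refine le_antisymm (fun b hb => ?_) (Ideal.map_le_iff_le_comap.mpr fun a ha => ?_)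
    · obtain ⟨a, rfl⟩ := Ideal.Quotient.mk_surjective b
      obtain ⟨r, hr⟩ := hω ⟨Λ a, hb⟩
      choose r' hr' using fun i => hΛ (r i)
      obtain ⟨w, hw⟩ := hkΛ (a - Fintype.linearCombination P' F' r') (by
        rw [map_sub, map_comb, hΛF', show Λ ∘ r' = r from funext hr', sub_eq_zero]
        exact (congrArg Subtype.val hr).symm)
      have h1 : Ideal.Quotient.mk K a = algebraMap A' B' u * Ideal.Quotient.mk K w := by
        rw [IsScalarTower.algebraMap_apply A' P' B', Ideal.Quotient.algebraMap_eq, MvPolynomial.algebraMap_eq, ← map_mul,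
          ← hw, Ideal.Quotient.eq, sub_sub_cancel]
        exact Ideal.mem_span_range_iff_exists_fun.mpr ⟨r', (comb_apply _ _).symm⟩
      rw [h1]
      exact Ideal.mul_mem_right _ _ (Ideal.mem_map_of_mem _ (hu.ge (Ideal.subset_span rfl)))
    · show q (algebraMap A' B' a) = 0
      rw [hqc, RingHom.mem_ker.mp ha, map_zero]
  -- flatness
  have hann : ∀ b : B', u • b = 0 → b ∈ (RingHom.ker (ρ.comp p)) • (⊤ : Submodule A' B') := by
    intro b hb
    obtain ⟨z, rfl⟩ := Ideal.Quotient.mk_surjective b
    have h1 : C u * z ∈ K := by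
      rw [← Ideal.Quotient.eq_zero_iff_mem, map_mul]
      have hb' : algebraMap A' B' u * Ideal.Quotient.mk K z = 0 := (Algebra.smul_def u _).symm.trans hb
      exact hb' 
    obtain ⟨r', hr'⟩ := Ideal.mem_span_range_iff_exists_fun.mp h1
    have h2 : res' z ∈ RingHom.ker π₀ := key' r' z ((comb_apply _ _).trans hr')
    rw [← hf, Ideal.mem_span_range_iff_exists_fun] at h2
    obtain ⟨a₀, ha₀⟩ := h2
    choose a ha using fun i => hres' (a₀ i)
    have h3 : z - Fintype.linearCombination P' F' a ∈ RingHom.ker (MvPolynomial.map (ρ.comp p)) := by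
      rw [RingHom.mem_ker, ← MvPolynomial.map_map]
      show res' _ = 0
      rw [map_sub, map_comb, hres'F', comb_apply, sub_eq_zero, ← ha₀]
      exact Finset.sum_congr rfl fun i _ => by rw [Function.comp_apply, ha]
    rw [MvPolynomial.ker_map] at h3
    rw [Ideal.smul_top_eq_map, Submodule.restrictScalars_mem,
      IsScalarTower.algebraMap_eq A' P' B', ← Ideal.map_map, MvPolynomial.algebraMap_eq]
    have h4 : Ideal.Quotient.mk K z = Ideal.Quotient.mk K (z - Fintype.linearCombination P' F' a) := by
      rw [Ideal.Quotient.eq, sub_sub_cancel]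
      exact Ideal.mem_span_range_iff_exists_fun.mpr ⟨a, (comb_apply _ _).symm⟩
    rw [h4]
    exact Ideal.mem_map_of_mem _ h3
  haveI : Module.Flat A' B' := by
    letI : Algebra (A' ⧸ I) B := ((algebraMap A B).comp (RingHom.kerLift p)).toAlgebra
    letI : Algebra A' B := ((algebraMap A B).comp p).toAlgebra
    haveI : IsScalarTower A' (A' ⧸ I) B := IsScalarTower.of_algebraMap_eq fun a => rfl
    haveI : Module.Flat (A' ⧸ I) B := (RingHom.flat_algebraMap_iff (R := A' ⧸ I) (S := B)).mp (RingHom.Flat.comp
      (RingHom.Flat.of_bijective ⟨RingHom.kerLift_injective p,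
        fun a => by obtain ⟨a, rfl⟩ := hp a; exact ⟨Ideal.Quotient.mk _ a, rfl⟩⟩)
      (RingHom.flat_algebraMap_iff.mpr inferInstance))
    let ql : B' →ₐ[A'] B := { q with commutes' := hqc }
    have hql : LinearMap.ker ql.toLinearMap = I • (⊤ : Submodule A' B') := by
      rw [Ideal.smul_top_eq_map, ← hkq]
      rfl
    let e : (A' ⧸ I) ⊗[A'] B' ≃ₗ[A'] B := TensorProduct.quotTensorEquivQuotSMul B' I ≪≫ₗ
      Submodule.quotEquivOfEq _ _ hql.symm ≪≫ₗ ql.toLinearMap.quotKerEquivOfSurjective hqs
    haveI : Module.Flat (A' ⧸ I) ((A' ⧸ I) ⊗[A'] B') :=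
      Module.Flat.of_linearEquiv (e.extendScalarsOfSurjective (S := A' ⧸ I) Ideal.Quotient.mk_surjective)
    refine Groth.L01.SqZeroFlat.flat I ?_ ?_
    · show RingHom.ker p * RingHom.ker p = ⊥
      rw [hu, Ideal.span_singleton_mul_span_singleton, Ideal.span_singleton_eq_bot]
      exact hum u (by rw [hup, map_zero])
    · rw [injective_iff_map_eq_zero]
      intro t ht
      have huI : u ∈ I := hu.ge (Ideal.subset_span rfl)
      have hsimple : ∀ v : I ⊗[A'] B', ∃ b, (⟨u, huI⟩ : I) ⊗ₜ[A'] b = v := by
        intro v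
        induction v using TensorProduct.induction_on with
        | zero => exact ⟨0, TensorProduct.tmul_zero _ _⟩
        | tmul a b =>
          obtain ⟨c, hc⟩ := Ideal.mem_span_singleton'.mp (hu.le a.2)
          refine ⟨c • b, ?_⟩
          rw [← TensorProduct.smul_tmul]
          congr 1
          exact Subtype.ext hc
        | add s₁ s₂ h₁ h₂ =>
          obtain ⟨b₁, hb₁⟩ := h₁
          obtain ⟨b₂, hb₂⟩ := h₂
          exact ⟨b₁ + b₂, by rw [TensorProduct.tmul_add, hb₁, hb₂]⟩
      obtain ⟨b, rfl⟩ := hsimple t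
      have h1 : u • b = 0 := by
        have := congrArg (TensorProduct.lid A' B') ht
        rwa [map_zero, LinearMap.rTensor_tmul, TensorProduct.lid_tmul] at this
      have h2 := hann b h1
      refine Submodule.smul_induction_on h2 (fun a ha v _ => ?_) (fun v w hv hw => ?_)
      · rw [TensorProduct.tmul_smul, TensorProduct.smul_tmul']
        have h0 : a • (⟨u, huI⟩ : I) = 0 := Subtype.ext ((mul_comm a u).trans (hum a ha))
        rw [h0, TensorProduct.zero_tmul]
      · rw [TensorProduct.tmul_add, hv, hw, add_zero]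
  refine ⟨⟨B', inferInstance, D.β.comp q, D.surj.comp hqs, fun a => ?_, le_antisymm (fun b hb => ?_) ?_⟩, q, hqs,
    hqc, fun b => rfl, hkq⟩
  · show D.β (q (algebraMap A' B' a)) = _
    rw [hqc, D.comm]
    rfl
  · have h1 : q b ∈ ((RingHom.ker (ρ.comp p)).map (algebraMap A' B')).map q := by
      rw [Ideal.map_map, show q.comp (algebraMap A' B') = (algebraMap A B).comp p from RingHom.ext hqc, ← Ideal.map_map,
        ← RingHom.comap_ker, Ideal.map_comap_of_surjective p hp, ← D.ker_eq]
      exact hb
    obtain ⟨c, hc, hcb⟩ := (Ideal.mem_map_iff_of_surjective q hqs).mp h1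
    rw [← sub_add_cancel b c]
    refine add_mem ?_ hc
    have h2 : b - c ∈ RingHom.ker q := by rw [RingHom.mem_ker, map_sub, hcb, sub_self]
    rw [hkq] at h2
    exact Ideal.map_mono (fun a ha => by rw [RingHom.mem_ker, RingHom.comp_apply, RingHom.mem_ker.mp ha, map_zero]) h2
  · refine Ideal.map_le_iff_le_comap.mpr fun a ha => ?_
    show D.β (q (algebraMap A' B' a)) = 0
    rw [hqc, D.comm, show ρ (p a) = 0 from ha, map_zero]

end Groth.L14.DefLift
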