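import Groth.Agent.L14.DefLift.LocTriv.SmoothRigid
import Groth.Agent.L14.DefLift.AutOmega
import Groth.Agent.L14.DefLift.AutLift
import Groth.Agent.L12.Criteria
import Groth.Agent.L12.HypSq.Curve
import Groth.Agent.L21.Bundle.DualityApps
import Groth.Agent.L21.Bundle.Sections
import Groth.Agent.L16.ProperFinite
import Groth.Agent.L16.HomSh.Coherent

/-! # Prorepresentability of deformations of schemes without infinitesimal automorphisms -/

set_option autoImplicit false
set_option linter.style.haveILetI false
set_option backward.isDefEq.respectTransparency false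
set_option backward.isDefEq.respectTransparency.types false

universe u

open CategoryTheory CategoryTheory.Limits AlgebraicGeometry ArtFun ArtFun.Art
open Groth.L14.LocTriv (tgt nonempty_tangent_equiv exists_hh_equiv)

noncomputable section

namespace Groth.L14.DefLift

variable {k : Type u} [Field k]

/-- Gluing is bijective when there are no infinitesimal automorphisms. -/
theorem rs_of_derZero {X : Scheme.{u}} {x : X ⟶ specPt k} (h0 : DerZero x) :
    Groth.L12.RS (defFunctor (Λ := k) X x) := by
  intro B A A' A'' p' p'' f' f'' h hf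
  refine ⟨cmp_injective h hf fun ξ'' e => ?_, s1_sch X x p' p'' f' f'' h hf⟩
  exact ⟨DefSch.Iso.refl _, iso_ext ((hom_eq_id h0 _ _).trans (hom_eq_id h0 _ _).symm)⟩

/-- Without infinitesimal automorphisms, finiteness of the tangent space gives prorepresentability. -/
theorem isProrep_of_derZero {X : Scheme.{u}} {x : X ⟶ specPt k} (h0 : DerZero x)
    [TangentStr (defFunctor (Λ := k) X x)] (hfin : Hfin (defFunctor (Λ := k) X x)) :
    IsProrepresentable (defFunctor (Λ := k) X x) :=
  Groth.L12.prorep_iff.2 ⟨⟨h0_sch X x, rs_of_derZero h0⟩, hfin, fun x₀ =>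
    Groth.L12.der_injective_of_subsingleton (Groth.L12.subsingleton_derivation_of_surjective Function.surjective_id) _ x₀⟩

variable (X : Scheme.{u}) [X.Over (Spec (CommRingCat.of k))] [IsProper (X ↘ Spec (CommRingCat.of k))]
  [Smooth (X ↘ Spec (CommRingCat.of k))]

/-- The tangent space of deformations of a smooth proper scheme is finite-dimensional. -/
theorem hfin_smooth [TangentStr (defFunctor (Λ := k) X (X ↘ Spec (CommRingCat.of k)))] :
    Hfin (defFunctor (Λ := k) X (X ↘ Spec (CommRingCat.of k))) := by
  haveI : DCoh.HasSheafHom (Omega.sheaf (X ↘ Spec (CommRingCat.of k))) := Groth.L00.Tensor.dcoh_hasSheafHom _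
  haveI : IsLocallyNoetherian X := LocallyOfFiniteType.isLocallyNoetherian (X ↘ Spec (CommRingCat.of k))
  have hc : Coh.IsCoh (tgt k X) := Groth.L16.HomSh.isCoh_homMod (Groth.L15.OmegaCoh.isCoh_omega _)
    Groth.L16.CohClosedPush.isCoh_structure
  haveI : Module.Finite k (Coh.HH X (tgt k X) 1) := Groth.L16.ProperFinite.finite_HH k hc 1
  obtain ⟨e⟩ := nonempty_tangent_equiv (k := k) (X := X)
  obtain ⟨e'⟩ := exists_hh_equiv (k := k) (X := X) 1
  exact Module.Finite.equiv (e'.trans e.symm)

/-- A curve of genus at least two has no vector fields. -/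
theorem subsingleton_hom_omega [IsAlgClosed k] [ConnectedSpace X] (hd : topologicalKrullDim X = 1)
    (hg : 2 ≤ Curv2.genus k X) :
    Subsingleton (Omega.sheaf (X ↘ Spec (CommRingCat.of k)) ⟶ Coh.structureModule X) := by
  haveI := Groth.L12.HypSq.isIntegral (k := k) (C := X)
  haveI : IsLocallyNoetherian X := LocallyOfFiniteType.isLocallyNoetherian (X ↘ Spec (CommRingCat.of k))
  have h0 := Groth.L12.HypSq.h0_structure (k := k) (C := X)
  have hreg := Groth.L21.Smooth.regular_stalk (k := k) (X ↘ Spec (CommRingCat.of k))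
  refine ⟨fun f g => ?_⟩
  suffices h : ∀ φ : Omega.sheaf (X ↘ Spec (CommRingCat.of k)) ⟶ Coh.structureModule X, φ = 0 by rw [h f, h g]
  intro φ
  by_contra hne
  open Groth.L21.Bundle in
  have hΩ := locFree_one (Groth.L21.Duality.isInvertible_omega (X := X) (k := k) hd)
  open Groth.L21.Bundle in
  have hO := locFree_one (Groth.L18.Ample.isInvertible_structureModule X)
  open Groth.L21.Bundle in
  obtain ⟨h1, h2⟩ := add_image k hd.le φ (isCoh_of_rank hΩ) (isCoh_of_rank hO)
  open Groth.L21.Bundle in
  have hI := locFree_of_mono hreg hd.le (Abelian.image.ι φ) (coh_image (isCoh_of_rank hΩ) (isCoh_of_rank hO) φ) hO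
  open Groth.L21.Bundle in
  have hK := locFree_of_mono hreg hd.le (kernel.ι φ) (coh_kernel (isCoh_of_rank hΩ) (isCoh_of_rank hO) φ) hΩ
  open Groth.L21.Bundle in
  have hpos : 0 < rk (Abelian.image φ) := Nat.pos_of_ne_zero fun h0' => hne <| by
    rw [← Abelian.image.fac φ, (isZero_of_rank_zero (h0' ▸ hI)).eq_of_src (Abelian.image.ι φ) 0, comp_zero]
  open Groth.L21.Bundle in
  have hr : rk (Abelian.image φ) = rk (Coh.structureModule X) ∧ rk (kernel φ) = 0 := by
    rw [rk_eq hΩ] at h1
    rw [rk_eq hO]
    omega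
  open Groth.L21.Bundle in
  have hle := (dg_le_of_mono hd.le k (Abelian.image.ι φ) (coh_image (isCoh_of_rank hΩ) (isCoh_of_rank hO) φ)
    (isCoh_of_rank hO) hr.1).1
  open Groth.L21.Bundle in
  rw [dg_structure] at hle
  open Groth.L21.Bundle in
  have hz : dg k (kernel φ) = 0 := (zero_facts k hd.le (isZero_of_rank_zero (show
    FlatMod.IsFinLocFreeOfRank 0 (kernel φ) from Eq.mp (congrArg (fun n => FlatMod.IsFinLocFreeOfRank n (kernel φ)) hr.2) hK))).2
  open Groth.L21.Bundle in
  have hdeg := dg_omega (X := X) k hd h0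
  open Groth.L21.Bundle in
  simp only [omega] at hdeg
  omega

end Groth.L14.DefLift
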