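import Groth.Agent.L14.DefLift.LocTriv.FirstOrder
import Groth.Agent.L16.CohClosedPush

/-! # The obstruction to extending an embedding to a deformation -/

set_option autoImplicit false
set_option linter.style.haveILetI false
set_option linter.unusedSectionVars false
set_option backward.isDefEq.respectTransparency.types false
set_option backward.isDefEq.respectTransparency false

universe u

open CategoryTheory CategoryTheory.Limits AlgebraicGeometry TopologicalSpace Opposite ArtFun ArtFun.Art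

noncomputable section

namespace Groth.L14.EmbObs

open Groth.L18.Frame (rs ro rs_rs ro_ro ro_self)
open Groth.L14.LocTriv

variable {k : Type u} [Field k] {X Y : Scheme.{u}} [Y.Over (Spec (CommRingCat.of k))]
  [IsSeparated (Y ↘ Spec (CommRingCat.of k))] {x : X ⟶ specPt k}
  (c : X ⟶ Y) [IsAffineHom c]

local notation "yK" => (Y ↘ Spec (CommRingCat.of k))

/-- The preimage of an affine open. -/
abbrev pre (V : Y.affineOpens) : X.affineOpens := ⟨c ⁻¹ᵁ V.1, V.2.preimage c⟩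

theorem pre_mono {V V' : Y.Opens} (h : V' ≤ V) : c ⁻¹ᵁ V' ≤ c ⁻¹ᵁ V := fun _ hp => h hp

/-- The comorphism. -/
def cApp (V : Y.Opens) : Γ(Y, V) →+* Γ(X, c ⁻¹ᵁ V) := (c.app V).hom

theorem cApp_ro {V V' : Y.Opens} (h : V' ≤ V) (b : Γ(Y, V)) :
    cApp c V' (ro h b) = ro (pre_mono c h) (cApp c V b) :=
  ConcreteCategory.congr_hom (c.naturality (homOfLE h).op) b

variable {c} in
theorem cApp_cU (hc : c ≫ yK = x) (V : Y.Opens) (t : k) :
    cApp c V (cU (yK : Y ⟶ specPt k) V t) = cU x (c ⁻¹ᵁ V) t := by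
  subst hc
  show c.app V (((yK : Y ⟶ specPt k).appLE ⊤ V le_top).hom _) =
    (((c ≫ yK : X ⟶ specPt k)).appLE ⊤ (c ⁻¹ᵁ V) le_top).hom _
  rw [← Scheme.Hom.appLE_comp_appLE c (yK : Y ⟶ specPt k) ⊤ V (c ⁻¹ᵁ V) le_top le_rfl, CommRingCat.comp_apply,
    Scheme.Hom.appLE_eq_app]

variable {A A' : Art k k} (ξ : DefSch X x A)

/-- A lift of the embedding over an affine open. -/
structure Emb (V : Y.affineOpens) where
  /-- the map on rings -/
  hom : Γ(Y, V.1) →+* R ξ (pre c V).1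
  hom_cU : ∀ t, hom (cU (yK : Y ⟶ specPt k) V.1 t) = rB ξ (pre c V).1 (algebraMap k A t)
  red_hom : ∀ b, red ξ (pre c V).1 (hom b) = cApp c V.1 b

variable {ξ} {V V' V'' : Y.affineOpens}

theorem Emb.ext' {e₁ e₂ : Emb c ξ V} (h : ∀ b, e₁.hom b = e₂.hom b) : e₁ = e₂ := by
  obtain ⟨f, _, _⟩ := e₁
  obtain ⟨g, _, _⟩ := e₂
  obtain rfl : f = g := RingHom.ext h
  rfl

theorem formallyEtale_ro (h : V'.1 ≤ V.1) : (Y.presheaf.map (homOfLE h).op).hom.FormallyEtale := by
  have h1 : ((𝟙 Y : Y ⟶ Y).appLE V.1 V'.1 h).hom.Etale :=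
    HasRingHomProperty.appLE (P := @Etale) (𝟙 Y) inferInstance V V' _
  simp only [Scheme.Hom.appLE, Scheme.Hom.id_app, Category.id_comp] at h1
  exact h1.formallyEtale

theorem Emb.exists_restrict (e : Emb c ξ V) (h : V'.1 ≤ V.1) :
    ∃ e' : Emb c ξ V', ∀ b, e'.hom (ro h b) = res ξ (pre_mono c h) (e.hom b) := by
  letI : Algebra Γ(Y, V.1) Γ(Y, V'.1) := (Y.presheaf.map (homOfLE h).op).hom.toAlgebra
  haveI : Algebra.FormallyEtale Γ(Y, V.1) Γ(Y, V'.1) := formallyEtale_ro h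
  letI : Algebra Γ(Y, V.1) (R ξ (pre c V').1) := ((res ξ (pre_mono c h)).comp e.hom).toAlgebra
  letI : Algebra Γ(Y, V.1) Γ(X, (pre c V').1) :=
    ((cApp c V'.1).comp (Y.presheaf.map (homOfLE h).op).hom).toAlgebra
  let q : R ξ (pre c V').1 →ₐ[Γ(Y, V.1)] Γ(X, (pre c V').1) :=
    { red ξ (pre c V').1 with
      commutes' := fun b => by
        show red ξ (pre c V').1 (res ξ (pre_mono c h) (e.hom b)) = cApp c V'.1 (ro h b)
        rw [red_res, e.red_hom, cApp_ro] }
  let q₀ : Γ(Y, V'.1) →ₐ[Γ(Y, V.1)] Γ(X, (pre c V').1) := { cApp c V'.1 with commutes' := fun _ => rfl }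
  let g := Algebra.FormallySmooth.liftOfSurjective q₀ q (red_surjective ξ (pre c V'))
    (isNilpotent_ker_red ξ (pre c V'))
  refine ⟨⟨g.toRingHom, fun t => ?_, fun b => ?_⟩, fun b => g.commutes b⟩
  · rw [← ro_cU (x := (yK : Y ⟶ specPt k)) h t]
    refine (g.commutes _).trans ?_
    show res ξ (pre_mono c h) (e.hom (cU (yK : Y ⟶ specPt k) V.1 t)) = _
    rw [e.hom_cU, res_rB]
  · exact Algebra.FormallySmooth.liftOfSurjective_apply q₀ q (red_surjective ξ (pre c V'))
      (isNilpotent_ker_red ξ (pre c V')) b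

/-- The restriction. -/
def Emb.restrict (e : Emb c ξ V) (h : V'.1 ≤ V.1) : Emb c ξ V' := (e.exists_restrict c h).choose

theorem Emb.restrict_ro (e : Emb c ξ V) (h : V'.1 ≤ V.1) (b : Γ(Y, V.1)) :
    (e.restrict c h).hom (ro h b) = res ξ (pre_mono c h) (e.hom b) :=
  (e.exists_restrict c h).choose_spec b

theorem Emb.restrict_unique {e : Emb c ξ V} {e₁ : Emb c ξ V'} {h : V'.1 ≤ V.1}
    (h₁ : ∀ b, e₁.hom (ro h b) = res ξ (pre_mono c h) (e.hom b)) : e.restrict c h = e₁ := by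
  letI : Algebra Γ(Y, V.1) Γ(Y, V'.1) := (Y.presheaf.map (homOfLE h).op).hom.toAlgebra
  haveI : Algebra.FormallyEtale Γ(Y, V.1) Γ(Y, V'.1) := formallyEtale_ro h
  letI : Algebra Γ(Y, V.1) (R ξ (pre c V').1) := ((res ξ (pre_mono c h)).comp e.hom).toAlgebra
  obtain ⟨n, hn⟩ := isNilpotent_ker_red ξ (pre c V')
  let g₁ : Γ(Y, V'.1) →ₐ[Γ(Y, V.1)] R ξ (pre c V').1 :=
    { (e.restrict c h).hom with commutes' := fun b => e.restrict_ro c h b }
  let g₂ : Γ(Y, V'.1) →ₐ[Γ(Y, V.1)] R ξ (pre c V').1 := { e₁.hom with commutes' := fun b => h₁ b }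
  have := Algebra.FormallyUnramified.lift_unique (RingHom.ker (red ξ (pre c V').1)) ⟨n, hn⟩ g₁ g₂
    (AlgHom.ext fun b => Ideal.Quotient.eq.2 (by
      rw [RingHom.mem_ker, map_sub]
      exact sub_eq_zero.2 (((e.restrict c h).red_hom b).trans (e₁.red_hom b).symm)))
  exact Emb.ext' c fun b => DFunLike.congr_fun this b

theorem Emb.restrict_restrict (e : Emb c ξ V) (h : V'.1 ≤ V.1) (h' : V''.1 ≤ V'.1) :
    (e.restrict c h).restrict c h' = e.restrict c (h'.trans h) :=
  (Emb.restrict_unique c fun b => by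
    rw [← ro_ro h h' b, Emb.restrict_ro, Emb.restrict_ro, res_res]).symm

theorem Emb.restrict_self (e : Emb c ξ V) (h : V.1 ≤ V.1) : e.restrict c h = e :=
  Emb.restrict_unique c fun b => by rw [ro_self, res_self]

variable {c} in
theorem exists_emb [Smooth yK] (hc : c ≫ yK = x) (ξ : DefSch X x A) (V : Y.affineOpens) : Nonempty (Emb c ξ V) := by
  letI : Algebra k Γ(Y, V.1) := (cU (yK : Y ⟶ specPt k) V.1).toAlgebra
  haveI : Smooth (yK : Y ⟶ specPt k) := ‹Smooth yK›
  haveI : Algebra.FormallySmooth k Γ(Y, V.1) := formallySmooth_cU V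
  letI : Algebra k (R ξ (pre c V).1) := ((rB ξ (pre c V).1).comp (algebraMap k A)).toAlgebra
  letI : Algebra k Γ(X, (pre c V).1) := (cU x (pre c V).1).toAlgebra
  let q : R ξ (pre c V).1 →ₐ[k] Γ(X, (pre c V).1) :=
    { red ξ (pre c V).1 with
      commutes' := fun t => (red_rB ξ _ _).trans (congrArg _ (A.res.commutes t)) }
  let q₀ : Γ(Y, V.1) →ₐ[k] Γ(X, (pre c V).1) := { cApp c V.1 with commutes' := fun t => cApp_cU hc V.1 t }
  let g := Algebra.FormallySmooth.liftOfSurjective q₀ q (red_surjective ξ (pre c V))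
    (isNilpotent_ker_red ξ (pre c V))
  exact ⟨⟨g.toRingHom, fun t => g.commutes t, fun b => Algebra.FormallySmooth.liftOfSurjective_apply q₀ q
    (red_surjective ξ (pre c V)) (isNilpotent_ker_red ξ (pre c V)) b⟩⟩

/-! ### Derivations -/

/-- The functions of `X` as a module over `Y`. -/
abbrev pushO : Y.Modules := (Coh.push c).obj (Coh.structureModule X)

/-- Derivations of `Y` with values in the functions of `X`. -/
abbrev dMod (k : Type u) [Field k] [Y.Over (Spec (CommRingCat.of k))] [IsSeparated (Y ↘ Spec (CommRingCat.of k))]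
    (c : X ⟶ Y) : Y.Modules :=
  tanMod (Y ↘ Spec (CommRingCat.of k) : Y ⟶ specPt k) (pushO c)

/-- The derivation of a section. -/
def dN (c : X ⟶ Y) {Z : Y.Opens} (s : SecK k (dMod k c) Z) (b : Γ(Y, Z)) : Γ(X, c ⁻¹ᵁ Z) :=
  secDer (yK : Y ⟶ specPt k) (show Γ(dMod k c, Z) from s) b

theorem dN_add {Z : Y.Opens} (s t : SecK k (dMod k c) Z) (b : Γ(Y, Z)) : dN c (s + t) b = dN c s b + dN c t b :=
  secDer_add _ _ _ _

theorem dN_zero {Z : Y.Opens} (b : Γ(Y, Z)) : dN c (0 : SecK k (dMod k c) Z) b = 0 :=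
  left_eq_add.1 (((congrArg (fun s => dN c s b) (add_zero (0 : SecK k (dMod k c) Z))).symm).trans (dN_add c 0 0 b))

theorem dN_neg {Z : Y.Opens} (s : SecK k (dMod k c) Z) (b : Γ(Y, Z)) : dN c (-s) b = -dN c s b :=
  eq_neg_of_add_eq_zero_left (by rw [← dN_add, neg_add_cancel, dN_zero])

theorem dN_res {W Z : Y.Opens} (h : Z ≤ W) (s : SecK k (dMod k c) W) (b : Γ(Y, W)) :
    dN c (resK k (dMod k c) h s) (ro h b) = ro (pre_mono c h) (dN c s b) :=
  secDer_rs (yK : Y ⟶ specPt k) h _ _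

theorem dN_mul {Z : Y.Opens} (s : SecK k (dMod k c) Z) (a b : Γ(Y, Z)) :
    dN c s (a * b) = cApp c Z a * dN c s b + cApp c Z b * dN c s a :=
  (isDerN_secDer (yK : Y ⟶ specPt k) (show Γ(dMod k c, Z) from s)).mul a b

variable {c} in
theorem dN_smul (hc : c ≫ yK = x) {Z : Y.Opens} (t : k) (s : SecK k (dMod k c) Z) (b : Γ(Y, Z)) :
    dN c (t • s) b = cU x (c ⁻¹ᵁ Z) t * dN c s b := by
  refine (secDer_smul (yK : Y ⟶ specPt k) (Groth.L17.BC.act (Coh.toGlobal yK) Z t)
    (show Γ(dMod k c, Z) from s) b).trans ?_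
  refine congrArg (fun r : Γ(X, c ⁻¹ᵁ Z) => r * dN c s b) ?_
  rw [← cApp_cU hc Z t]
  refine congrArg (cApp c Z) ?_
  show Y.presheaf.map (homOfLE le_top).op ((yK).appTop ((Scheme.ΓSpecIso (CommRingCat.of k)).inv t)) = _
  rw [Scheme.Hom.appTop, Scheme.Hom.app_eq_appLE, ← CommRingCat.comp_apply, Scheme.Hom.appLE_map]
  rfl

variable [LocallyOfFiniteType (Y ↘ Spec (CommRingCat.of k))]

theorem dN_injective {Z : Y.Opens} (hZ : IsAffineOpen Z) :
    Function.Injective (dN c : SecK k (dMod k c) Z → Γ(Y, Z) → Γ(X, c ⁻¹ᵁ Z)) :=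
  secDer_injective (yK : Y ⟶ specPt k) ⟨Z, hZ⟩

theorem exists_dN_eq {Z : Y.Opens} (hZ : IsAffineOpen Z) {D : Γ(Y, Z) → Γ(X, c ⁻¹ᵁ Z)}
    (hadd : ∀ a b, D (a + b) = D a + D b) (hmul : ∀ a b, D (a * b) = cApp c Z a * D b + cApp c Z b * D a)
    (hbase : ∀ t, D (cU (yK : Y ⟶ specPt k) Z t) = 0) : ∃ s : SecK k (dMod k c) Z, dN c s = D :=
  exists_secDer_eq (yK : Y ⟶ specPt k) ⟨Z, hZ⟩ (N := pushO c) ⟨hadd, hmul, hbase⟩

/-! ### Differences -/

variable (S : SocBasis A)

/-- `e₂ = e₁ + Σ eₗ Dₗ`. -/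
def Emb.Diff (e₁ e₂ : Emb c ξ V) (D : Fin S.n → Γ(Y, V.1) → Γ(X, (pre c V).1)) : Prop :=
  ∀ b, e₂.hom b = e₁.hom b + S.sum ξ (pre c V) fun l => D l b

variable {S} {e₁ e₂ e₃ : Emb c ξ V} {D D' : Fin S.n → Γ(Y, V.1) → Γ(X, (pre c V).1)}

theorem Emb.Diff.unique (h : Emb.Diff c S e₁ e₂ D) (h' : Emb.Diff c S e₁ e₂ D') : D = D' := by
  funext l b
  exact congrFun (S.sum_injective ξ (pre c V) (add_left_cancel ((h b).symm.trans (h' b)))) l

theorem Emb.Diff.trans (h : Emb.Diff c S e₁ e₂ D) (h' : Emb.Diff c S e₂ e₃ D') : Emb.Diff c S e₁ e₃ (D + D') :=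
  fun b => by
    rw [h' b, h b, add_assoc, ← S.sum_add]
    rfl

theorem Emb.Diff.exists_sec (h : Emb.Diff c S e₁ e₂ D) (l : Fin S.n) :
    ∃ s : SecK k (dMod k c) V.1, dN c s = D l := by
  refine exists_dN_eq c V.2 (fun a b => ?_) (fun a b => ?_) fun t => ?_
  · have := h (a + b)
    rw [map_add, map_add, h a, h b, add_add_add_comm, ← S.sum_add] at this
    exact (congrFun (S.sum_injective ξ (pre c V) (add_left_cancel this)) l).symm
  · have := h (a * b)
    rw [map_mul, map_mul, h a, h b, add_mul, mul_add, mul_add, S.mul_sum,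
      mul_comm (S.sum ξ (pre c V) _) (e₁.hom b), S.mul_sum, S.sum_mul_sum, add_zero, add_assoc, ← S.sum_add] at this
    refine (congrFun (S.sum_injective ξ (pre c V) (add_left_cancel this)) l).symm.trans ?_
    show red ξ (pre c V).1 (e₁.hom a) * _ + red ξ (pre c V).1 (e₁.hom b) * _ = _
    rw [e₁.red_hom, e₁.red_hom]
  · have := h (cU (yK : Y ⟶ specPt k) V.1 t)
    rw [e₁.hom_cU, e₂.hom_cU, eq_comm, add_eq_left, ← S.sum_zero ξ (pre c V)] at this
    exact congrFun (S.sum_injective ξ (pre c V) this) l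

theorem Emb.exists_diff (hS : IsLocalRing.maximalIdeal A ≤ S.span) (e₁ e₂ : Emb c ξ V) :
    ∃ D, Emb.Diff c S e₁ e₂ D := by
  choose v hv using fun b => S.exists_eq_sum ξ (pre c V) (z := e₂.hom b - e₁.hom b)
    (Ideal.map_mono hS ((red_eq_zero_iff ξ (pre c V) _).1 (by rw [map_sub, e₂.red_hom, e₁.red_hom, sub_self])))
  exact ⟨fun l b => v b l, fun b => by rw [← hv, add_sub_cancel]⟩

variable (S)

/-- An embedding modified by derivations. -/
def Emb.addDer (e : Emb c ξ V) (s : Fin S.n → SecK k (dMod k c) V.1) : Emb c ξ V where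
  hom :=
    { toFun := fun b => e.hom b + S.sum ξ (pre c V) fun l => dN c (s l) b
      map_one' := by
        have h1 : ∀ l, dN c (s l) 1 = 0 := fun l => by
          rw [← map_one (cU (yK : Y ⟶ specPt k) V.1)]
          exact (isDerN_secDer (yK : Y ⟶ specPt k) (show Γ(dMod k c, V.1) from s l)).base 1
        simp only [map_one, h1]
        exact (congrArg (1 + ·) (S.sum_zero ξ _)).trans (add_zero _)
      map_mul' := fun a b => by
        rw [map_mul, add_mul, mul_add, mul_add, S.mul_sum, mul_comm (S.sum ξ (pre c V) _) (e.hom b),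
          S.mul_sum, S.sum_mul_sum, add_zero, add_assoc, ← S.sum_add, e.red_hom, e.red_hom]
        exact congrArg (_ + S.sum ξ (pre c V) ·) (funext fun l => dN_mul c _ _ _)
      map_zero' := by
        have h1 : ∀ l, dN c (s l) 0 = 0 := fun l => left_eq_add.1
          (((congrArg (dN c (s l)) (add_zero 0)).symm).trans
            ((isDerN_secDer (yK : Y ⟶ specPt k) (show Γ(dMod k c, V.1) from s l)).add 0 0))
        simp only [map_zero, h1]
        exact (congrArg (0 + ·) (S.sum_zero ξ _)).trans (add_zero _)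
      map_add' := fun a b => by
        rw [map_add, add_add_add_comm, ← S.sum_add]
        exact congrArg (_ + S.sum ξ (pre c V) ·)
          (funext fun l => (isDerN_secDer (yK : Y ⟶ specPt k) (show Γ(dMod k c, V.1) from s l)).add _ _) }
  hom_cU t := by
    show e.hom _ + _ = _
    rw [e.hom_cU]
    have h1 : ∀ l, dN c (s l) (cU (yK : Y ⟶ specPt k) V.1 t) = 0 := fun l =>
      (isDerN_secDer (yK : Y ⟶ specPt k) (show Γ(dMod k c, V.1) from s l)).base t
    simp only [h1]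
    exact (congrArg (_ + ·) (S.sum_zero ξ _)).trans (add_zero _)
  red_hom b := by
    show red ξ (pre c V).1 (e.hom b + _) = _
    rw [map_add, e.red_hom, S.red_sum, add_zero]

theorem Emb.restrict_addDer (e : Emb c ξ V) (s : Fin S.n → SecK k (dMod k c) V.1) (h : V'.1 ≤ V.1) :
    (e.addDer c S s).restrict c h = (e.restrict c h).addDer c S fun l => resK k (dMod k c) h (s l) :=
  Emb.restrict_unique c fun b => by
    show (e.restrict c h).hom (ro h b) + _ = res ξ (pre_mono c h) (e.hom b + _)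
    rw [map_add, e.restrict_ro, S.res_sum ξ (pre c V) (U' := pre c V') (pre_mono c h)]
    exact congrArg (_ + S.sum ξ (pre c V') ·) (funext fun l => dN_res c h _ _)

/-- `cc` measures the differences of a family of embeddings. -/
def IsObs (ψ : ∀ V, Emb c ξ V) (cc : Fin S.n → Fn k (dMod k c)) : Prop :=
  ∀ (V W Z : Y.affineOpens) (h : Z.1 ≤ V.1) (h' : Z.1 ≤ W.1),
    Emb.Diff c S ((ψ V).restrict c h) ((ψ W).restrict c h')
      fun l => dN c (resK k (dMod k c) (le_inf h h') (cc l V W))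

variable {ψ ψ' : ∀ V, Emb c ξ V} {cc cc' : Fin S.n → Fn k (dMod k c)}

theorem IsObs.unique (hc : IsObs c S ψ cc) (hc' : IsObs c S ψ cc') : cc = cc' := by
  funext l V W
  let Z : Y.affineOpens := ⟨V.1 ⊓ W.1, isAffineOpen_inter (k := k) V W⟩
  have h := congrFun ((hc V W Z inf_le_left inf_le_right).unique c (hc' V W Z inf_le_left inf_le_right)) l
  have h' := dN_injective c Z.2 h
  rwa [resK_self, resK_self] at h'

theorem IsObs.cocycle (hc : IsObs c S ψ cc) (l : Fin S.n) : IsCocycle k (dMod k c) (cc l) := by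
  intro U V W Z h1 h2 h3
  let T : Y.affineOpens := ⟨U.1 ⊓ V.1 ⊓ W.1,
    isAffineOpen_inter (k := k) ⟨U.1 ⊓ V.1, isAffineOpen_inter (k := k) U V⟩ W⟩
  have hU : T.1 ≤ U.1 := inf_le_left.trans inf_le_left
  have hV : T.1 ≤ V.1 := inf_le_left.trans inf_le_right
  have hW : T.1 ≤ W.1 := inf_le_right
  have e := congrFun (((hc U V T hU hV).trans c (hc V W T hV hW)).unique c (hc U W T hU hW)) l
  have e' : resK k (dMod k c) (le_inf hU hV) (cc l U V) + resK k (dMod k c) (le_inf hV hW) (cc l V W) =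
      resK k (dMod k c) (le_inf hU hW) (cc l U W) := dN_injective c T.2 (funext fun a => by
    rw [dN_add]
    exact congrFun e a)
  have hZ : Z ≤ T.1 := le_inf h1 (h2.trans inf_le_right)
  have e'' := congrArg (resK k (dMod k c) hZ) e'
  simpa only [map_add, resK_resK] using e''

theorem exists_isObs (hS : IsLocalRing.maximalIdeal A ≤ S.span) (ψ : ∀ V, Emb c ξ V) :
    ∃ cc, IsObs c S ψ cc := by
  have hex : ∀ V W : Y.affineOpens, ∃ s : Fin S.n → SecK k (dMod k c) (V.1 ⊓ W.1),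
      (ψ W).restrict c (V' := ⟨V.1 ⊓ W.1, isAffineOpen_inter (k := k) V W⟩) inf_le_right =
        ((ψ V).restrict c (V' := ⟨V.1 ⊓ W.1, isAffineOpen_inter (k := k) V W⟩) inf_le_left).addDer c S s := by
    intro V W
    obtain ⟨D, hD⟩ := Emb.exists_diff c hS
      ((ψ V).restrict c (V' := ⟨V.1 ⊓ W.1, isAffineOpen_inter (k := k) V W⟩) inf_le_left)
      ((ψ W).restrict c (V' := ⟨V.1 ⊓ W.1, isAffineOpen_inter (k := k) V W⟩) inf_le_right)
    choose s hs using fun l => hD.exists_sec c l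
    refine ⟨s, Emb.ext' c fun b => (hD b).trans ?_⟩
    exact congrArg (_ + S.sum ξ _ ·) (funext fun l => (congrFun (hs l) b).symm)
  choose s hs using hex
  refine ⟨fun l V W => s V W l, fun V W Z hV hW b => ?_⟩
  have h := congrArg (fun e => Emb.restrict c e (V' := Z) (le_inf hV hW)) (hs V W)
  simp only [Emb.restrict_addDer, Emb.restrict_restrict] at h
  exact congrArg (fun e : Emb c ξ Z => e.hom b) h

theorem IsObs.add_bdry (hc : IsObs c S ψ cc) (t : Fin S.n → Fn₀ k (dMod k c)) :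
    IsObs c S (fun V => (ψ V).addDer c S fun l => t l V) (fun l => cc l + bdry k (dMod k c) (t l)) := by
  intro V W Z h h' b
  rw [Emb.restrict_addDer, Emb.restrict_addDer]
  show ((ψ W).restrict c h').hom b + _ = ((ψ V).restrict c h).hom b + _ + _
  rw [hc V W Z h h' b, add_assoc, ← S.sum_add, add_assoc, ← S.sum_add]
  refine congrArg (_ + S.sum ξ (pre c Z) ·) (funext fun l => ?_)
  simp only [Pi.add_apply, bdry_apply, map_add, map_sub, resK_resK, ← dN_add]
  refine congrArg (fun s => dN c s b) ?_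
  abel

theorem IsObs.bdry_of (hS : IsLocalRing.maximalIdeal A ≤ S.span) (hc : IsObs c S ψ cc) (hc' : IsObs c S ψ' cc') :
    ∃ t : Fin S.n → Fn₀ k (dMod k c), ∀ l, cc' l = cc l + bdry k (dMod k c) (t l) := by
  choose D hD using fun V => Emb.exists_diff c hS (ψ V) (ψ' V)
  choose t ht using fun (l : Fin S.n) (V : Y.affineOpens) => (hD V).exists_sec c l
  refine ⟨t, ?_⟩
  have e : ψ' = fun V => (ψ V).addDer c S fun l => t l V := funext fun V => by
    refine Emb.ext' c fun b => (hD V b).trans ?_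
    exact congrArg (_ + S.sum ξ _ ·) (funext fun l => (congrFun (ht l V) b).symm)
  subst e
  intro l
  exact congrFun (hc'.unique c S (hc.add_bdry c S t)) l

end Groth.L14.EmbObs
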