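import Groth.Agent.L14.DefLift.EmbObs
import Groth.Agent.L14.DefLift.SchGlue
import Groth.Agent.L14.DefLift.DefTransfer
import Groth.Agent.L14.LocHilb.Basic
import Groth.Agent.L14.LocHilb.Finite
import Groth.Agent.L12.Criteria

/-! # Finiteness of the tangent space of deformations of a proper scheme embedded in a smooth one -/

set_option autoImplicit false
set_option linter.style.haveILetI false
set_option linter.unusedSectionVars false
set_option backward.isDefEq.respectTransparency.types false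
set_option backward.isDefEq.respectTransparency false

universe u

open CategoryTheory CategoryTheory.Limits AlgebraicGeometry TopologicalSpace Opposite ArtFun ArtFun.Art

noncomputable section

namespace Groth.L14.EmbObs

open Groth.L18.Frame (rs ro rs_rs ro_ro ro_self)
open Groth.L14.LocTriv

variable {k : Type u} [Field k] {X Y : Scheme.{u}} [Y.Over (Spec (CommRingCat.of k))]
  [IsSeparated (Y ↘ Spec (CommRingCat.of k))] [LocallyOfFiniteType (Y ↘ Spec (CommRingCat.of k))]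
  {x : X ⟶ specPt k} {c : X ⟶ Y} [IsAffineHom c]

local notation "yK" => (Y ↘ Spec (CommRingCat.of k))

/-! ### Functoriality -/

section Push

variable {A A' : Art k k} {ν : A ⟶ A'} {ξ : DefSch X x A} {η : DefSch X x A'}

/-- The image of a lift of the embedding. -/
def Emb.push {V : Y.affineOpens} (e : Emb c ξ V) {g : η.total ⟶ ξ.total} (hg : g ≫ ξ.f = η.f ≫ specMap ν)
    (hgi : η.i ≫ g = ξ.i) : Emb c η V where
  hom := (LocHom.ofHom hg hgi (pre c V)).hom.comp e.hom
  hom_cU t := by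
    rw [RingHom.comp_apply, e.hom_cU, (LocHom.ofHom hg hgi (pre c V)).hom_rB]
    exact congrArg _ (ν.toAlgHom.commutes t)
  red_hom b := by rw [RingHom.comp_apply, (LocHom.ofHom hg hgi (pre c V)).red_hom, e.red_hom]

theorem Emb.restrict_push {V V' : Y.affineOpens} (e : Emb c ξ V) {g : η.total ⟶ ξ.total}
    (hg : g ≫ ξ.f = η.f ≫ specMap ν) (hgi : η.i ≫ g = ξ.i) (h : V'.1 ≤ V.1) :
    (e.push hg hgi).restrict c h = (e.restrict c h).push hg hgi := by
  refine Emb.restrict_unique c fun b => ?_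
  show (LocHom.ofHom hg hgi (pre c V')).hom ((e.restrict c h).hom (ro h b)) =
    res η (pre_mono c h) ((LocHom.ofHom hg hgi (pre c V)).hom (e.hom b))
  rw [e.restrict_ro]
  exact (LocHom.ofHom_res hg hgi (U := pre c V) (U' := pre c V') (pre_mono c h) (e.hom b)).symm

/-- Pushing obstructions forward along a map of bases. -/
theorem IsObs.push (hc : c ≫ yK = x) (S : SocBasis A) (S' : SocBasis A') (hn : S'.n = 1)
    {ψ : ∀ V, Emb c ξ V} {cc : Fin S.n → Fn k (dMod k c)} (hcc : IsObs c S ψ cc) {g : η.total ⟶ ξ.total}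
    (hg : g ≫ ξ.f = η.f ≫ specMap ν) (hgi : η.i ≫ g = ξ.i) (a : Fin S.n → k)
    (ha : ∀ l l', ν (S.e l) = algebraMap k A' (a l) * S'.e l') :
    IsObs c S' (fun V => (ψ V).push hg hgi) (fun _ => ∑ l, a l • cc l) := by
  intro V W Z h h' b
  rw [Emb.restrict_push, Emb.restrict_push]
  show (LocHom.ofHom hg hgi (pre c Z)).hom (((ψ W).restrict c h').hom b) =
    (LocHom.ofHom hg hgi (pre c Z)).hom (((ψ V).restrict c h).hom b) + _
  rw [hcc V W Z h h' b, map_add]
  refine congrArg (_ + ·) ?_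
  let l₀ : Fin S'.n := ⟨0, by omega⟩
  haveI : Subsingleton (Fin S'.n) := ⟨fun i j => Fin.ext (by omega)⟩
  simp only [SocBasis.sum, map_sum]
  rw [Fintype.sum_subsingleton _ l₀]
  have hkill : ∀ l, ∀ m ∈ IsLocalRing.maximalIdeal A', m * ν (S.e l) = 0 := fun l m hm => by
    rw [ha l l₀, mul_left_comm, S'.kill l₀ m hm, mul_zero]
  have h1 : ∀ l (v : Γ(X, (pre c Z).1)), jMul η (pre c Z) (ν (S.e l)) v =
      jMul η (pre c Z) (S'.e l₀) (cU x (pre c Z).1 (a l) * v) := fun l v => by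
    obtain ⟨s, rfl⟩ := red_surjective η (pre c Z) v
    rw [← mul_eq_jMul η _ (hkill l), ha l l₀, map_mul, mul_comm (rB η _ (algebraMap k A' (a l))), mul_assoc,
      mul_eq_jMul η _ (S'.kill l₀), map_mul, red_rB, AlgHom.commutes]
    rfl
  simp only [LocHom.hom_jMul _ (S.kill _) (hkill _), h1]
  let D : Fin S.n → SecK k (dMod k c) Z.1 := fun l => resK k (dMod k c) (le_inf h h') (cc l V W)
  have h2 : ∀ (s : Finset (Fin S.n)), dN c (∑ l ∈ s, a l • D l) b =
      ∑ l ∈ s, cU x (pre c Z).1 (a l) * dN c (D l) b := fun s => by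
    classical
    induction s using Finset.induction_on with
    | empty => exact dN_zero c b
    | insert i s hi ih => rw [Finset.sum_insert hi, Finset.sum_insert hi, dN_add, dN_smul hc, ih]
  have h3 : resK k (dMod k c) (le_inf h h') ((∑ l, a l • cc l) V W) = ∑ l, a l • D l := by
    simp only [Finset.sum_apply, Pi.smul_apply, map_sum, map_smul, D]
  have h4 : ∀ (s : Finset (Fin S.n)) (v : Fin S.n → Γ(X, (pre c Z).1)),
      ∑ l ∈ s, jMul η (pre c Z) (S'.e l₀) (v l) = jMul η (pre c Z) (S'.e l₀) (∑ l ∈ s, v l) := fun s v => by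
    classical
    induction s using Finset.induction_on with
    | empty => simp [jMul_zero η (pre c Z) (S'.kill l₀)]
    | insert i s hi ih => rw [Finset.sum_insert hi, Finset.sum_insert hi, ih, jMul_add η _ (S'.kill l₀)]
  rw [h4, h3, h2]

end Push

/-! ### Gluing a compatible family -/

section Glue

variable {A : Art k k} {ξ : DefSch X x A}

theorem exists_extension (hc : c ≫ yK = x) (ψ : ∀ V, Emb c ξ V)
    (hψ : ∀ (V Z : Y.affineOpens) (h : Z.1 ≤ V.1), (ψ V).restrict c h = ψ Z) :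
    ∃ g : ξ.total ⟶ Y, g ≫ (yK : Y ⟶ specPt k) = ξ.f ≫ specOver A ∧ ξ.i ≫ g = c := by
  let m : ∀ V : Y.affineOpens, Spec Γ(ξ.total, vOf ξ (pre c V).1) ⟶ Y := fun V =>
    Spec.map (CommRingCat.ofHom (ψ V).hom) ≫ V.2.fromSpec
  have hm : ∀ (V Z : Y.affineOpens) (h : Z.1 ≤ V.1),
      Spec.map (CommRingCat.ofHom (res ξ (pre_mono c h))) ≫ m V = m Z := fun V Z h => by
    show _ = Spec.map (CommRingCat.ofHom (ψ Z).hom) ≫ Z.2.fromSpec
    rw [← IsAffineOpen.map_fromSpec V.2 Z.2 (homOfLE h).op, ← Category.assoc, ← Category.assoc, ← Spec.map_comp,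
      ← Spec.map_comp]
    congr 2
    refine CommRingCat.hom_ext (RingHom.ext fun b => ?_)
    show res ξ (pre_mono c h) ((ψ V).hom b) = (ψ Z).hom (ro h b)
    rw [← hψ V Z h, Emb.restrict_ro]
  have hcov : ∀ z : ξ.total, ∀ O : Y.Opens, (∀ w, ξ.i w = z → c w ∈ O) → ∃ (V : Y.affineOpens)
      (q : Spec Γ(ξ.total, vOf ξ (pre c V).1)), chartMap ξ (pre c V) q = z ∧ V.1 ≤ O := by
    intro z O hz
    obtain ⟨w, rfl⟩ := Groth.L14.DefLift.surjective_i ξ z
    obtain ⟨_, ⟨V, hV, rfl⟩, hwV, hVO⟩ :=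
      Y.isBasis_affineOpens.exists_subset_of_mem_open (hz w rfl) O.2
    have hmem : ξ.i w ∈ Set.range (chartMap ξ (pre c ⟨V, hV⟩)) := by
      rw [range_chartMap]
      show w ∈ ξ.i ⁻¹ᵁ vOf ξ (pre c ⟨V, hV⟩).1
      rw [preimage_vOf]
      exact hwV
    obtain ⟨q, hq⟩ := hmem
    exact ⟨⟨V, hV⟩, q, hq, hVO⟩
  let 𝒰 : ξ.total.OpenCover :=
    Scheme.Cover.mkOfCovers (P := @IsOpenImmersion) Y.affineOpens (fun V => Spec Γ(ξ.total, vOf ξ (pre c V).1))
      (fun V => chartMap ξ (pre c V)) (fun z => by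
        obtain ⟨V, q, hq, -⟩ := hcov z ⊤ fun _ _ => trivial
        exact ⟨V, q, hq⟩)
      (fun V => inferInstance)
  have hagree : ∀ V W : Y.affineOpens,
      pullback.fst (chartMap ξ (pre c V)) (chartMap ξ (pre c W)) ≫ m V =
        pullback.snd (chartMap ξ (pre c V)) (chartMap ξ (pre c W)) ≫ m W := by
    intro V W
    let g := pullback.fst (chartMap ξ (pre c V)) (chartMap ξ (pre c W)) ≫ chartMap ξ (pre c V)
    refine Scheme.hom_ext_of_forall _ _ fun p => ?_
    have hV : g p ∈ vOf ξ (pre c V).1 := (range_chartMap ξ _).le ⟨_, rfl⟩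
    have hW : g p ∈ vOf ξ (pre c W).1 := (range_chartMap ξ _).le
      ⟨pullback.snd (chartMap ξ (pre c V)) (chartMap ξ (pre c W)) p, by
        show _ = g p
        rw [show g = pullback.snd (chartMap ξ (pre c V)) (chartMap ξ (pre c W)) ≫ chartMap ξ (pre c W) from
          pullback.condition]
        rfl⟩
    obtain ⟨Z, q, hq, hZO⟩ := hcov (g p) (V.1 ⊓ W.1) fun w hw =>
      ⟨(preimage_vOf ξ (pre c V).1).le (show ξ.i w ∈ vOf ξ (pre c V).1 from hw ▸ hV),
        (preimage_vOf ξ (pre c W).1).le (show ξ.i w ∈ vOf ξ (pre c W).1 from hw ▸ hW)⟩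
    have h1 : Z.1 ≤ V.1 := hZO.trans inf_le_left
    have h2 : Z.1 ≤ W.1 := hZO.trans inf_le_right
    let l : Spec Γ(ξ.total, vOf ξ (pre c Z).1) ⟶ pullback (chartMap ξ (pre c V)) (chartMap ξ (pre c W)) :=
      pullback.lift (Spec.map (CommRingCat.ofHom (res ξ (pre_mono c h1))))
        (Spec.map (CommRingCat.ofHom (res ξ (pre_mono c h2))))
        (by rw [res_chartMap ξ (U := pre c V) (U' := pre c Z), res_chartMap ξ (U := pre c W) (U' := pre c Z)])
    have hlg : l ≫ g = chartMap ξ (pre c Z) := by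
      show pullback.lift _ _ _ ≫ pullback.fst _ _ ≫ _ = _
      rw [pullback.lift_fst_assoc, res_chartMap ξ (U := pre c V) (U' := pre c Z)]
    haveI : IsOpenImmersion g := inferInstanceAs (IsOpenImmersion (pullback.fst _ _ ≫ _))
    haveI : IsOpenImmersion l := by
      haveI : IsOpenImmersion (l ≫ g) := by rw [hlg]; infer_instance
      exact IsOpenImmersion.of_comp l g
    have hl : l q = p := by
      refine (Scheme.Hom.isOpenEmbedding g).injective ?_
      rw [← Scheme.Hom.comp_apply, hlg, hq]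
    refine ⟨l.opensRange, ⟨q, hl⟩, ?_⟩
    rw [← IsOpenImmersion.lift_fac l l.opensRange.ι (by rw [Scheme.Opens.range_ι]; rfl), Category.assoc, Category.assoc]
    refine congrArg (_ ≫ ·) ?_
    rw [pullback.lift_fst_assoc, pullback.lift_snd_assoc, hm V Z h1, hm W Z h2]
  let g : ξ.total ⟶ Y := Scheme.Cover.glueMorphisms 𝒰 m hagree
  have hg : ∀ V, chartMap ξ (pre c V) ≫ g = m V := fun V => Scheme.Cover.ι_glueMorphisms 𝒰 m hagree V
  refine ⟨g, Scheme.Cover.hom_ext 𝒰 _ _ fun V => ?_, ?_⟩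
  · show chartMap ξ (pre c V) ≫ g ≫ _ = chartMap ξ (pre c V) ≫ _
    rw [← Category.assoc, hg, ← Category.assoc (chartMap ξ (pre c V)), chartMap_f]
    show (Spec.map _ ≫ V.2.fromSpec) ≫ _ = Spec.map _ ≫ Spec.map (CommRingCat.ofHom (ofBase A).toAlgHom.toRingHom)
    rw [Category.assoc, ← Spec.map_comp]
    have e : ∀ V : Y.affineOpens, V.2.fromSpec ≫ (yK : Y ⟶ specPt k) =
        Spec.map (CommRingCat.ofHom (cU (yK : Y ⟶ specPt k) V.1)) := fun V => by
      rw [← IsAffineOpen.SpecMap_appLE_fromSpec (yK : Y ⟶ specPt k) (isAffineOpen_top _) V.2 le_top,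
        show (CommRingCat.ofHom (cU (yK : Y ⟶ specPt k) V.1)) =
          (Scheme.ΓSpecIso (CommRingCat.of k)).inv ≫ (yK : Y ⟶ specPt k).appLE ⊤ V.1 le_top from rfl,
        Spec.map_comp]
      refine congrArg (_ ≫ ·) ?_
      rw [IsAffineOpen.fromSpec_top, Scheme.isoSpec_Spec_inv]
    rw [e V, ← Spec.map_comp]
    congr 1
    exact CommRingCat.hom_ext (RingHom.ext fun t => (ψ V).hom_cU t)
  · refine Scheme.hom_ext_of_forall _ _ fun w => ?_
    obtain ⟨_, ⟨V, hV, rfl⟩, hwV, -⟩ :=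
      Y.isBasis_affineOpens.exists_subset_of_mem_open (Set.mem_univ (c w)) isOpen_univ
    refine ⟨c ⁻¹ᵁ V, hwV, ?_⟩
    rw [← (pre c ⟨V, hV⟩).2.isoSpec_hom_fromSpec, Category.assoc, Category.assoc]
    refine congrArg (_ ≫ ·) ?_
    rw [← Category.assoc, fromSpec_i ξ (pre c ⟨V, hV⟩), Category.assoc, hg, ← Category.assoc, ← Spec.map_comp,
      ← IsAffineOpen.SpecMap_appLE_fromSpec c hV (pre c ⟨V, hV⟩).2 le_rfl]
    congr 2
    refine CommRingCat.hom_ext (RingHom.ext fun b => ((ψ ⟨V, hV⟩).red_hom b).trans ?_)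
    show (c.app V).hom b = (c.appLE V (c ⁻¹ᵁ V) le_rfl).hom b
    rw [Scheme.Hom.app_eq_appLE]

end Glue

/-! ### Finiteness -/

/-- The underlying deformation of an embedded one, as a map of functors. -/
def objMap {I₀ : Y.IdealSheafData} (e : I₀.subscheme ≅ X) (he : e.hom ≫ x = subOver (yK : Y ⟶ specPt k) I₀) :
    Groth.L12.NatMap (localHilb Y (yK : Y ⟶ specPt k) I₀) (defFunctor (Λ := k) X x) where
  app A z := Groth.L14.DefLift.reindexCl e he A (objectOf z).cl
  natural {A B} μ z := by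
    obtain ⟨g, hg, hgi, -⟩ := Groth.L14.LocHilb.exists_over μ (I := z) rfl
    rw [← Groth.L14.DefLift.reindexCl_natural e he μ]
    exact congrArg (Groth.L14.DefLift.reindexCl e he B)
      ((Groth.L14.DefLift.map_cl_iff μ (objectOf z) _).2 ⟨g, hg, hgi⟩).symm

variable [IsClosedImmersion c]

theorem exists_hilb_of_extension {A : Art k k} (ξ : DefSch X x A) (g : ξ.total ⟶ Y)
    (hg : g ≫ (yK : Y ⟶ specPt k) = ξ.f ≫ specOver A) (hgi : ξ.i ≫ g = c) (hc : c ≫ yK = x)
    (e : c.ker.subscheme ≅ X) (he' : e.inv = c.toImage)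
    (he : e.hom ≫ x = subOver (yK : Y ⟶ specPt k) c.ker) :
    ∃ z, (objMap e he).app A z = ξ.cl := by
  have hinv : e.inv ≫ subOver (yK : Y ⟶ specPt k) c.ker = x := by rw [← he, e.inv_hom_id_assoc]
  let ξ' : DefSch c.ker.subscheme (subOver (yK : Y ⟶ specPt k) c.ker) A :=
    Groth.L14.DefLift.reindex e.symm hinv ξ
  have hgi' : ξ'.i ≫ g = c.ker.subschemeι := by
    show (e.hom ≫ ξ.i) ≫ g = _
    rw [Category.assoc, hgi]
    refine (congrArg (e.hom ≫ ·) c.toImage_imageι.symm).trans ?_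
    rw [← he', e.hom_inv_id_assoc]
  let J : ξ'.total ⟶ XA (yK : Y ⟶ specPt k) A := Groth.L14.LocHilb.toXA ξ' g hg
  have hJ : J ≫ XApr (yK : Y ⟶ specPt k) A = ξ'.f := pullback.lift_snd _ _ _
  have hJi : ξ'.i ≫ J = c.ker.subschemeι ≫ XAincl (yK : Y ⟶ specPt k) A := by
    refine pullback.hom_ext ?_ ?_
    · rw [Category.assoc, Category.assoc, show J ≫ pullback.fst _ _ = g from pullback.lift_fst _ _ _, hgi']
      exact ((congrArg (_ ≫ ·) (XAincl_fst _ A)).trans (Category.comp_id _)).symm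
    · rw [Category.assoc, Category.assoc, show J ≫ pullback.snd _ _ = ξ'.f from hJ, XAincl_snd, ξ'.i_f]
      exact Category.assoc _ _ _
  haveI := Groth.L14.LocHilb.isClosedImmersion_emb ξ' J hJ hJi
  let z := Groth.L14.LocHilb.emb ξ' J hJ hJi
  refine ⟨z, ?_⟩
  let φ : ξ'.total ⟶ (objectOf z).total := J.toImage
  have hφι : φ ≫ z.1.subschemeι = J := J.toImage_imageι
  have hcl : ξ'.cl = (objectOf z).cl := by
    refine Groth.L14.DefLift.cl_eq_of_hom φ ?_ ((cancel_mono z.1.subschemeι).1 ?_)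
    · show φ ≫ z.1.subschemeι ≫ XApr _ A = _
      rw [← Category.assoc, hφι, hJ]
    · rw [Category.assoc, hφι, hJi]
      exact (objectOf_i_compat z).symm
  show Groth.L14.DefLift.reindexCl e he A (objectOf z).cl = ξ.cl
  rw [← hcl]
  exact Groth.L14.DefLift.reindexCl_leftInverse e.symm hinv he A ξ.cl

variable [Smooth (Y ↘ Spec (CommRingCat.of k))] [IsProper (Y ↘ Spec (CommRingCat.of k))]

set_option maxHeartbeats 1000000 in
/-- The tangent space of deformations is finite-dimensional. -/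
theorem hfin (hc : c ≫ yK = x) [TangentStr (defFunctor (Λ := k) X x)] : Hfin (defFunctor (Λ := k) X x) := by
  haveI : IsLocallyNoetherian Y := LocallyOfFiniteType.isLocallyNoetherian yK
  haveI : IsLocallyNoetherian X := LocallyOfFiniteType.isLocallyNoetherian c
  have hcoh : Coh.IsCoh (dMod k c) := Groth.L16.HomSh.isCoh_homMod (Groth.L15.OmegaCoh.isCoh_omega _)
    (Groth.L16.CohClosedPush.isCoh_push c (Groth.L16.CohClosedPush.isCoh_structure (X := X)))
  haveI : Coh.IsQCoh (dMod k c) := hcoh.1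
  haveI : Module.Finite k (Coh.HH Y (dMod k c) 1) := Groth.L16.ProperFinite.finite_HH k hcoh 1
  obtain ⟨κ, -, hκ⟩ := exists_class k (dMod k c)
  have hex : ∀ ξ : DefSch X x (dual k k), ∃ p : (∀ V, Emb c ξ V) × (Fin (S₁ k).n → Fn k (dMod k c)),
      IsObs c (S₁ k) p.1 p.2 := fun ξ => by
    obtain ⟨cc, h⟩ := exists_isObs c (S₁ k) maxIdeal_le_S₁ (fun V => (exists_emb hc ξ V).some)
    exact ⟨⟨_, cc⟩, h⟩
  choose p hp using hex
  let l₁ : Fin (S₁ k).n := ⟨0, Nat.one_pos⟩
  let cl : DefSch X x (dual k k) → Coh.HH Y (dMod k c) 1 := fun ξ => κ ⟨_, (hp ξ).cocycle c (S₁ k) l₁⟩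
  have hany : ∀ (ξ : DefSch X x (dual k k)) (ψ : ∀ V, Emb c ξ V) (cc : Fin (S₁ k).n → Fn k (dMod k c))
      (h : IsObs c (S₁ k) ψ cc), cl ξ = κ ⟨cc l₁, h.cocycle c (S₁ k) l₁⟩ := by
    intro ξ ψ cc h
    obtain ⟨t, ht⟩ := h.bdry_of c (S₁ k) maxIdeal_le_S₁ (hp ξ)
    rw [← sub_eq_zero, ← map_sub, hκ]
    refine ⟨t l₁, ?_⟩
    show _ = (p ξ).2 l₁ - cc l₁
    rw [ht l₁, add_sub_cancel_left]
  have hpush : ∀ {A : Art k k} (ν : A ⟶ dual k k) (ζ : DefSch X x A) (η : DefSch X x (dual k k))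
      (g : η.total ⟶ ζ.total) (hg : g ≫ ζ.f = η.f ≫ specMap ν) (hgi : η.i ≫ g = ζ.i) (S : SocBasis A)
      (ψ : ∀ V, Emb c ζ V) (cc : Fin S.n → Fn k (dMod k c)) (h : IsObs c S ψ cc) (a : Fin S.n → k),
      (∀ l, ν (S.e l) = algebraMap k (dual k k) (a l) * εd) →
      cl η = ∑ l, a l • κ ⟨cc l, h.cocycle c S l⟩ := by
    intro A ν ζ η g hg hgi S ψ cc h a ha
    rw [hany η _ _ (h.push hc S (S₁ k) rfl hg hgi a (fun l _ => ha l))]
    simp only [← map_smul, ← map_sum]
    congr 1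
    refine Subtype.ext ?_
    simp only [Submodule.coe_sum, Submodule.coe_smul]
  have hwd : ∀ ξ η : DefSch X x (dual k k), ξ.cl = η.cl → cl ξ = cl η := fun ξ η e => by
    obtain ⟨i⟩ := Quotient.exact e
    have hi : i.iso.hom ≫ η.f = ξ.f ≫ specMap (𝟙 (dual k k)) := by
      rw [Art.specMap_id, Category.comp_id]
      exact i.hom_f
    rw [hpush (𝟙 (dual k k)) η ξ i.iso.hom hi i.i_hom (S₁ k) _ _ (hp η) (fun _ => 1) (fun l => by
      rw [map_one, one_mul]
      rfl)]
    show ∑ l : Fin 1, _ = _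
    rw [Fin.sum_univ_one, one_smul]
    rfl
  let Ψ : (defFunctor (Λ := k) X x).obj (dual k k) → Coh.HH Y (dMod k c) 1 :=
    Quotient.lift cl fun a b h => hwd a b (Quotient.sound h)
  have hmap : ∀ {A : Art k k} (ν : A ⟶ dual k k) (ζ : DefSch X x A) (S : SocBasis A)
      (ψ : ∀ V, Emb c ζ V) (cc : Fin S.n → Fn k (dMod k c)) (h : IsObs c S ψ cc) (a : Fin S.n → k),
      (∀ l, ν (S.e l) = algebraMap k (dual k k) (a l) * εd) →
      Ψ ((defFunctor (Λ := k) X x).map ν ζ.cl) = ∑ l, a l • κ ⟨cc l, h.cocycle c S l⟩ := by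
    intro A ν ζ S ψ cc h a ha
    rw [defFunctor_map_cl]
    exact hpush ν ζ _ _ pullback.condition (DefSch.baseChange_i_fst _ _) S ψ cc h a ha
  let T : TangentSpace (defFunctor (Λ := k) X x) →ₗ[k] Coh.HH Y (dMod k c) 1 :=
    { toFun := fun P => Ψ P.val
      map_add' := fun P Q => by
        obtain ⟨z, h1, h2⟩ := Groth.L12.exists_pair (Groth.L14.DefLift.h0_sch X x)
          (Groth.L14.DefLift.heps_sch X x) P Q
        subst h1 h2
        refine (congrArg (fun w : TangentSpace (defFunctor (Λ := k) X x) => Ψ w.val)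
          (TangentStr.add_eq (F := defFunctor (Λ := k) X x) z)).trans ?_
        show Ψ ((defFunctor (Λ := k) X x).map plus z) =
          Ψ ((defFunctor (Λ := k) X x).map pr₁ z) + Ψ ((defFunctor (Λ := k) X x).map pr₂ z)
        induction z using Quotient.inductionOn with
        | h ζ =>
          let ψ : ∀ V, Emb c ζ V := fun V => (exists_emb hc ζ V).some
          obtain ⟨cc, h⟩ := exists_isObs c (S₂ k) maxIdeal_le_S₂ ψ
          rw [show (Quotient.mk _ ζ : (defFunctor (Λ := k) X x).obj (dual2 k k)) = ζ.cl from rfl,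
            hmap plus ζ (S₂ k) ψ cc h _ plus_εd₂, hmap pr₁ ζ (S₂ k) ψ cc h _ pr₁_εd₂,
            hmap pr₂ ζ (S₂ k) ψ cc h _ pr₂_εd₂]
          show ∑ l : Fin 2, _ = ∑ l : Fin 2, _ + ∑ l : Fin 2, _
          simp only [Fin.sum_univ_two]
          simp
      map_smul' := fun r P => by
        show Ψ (r • P).val = r • Ψ P.val
        rw [show (r • P).val = (defFunctor (Λ := k) X x).map (scale r) P.val from TangentStr.smul_eq r P.val]
        obtain ⟨ζ, hζ⟩ := Quotient.exists_rep P.val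
        rw [← hζ]
        refine (hmap (scale r) ζ (S₁ k) _ _ (hp ζ) (fun _ => r) (fun l => scale_εd r)).trans ?_
        show ∑ l : Fin 1, _ = _
        rw [Fin.sum_univ_one]
        rfl }
  let e : c.ker.subscheme ≅ X := (asIso c.toImage).symm
  have he : e.hom ≫ x = subOver (yK : Y ⟶ specPt k) c.ker := by
    show inv c.toImage ≫ x = c.imageι ≫ (yK : Y ⟶ specPt k)
    rw [IsIso.inv_comp_eq, Scheme.Hom.toImage_imageι_assoc]
    exact hc.symm
  haveI : IsProper (c.ker.subschemeι ≫ (yK : Y ⟶ specPt k)) := inferInstance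
  obtain ⟨T'⟩ := Groth.L12.nonempty_tangentStr (F := localHilb Y (yK : Y ⟶ specPt k) c.ker)
    (Groth.L14.LocHilb.h0 inferInstance) (fun B A' p' p'' hh => Groth.L14.LocHilb.bijective_cmp hh (dual k k).res_surjective)
  letI := T'
  haveI : Module.Finite k (TangentSpace (localHilb Y (yK : Y ⟶ specPt k) c.ker)) :=
    Groth.L14.LocHilb.hfin (x := (yK : Y ⟶ specPt k)) c.ker
  obtain ⟨f, hf⟩ := Groth.L12.exists_linearMap (Groth.L14.LocHilb.h0 inferInstance)
    (fun B A' p' p'' hh => Groth.L14.LocHilb.bijective_cmp hh (dual k k).res_surjective) (objMap (x := x) e he)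
  have hker : LinearMap.ker T ≤ LinearMap.range f := by
    intro P hP
    obtain ⟨ζ, hζ⟩ := Quotient.exists_rep P.val
    have hz : cl ζ = 0 := by
      have h : Ψ P.val = 0 := hP
      rwa [← hζ] at h
    obtain ⟨t, ht⟩ := (hκ _).1 hz
    let ψ' := fun V => ((p ζ).1 V).addDer c (S₁ k) fun _ => -t V
    have h' := (hp ζ).add_bdry c (S₁ k) fun _ => -t
    have h0 : ∀ l : Fin (S₁ k).n, (p ζ).2 l + bdry k (dMod k c) (-t) = 0 := fun l => by
      obtain rfl : l = l₁ := Subsingleton.elim (α := Fin 1) l _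
      rw [map_neg]
      exact add_neg_eq_zero.2 ht.symm
    have hψ : ∀ (V Z : Y.affineOpens) (h : Z.1 ≤ V.1), (ψ' V).restrict c h = ψ' Z := fun V Z h => by
      refine (Emb.ext' c fun b => ?_).trans (Emb.restrict_self c (ψ' Z) le_rfl)
      refine Eq.trans ?_ (h' V Z Z h le_rfl b).symm
      refine ((congrArg (_ + ·) ?_).trans (add_zero _)).symm
      refine (congrArg ((S₁ k).sum ζ (pre c Z)) (funext fun l => ?_)).trans ((S₁ k).sum_zero ζ _)
      show dN c (resK k (dMod k c) _ (((p ζ).2 l + bdry k (dMod k c) (-t)) V Z)) b = 0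
      rw [h0 l]
      show dN c (resK k (dMod k c) _ (0 : SecK k (dMod k c) (V.1 ⊓ Z.1))) b = 0
      rw [map_zero, dN_zero]
    obtain ⟨g, hg, hgi⟩ := exists_extension hc ψ' hψ
    obtain ⟨z, hz'⟩ := exists_hilb_of_extension ζ g hg hgi hc e rfl he
    exact ⟨z, (hf z).trans (hz'.trans hζ)⟩
  haveI : Module.Finite k (LinearMap.range f) := Module.Finite.range f
  haveI : Module.Finite k (LinearMap.ker T) := Submodule.finiteDimensional_of_le hker
  haveI : Module.Finite k (TangentSpace (defFunctor (Λ := k) X x) ⧸ LinearMap.ker T) :=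
    Module.Finite.equiv (T.quotKerEquivRange).symm
  exact Module.Finite.of_submodule_quotient (LinearMap.ker T)

end Groth.L14.EmbObs
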