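import Groth.Agent.L12.CotTExal

/-! # Trivial extensions and `T¹` -/

set_option autoImplicit false
set_option linter.style.haveILetI false

universe u

attribute [local instance] Exal.opModule Exal.isCentralScalar_opModule

namespace Groth.L14.DefLift

variable {A B : Type u} [CommRing A] [CommRing B] [Algebra A B] {M : Type u} [AddCommGroup M] [Module B M]

theorem cl_eq_zero_of_isTrivial (X : Exal.Ext A B M) (h : X.IsTrivial) : X.cl = 0 := by
  obtain ⟨s, hs⟩ := h
  have hsq : ∀ z w : M, X.incl z * X.incl w = 0 := fun z w => by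
    rw [X.isExtension.mul_incl, (X.isExtension.exact _).2 ⟨z, rfl⟩, zero_smul, map_zero]
  let G : TrivSqZeroExt B M → X.E := fun z => s z.fst + X.incl z.snd
  have hmul : ∀ x y : TrivSqZeroExt B M, G (x * y) = G x * G y := fun x y => by
    show s (x * y).fst + X.incl (x * y).snd = (s x.fst + X.incl x.snd) * (s y.fst + X.incl y.snd)
    rw [TrivSqZeroExt.fst_mul, TrivSqZeroExt.snd_mul, map_mul, map_add, op_smul_eq_smul, add_mul, mul_add, mul_add,
      hsq, X.isExtension.mul_incl, mul_comm (X.incl x.snd) (s y.fst), X.isExtension.mul_incl, hs, hs, add_zero]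
    abel
  let g : (Exal.Ext.trivial A B M).E →ₐ[A] X.E :=
    { toFun := G
      map_one' := (show G (1 : TrivSqZeroExt B M) = 1 by simp [G])
      map_mul' := hmul
      map_zero' := (show G (0 : TrivSqZeroExt B M) = 0 by simp [G])
      map_add' := (show ∀ x y : TrivSqZeroExt B M, G (x + y) = G x + G y from fun x y => by simp [G]; abel)
      commutes' := fun a => by
        show s (algebraMap A B a) + X.incl (0 : M) = _
        rw [map_zero, add_zero, AlgHom.commutes] }
  have hp : ∀ z, X.proj (g z) = (Exal.Ext.trivial A B M).proj z := fun z => by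
    show X.proj (s (TrivSqZeroExt.fst z) + X.incl (TrivSqZeroExt.snd z)) = _
    rw [map_add, hs, (X.isExtension.exact _).2 ⟨_, rfl⟩, add_zero]
    rfl
  have hi : ∀ z, g ((Exal.Ext.trivial A B M).incl z) = X.incl z := fun z => by
    show s (TrivSqZeroExt.fst (TrivSqZeroExt.inr z : TrivSqZeroExt B M)) +
      X.incl (TrivSqZeroExt.snd (TrivSqZeroExt.inr z : TrivSqZeroExt B M)) = _
    simp
  obtain ⟨e⟩ := Groth.L12.CotTLib.equiv_of_hom (Exal.Ext.trivial A B M) X g hp hi
  exact (Quotient.sound (s := Exal.Ext.setoid A B M) ⟨e⟩).symm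

theorem subsingleton_T1_of_trivial (h : ∀ X : Exal.Ext A B M, X.IsTrivial) :
    Subsingleton (CotT.T1 (CotT.canon A B) M) := by
  obtain ⟨e, -⟩ := Groth.L12.CotTLib.exists_exalcom_equiv (CotT.canon A B) M
  haveI : Subsingleton (Exal.Exalcom A B M) := subsingleton_of_forall_eq 0 fun c => by
    induction c using Quotient.ind with
    | _ X => exact cl_eq_zero_of_isTrivial X (h X)
  exact e.symm.subsingleton

end Groth.L14.DefLift
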