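import Groth.Agent.L14.DefLift.ToSch
import Groth.Agent.L12.ArtPullback
import Groth.Agent.L12.ArtBasic
import Mathlib.LinearAlgebra.Basis.VectorSpace

/-! # Gluing deformations of an affine scheme over fibre products of Artinian rings -/

set_option autoImplicit false
set_option linter.style.haveILetI false

universe u

open CategoryTheory CategoryTheory.Limits AlgebraicGeometry ArtFun ArtFun.Art

namespace Groth.L14.DefLift

variable {Λ k B₀ : Type u} [CommRing Λ] [Field k] [Algebra Λ k] [CommRing B₀] [Algebra k B₀]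

theorem mem_smul_top_of_β {A : Art Λ k} (D : Defo B₀ A A.res.toRingHom) {x : D.B} (h : D.β x = 0) :
    x ∈ IsLocalRing.maximalIdeal A • (⊤ : Submodule A D.B) := by
  rw [Ideal.smul_top_eq_map, Submodule.restrictScalars_mem]
  have h2 : x ∈ RingHom.ker D.β := h
  rw [D.ker_eq] at h2
  exact Ideal.map_mono (fun a ha => (Art.mem_maximalIdeal_iff A a).mpr ha) h2

theorem β_linearCombination {A : Art Λ k} (D : Defo B₀ A A.res.toRingHom) {J : Type u} (w : J → D.B) (f : J →₀ A) :
    D.β (Finsupp.linearCombination A w f) =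
      Finsupp.linearCombination k (fun j => D.β (w j)) (f.mapRange A.res (map_zero A.res)) := by
  induction f using Finsupp.induction_linear with
  | zero => simp
  | add f g hf hg => rw [map_add, map_add, hf, hg, Finsupp.mapRange_add (map_add A.res), map_add]
  | single j c =>
    rw [Finsupp.linearCombination_single, Finsupp.mapRange_single, Finsupp.linearCombination_single, Algebra.smul_def,
      Algebra.smul_def, map_mul, D.comm]
    rfl

/-- Lifts of a basis of the closed fibre form a basis. -/
theorem exists_basis {A : Art Λ k} (D : Defo B₀ A A.res.toRingHom) {J : Type u} (v : Module.Basis J k B₀)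
    (w : J → D.B) (hw : ∀ j, D.β (w j) = v j) : ∃ b : Module.Basis J A D.B, ⇑b = w := by
  haveI := D.flat
  let m := IsLocalRing.maximalIdeal A
  have hm : IsNilpotent m := Groth.L12.isNilpotent_maximalIdeal A
  haveI : m.IsMaximal := IsLocalRing.maximalIdeal.isMaximal _
  haveI : Module.Flat A (TensorProduct A A D.B) := Module.Flat.of_linearEquiv (TensorProduct.lid A D.B)
  haveI : Module.Free A D.B := Groth.L01.NilDescent.free_of_flat_baseChange m hm A Function.injective_id _
  let T : (J →₀ A) →ₗ[A] D.B := Finsupp.linearCombination A w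
  have hv : (fun j => D.β (w j)) = ⇑v := funext hw
  have hT : Function.Surjective T := by
    rw [← LinearMap.range_eq_top, eq_top_iff]
    refine le_of_nilpotent hm fun b _ => ?_
    choose s hs using A.res_surjective
    classical
    let f : J →₀ A := Finsupp.mapRange (fun c => if c = 0 then 0 else s c) (if_pos rfl) (v.repr (D.β b))
    have hf : f.mapRange A.res (map_zero A.res) = v.repr (D.β b) := by
      refine Finsupp.ext fun j => ?_
      simp only [f, Finsupp.mapRange_apply]
      split_ifs with h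
      · rw [map_zero, h]
      · exact hs _
    refine Submodule.mem_sup.mpr ⟨T f, ⟨f, rfl⟩, b - T f, mem_smul_top_of_β D ?_, add_sub_cancel _ _⟩
    rw [map_sub, β_linearCombination, hf, hv, v.linearCombination_repr, sub_self]
  obtain ⟨s, hs⟩ := Module.projective_lifting_property T LinearMap.id hT
  let qK : (J →₀ A) →ₗ[A] LinearMap.ker T := (LinearMap.id - s ∘ₗ T).codRestrict _ fun f => by
    show T (f - s (T f)) = 0
    rw [map_sub, show T (s (T f)) = T f from LinearMap.congr_fun hs _, sub_self]
  have hK : LinearMap.ker T ≤ (⊥ : Submodule A (J →₀ A)) := by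
    refine le_of_nilpotent hm fun f hf => ?_
    rw [bot_sup_eq]
    have h1 : f.mapRange A.res (map_zero A.res) = 0 := by
      refine linearIndependent_iff.mp v.linearIndependent _ ?_
      rw [← hv, ← β_linearCombination, show Finsupp.linearCombination A w f = 0 from hf, map_zero]
    have h2 : f ∈ m • (⊤ : Submodule A (J →₀ A)) := by
      rw [← f.sum_single]
      refine sum_mem fun j _ => ?_
      rw [show Finsupp.single j (f j) = f j • Finsupp.single j (1 : A) by rw [Finsupp.smul_single_one]]
      exact Submodule.smul_mem_smul ((Art.mem_maximalIdeal_iff A _).mpr (DFunLike.congr_fun h1 j)) trivial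
    have h3 := Submodule.mem_map_of_mem (f := qK) h2
    rw [Submodule.map_smul''] at h3
    have h4 := Submodule.mem_map_of_mem (f := (LinearMap.ker T).subtype) h3
    rw [Submodule.map_smul''] at h4
    have h5 : Submodule.map (LinearMap.ker T).subtype (Submodule.map qK ⊤) ≤ LinearMap.ker T :=
      Submodule.map_le_iff_le_comap.2 fun z _ => z.2
    convert Submodule.smul_mono (le_refl m) h5 h4 using 1
    show f = f - s (T f)
    rw [show T f = 0 from hf, map_zero, sub_zero]
  have hinj : Function.Injective T := LinearMap.ker_eq_bot.mp (le_bot_iff.mp hK)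
  refine ⟨Module.Basis.ofRepr (LinearEquiv.ofBijective T ⟨hinj, hT⟩).symm, funext fun j => ?_⟩
  show T (Finsupp.single j 1) = w j
  rw [Finsupp.linearCombination_single, one_smul]

theorem exists_lifts {A : Art Λ k} (D : Defo B₀ A A.res.toRingHom) {J : Type u} (v : J → B₀) :
    ∃ w : J → D.B, ∀ j, D.β (w j) = v j := Classical.skolem.mp fun j => D.surj (v j)

/-- A map of deformations is an isomorphism. -/
theorem bijective_of_compat {A : Art Λ k} {D₁ D₂ : Defo B₀ A A.res.toRingHom} (φ : D₁.B →+* D₂.B)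
    (h : ∀ a, φ (algebraMap A D₁.B a) = algebraMap A D₂.B a) (hb : ∀ b, D₂.β (φ b) = D₁.β b) :
    Function.Bijective φ := by
  let v := Module.Basis.ofVectorSpace k B₀
  obtain ⟨w, hw⟩ := exists_lifts D₁ v
  obtain ⟨b₁, hb₁⟩ := exists_basis D₁ v w hw
  obtain ⟨b₂, hb₂⟩ := exists_basis D₂ v (fun j => φ (w j)) fun j => by rw [hb, hw]
  let L : D₁.B →ₗ[A] D₂.B :=
    { toFun := φ, map_add' := map_add φ, map_smul' := fun c x => by simp [Algebra.smul_def, h] }
  have hL : L = (b₁.equiv b₂ (Equiv.refl _)).toLinearMap := b₁.ext fun j => by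
    rw [LinearEquiv.coe_coe, Module.Basis.equiv_apply, Equiv.refl_apply, hb₂]
    show φ (b₁ j) = φ (w j)
    rw [hb₁]
  show Function.Bijective L
  rw [hL]
  exact LinearEquiv.bijective _

/-- A map of deformations over a map of the bases. -/
def Over {A A' : Art Λ k} (μ : A ⟶ A') (D : Defo B₀ A A.res.toRingHom) (D' : Defo B₀ A' A'.res.toRingHom) : Prop :=
  ∃ q : D.B →+* D'.B, (∀ a, q (algebraMap A D.B a) = algebraMap A' D'.B (μ a)) ∧ ∀ b, D'.β (q b) = D.β b

theorem cl_eq_of_compat {A : Art Λ k} {D₁ D₂ : Defo B₀ A A.res.toRingHom} (φ : D₁.B →+* D₂.B)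
    (h : ∀ a, φ (algebraMap A D₁.B a) = algebraMap A D₂.B a) (hb : ∀ b, D₂.β (φ b) = D₁.β b) :
    (toSch D₂).cl = (toSch D₁).cl :=
  cl_eq_of_ringEquiv (RingEquiv.ofBijective φ (bijective_of_compat φ h hb)) h hb

/-- Base change of a deformation of an algebra. -/
theorem map_cl_eq_iff {A A' : Art Λ k} (μ : A ⟶ A') (D : Defo B₀ A A.res.toRingHom)
    (D' : Defo B₀ A' A'.res.toRingHom) :
    (defFunctor (Spec (CommRingCat.of B₀)) (Spec.map (CommRingCat.ofHom (algebraMap k B₀)))).map μ (toSch D).cl =
      (toSch D').cl ↔ Over μ D D' := by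
  constructor
  · intro h
    obtain ⟨e⟩ := Quotient.exact h
    let c : Spec (CommRingCat.of D'.B) ⟶ Spec (CommRingCat.of D.B) :=
      e.iso.inv ≫ pullback.fst (toSch D).f (specMap μ)
    let q : CommRingCat.of D.B ⟶ CommRingCat.of D'.B := Spec.preimage c
    have hq : Spec.map q = c := Spec.map_preimage _
    refine ⟨q.hom, fun a => ?_, fun b => ?_⟩
    · refine ConcreteCategory.congr_hom (Spec.map_injective (a₁ := CommRingCat.ofHom (algebraMap A D.B) ≫ q)
        (a₂ := CommRingCat.ofHom μ.toAlgHom.toRingHom ≫ CommRingCat.ofHom (algebraMap A' D'.B)) ?_) a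
      rw [Spec.map_comp, Spec.map_comp, hq]
      show (e.iso.inv ≫ pullback.fst (toSch D).f (specMap μ)) ≫ (toSch D).f = (toSch D').f ≫ specMap μ
      rw [Category.assoc, pullback.condition, ← Category.assoc]
      exact congrArg (· ≫ specMap μ) e.symm.hom_f
    · refine ConcreteCategory.congr_hom (Spec.map_injective (a₁ := q ≫ CommRingCat.ofHom D'.β)
        (a₂ := CommRingCat.ofHom D.β) ?_) b
      rw [Spec.map_comp, hq]
      show (toSch D').i ≫ e.iso.inv ≫ pullback.fst (toSch D).f (specMap μ) = (toSch D).i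
      rw [← Category.assoc, show (toSch D').i ≫ e.iso.inv = ((toSch D).baseChange μ).i from e.symm.i_hom]
      exact DefSch.baseChange_i_fst _ _
  · rintro ⟨q, hqa, hqb⟩
    obtain ⟨D₁, e, hef, hei⟩ := exists_defo ((toSch D).baseChange μ)
    have h1 : (defFunctor (Spec (CommRingCat.of B₀)) (Spec.map (CommRingCat.ofHom (algebraMap k B₀)))).map μ
        (toSch D).cl = (toSch D₁).cl := Quotient.sound ⟨⟨e, hef, hei⟩⟩
    let c : Spec (CommRingCat.of D'.B) ⟶ ((toSch D).baseChange μ).total :=
      pullback.lift (Spec.map (CommRingCat.ofHom q)) (toSch D').f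
        ((Spec.map_comp _ _).symm.trans ((congrArg Spec.map (CommRingCat.hom_ext (RingHom.ext hqa))).trans
          (Spec.map_comp _ _)))
    let φ : CommRingCat.of D₁.B ⟶ CommRingCat.of D'.B := Spec.preimage (c ≫ e.hom)
    have hφ : Spec.map φ = c ≫ e.hom := Spec.map_preimage _
    refine h1.trans (cl_eq_of_compat φ.hom (fun a => ?_) fun b => ?_).symm
    · refine ConcreteCategory.congr_hom (Spec.map_injective (a₁ := CommRingCat.ofHom (algebraMap A' D₁.B) ≫ φ)
        (a₂ := CommRingCat.ofHom (algebraMap A' D'.B)) ?_) a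
      rw [Spec.map_comp, hφ]
      show (c ≫ e.hom) ≫ Spec.map (CommRingCat.ofHom (algebraMap A' D₁.B)) = (toSch D').f
      rw [Category.assoc, hef]
      exact pullback.lift_snd _ _ _
    · refine ConcreteCategory.congr_hom (Spec.map_injective (a₁ := φ ≫ CommRingCat.ofHom D'.β)
        (a₂ := CommRingCat.ofHom D₁.β) ?_) b
      rw [Spec.map_comp, hφ, ← Category.assoc]
      show ((toSch D').i ≫ c) ≫ e.hom = _
      rw [← hei]
      refine congrArg (· ≫ e.hom) (pullback.hom_ext ?_ ?_)
      · refine (Category.assoc _ _ _).trans ((congrArg (_ ≫ ·) (pullback.lift_fst _ _ _)).trans ?_)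
        refine Eq.trans ?_ (DefSch.baseChange_i_fst _ _).symm
        exact (Spec.map_comp _ _).symm.trans (congrArg Spec.map (CommRingCat.hom_ext (RingHom.ext hqb)))
      · exact (Category.assoc _ _ _).trans ((congrArg (_ ≫ ·) (pullback.lift_snd _ _ _)).trans
          ((toSch D').i_f.trans (DefSch.baseChange_i_f _ _).symm))

theorem exists_toSch_cl {A : Art Λ k}
    (c : (defFunctor (Spec (CommRingCat.of B₀)) (Spec.map (CommRingCat.ofHom (algebraMap k B₀)))).obj A) :
    ∃ D : Defo B₀ A A.res.toRingHom, (toSch D).cl = c := by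
  induction c using Quotient.inductionOn with
  | h ξ =>
    obtain ⟨D, e, hef, hei⟩ := exists_defo ξ
    exact ⟨D, Quotient.sound ⟨(⟨e, hef, hei⟩ : ξ.Iso (toSch D)).symm⟩⟩

section Glue

variable {B A A' A'' : Art Λ k} {p' : B ⟶ A'} {p'' : B ⟶ A''} {f' : A' ⟶ A} {f'' : A'' ⟶ A}
variable (hfp : IsFibreProd p' p'' f' f'') (hs : Function.Surjective f'')
variable {D' : Defo B₀ A' A'.res.toRingHom} {D'' : Defo B₀ A'' A''.res.toRingHom} {D₀ : Defo B₀ A A.res.toRingHom}
variable (q' : D'.B →+* D₀.B) (q'' : D''.B →+* D₀.B)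
variable (hqa' : ∀ a, q' (algebraMap A' D'.B a) = algebraMap A D₀.B (f' a)) (hqb' : ∀ b, D₀.β (q' b) = D'.β b)
variable (hqa'' : ∀ a, q'' (algebraMap A'' D''.B a) = algebraMap A D₀.B (f'' a)) (hqb'' : ∀ b, D₀.β (q'' b) = D''.β b)

include hs hqa'' hqb'' in
theorem q''_surjective : Function.Surjective q'' := by
  intro z
  let v := Module.Basis.ofVectorSpace k B₀
  obtain ⟨w, hw⟩ := exists_lifts D'' v
  obtain ⟨b, hb⟩ := exists_basis D₀ v (fun j => q'' (w j)) fun j => by rw [hqb'', hw]
  choose s hs' using hs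
  refine ⟨(b.repr z).sum fun j c => algebraMap A'' D''.B (s c) * w j, ?_⟩
  conv_rhs => rw [← b.linearCombination_repr z, Finsupp.linearCombination_apply]
  rw [map_finsuppSum]
  refine Finsupp.sum_congr fun j _ => ?_
  rw [map_mul, hqa'', show f'' (s _) = _ from hs' _, Algebra.smul_def, hb]

include hfp hs hqa' hqb' hqa'' hqb'' in
theorem exists_glue : ∃ (E : Defo B₀ B B.res.toRingHom) (r' : E.B →+* D'.B) (r'' : E.B →+* D''.B),
    (∀ c, r' (algebraMap B E.B c) = algebraMap A' D'.B (p' c)) ∧ (∀ b, D'.β (r' b) = E.β b) ∧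
    (∀ c, r'' (algebraMap B E.B c) = algebraMap A'' D''.B (p'' c)) ∧ (∀ b, D''.β (r'' b) = E.β b) ∧
    (∀ (D : Defo B₀ B B.res.toRingHom) (s' : D.B →+* D'.B) (s'' : D.B →+* D''.B),
      (∀ c, s' (algebraMap B D.B c) = algebraMap A' D'.B (p' c)) → (∀ b, D'.β (s' b) = D.β b) →
      (∀ c, s'' (algebraMap B D.B c) = algebraMap A'' D''.B (p'' c)) → q'.comp s' = q''.comp s'' →
      ∃ φ : D.B →+* E.B, (∀ c, φ (algebraMap B D.B c) = algebraMap B E.B c) ∧ ∀ b, E.β (φ b) = D.β b) ∧
    (∀ z, q' (r' z) = q'' (r'' z)) ∧ (∀ z z', r' z = r' z' → r'' z = r'' z' → z = z') ∧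
    (∀ x y, q' x = q'' y → ∃ z, r' z = x ∧ r'' z = y) := by
  classical
  let S : Subring (D'.B × D''.B) :=
    RingHom.eqLocus (q'.comp (RingHom.fst D'.B D''.B)) (q''.comp (RingHom.snd D'.B D''.B))
  have hwB : ∀ c, f' (p' c) = f'' (p'' c) := fun c =>
    DFunLike.congr_fun (congrArg (fun t : B ⟶ A => t.toAlgHom) hfp.w) c
  let i : B →+* S := RingHom.codRestrict
    (((algebraMap A' D'.B).comp p'.toAlgHom.toRingHom).prod ((algebraMap A'' D''.B).comp p''.toAlgHom.toRingHom)) S
    fun c => (hqa' (p' c)).trans ((congrArg _ (hwB c)).trans (hqa'' (p'' c)).symm)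
  letI : Algebra B S := i.toAlgebra
  let v := Module.Basis.ofVectorSpace k B₀
  obtain ⟨a, ha⟩ := exists_lifts D' v
  choose b hb using fun j => q''_surjective hs q'' hqa'' hqb'' (q' (a j))
  have hb' : ∀ j, D''.β (b j) = v j := fun j => by rw [← hqb'', hb, hqb', ha]
  obtain ⟨e', he'⟩ := exists_basis D' v a ha
  obtain ⟨e'', he''⟩ := exists_basis D'' v b hb'
  obtain ⟨e₀, he₀⟩ := exists_basis D₀ v (fun j => q' (a j)) fun j => by rw [hqb', ha]
  let w : _ → S := fun j => ⟨(a j, b j), (hb j).symm⟩
  have hsm : ∀ (c : B) (z : S), (c • z : S).1 = (p' c • z.1.1, p'' c • z.1.2) := fun c z => by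
    refine Prod.ext ?_ ?_
    · exact (Algebra.smul_def (p' c) z.1.1).symm
    · exact (Algebra.smul_def (p'' c) z.1.2).symm
  let T : (_ →₀ B) →ₗ[B] S := Finsupp.linearCombination B w
  have hT : ∀ f : _ →₀ B, (T f).1.1 = Finsupp.linearCombination A' a (f.mapRange p' (map_zero p'.toAlgHom)) ∧
      (T f).1.2 = Finsupp.linearCombination A'' b (f.mapRange p'' (map_zero p''.toAlgHom)) := by
    intro f
    induction f using Finsupp.induction_linear with
    | zero => simp
    | add f g hf hg =>
      rw [Finsupp.mapRange_add (map_add p'.toAlgHom), Finsupp.mapRange_add (map_add p''.toAlgHom), map_add, map_add,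
        map_add]
      exact ⟨congrArg₂ (· + ·) hf.1 hg.1, congrArg₂ (· + ·) hf.2 hg.2⟩
    | single j c =>
      rw [Finsupp.linearCombination_single, Finsupp.mapRange_single, Finsupp.mapRange_single,
        Finsupp.linearCombination_single, Finsupp.linearCombination_single, hsm]
      exact ⟨rfl, rfl⟩
  have hinj : Function.Injective T := by
    rw [injective_iff_map_eq_zero]
    intro f hf
    obtain ⟨h1, h2⟩ := hT f
    rw [hf] at h1 h2
    rw [← he'] at h1
    rw [← he''] at h2
    refine Finsupp.ext fun j => hfp.inj _ _ ?_ ?_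
    · have h3 := DFunLike.congr_fun (linearIndependent_iff.mp e'.linearIndependent _ h1.symm) j
      rw [Finsupp.mapRange_apply] at h3
      exact h3.trans (map_zero p'.toAlgHom).symm
    · have h4 := DFunLike.congr_fun (linearIndependent_iff.mp e''.linearIndependent _ h2.symm) j
      rw [Finsupp.mapRange_apply] at h4
      exact h4.trans (map_zero p''.toAlgHom).symm
  have hsurj : Function.Surjective T := by
    rintro ⟨⟨x, y⟩, hxy⟩
    let r := e'.repr x
    let s := e''.repr y
    have h1 : ∀ j, f' (r j) = f'' (s j) := by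
      have hx : q' x = Finsupp.linearCombination A (fun j => q' (a j)) (r.mapRange f' (map_zero f'.toAlgHom)) := by
        conv_lhs => rw [← e'.linearCombination_repr x, Finsupp.linearCombination_apply, map_finsuppSum]
        rw [Finsupp.linearCombination_apply, Finsupp.sum_mapRange_index (fun j => zero_smul A (q' (a j)))]
        refine Finsupp.sum_congr fun j _ => ?_
        rw [Algebra.smul_def, map_mul, hqa', he', Algebra.smul_def]
      have hy : q'' y = Finsupp.linearCombination A (fun j => q' (a j)) (s.mapRange f'' (map_zero f''.toAlgHom)) := by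
        conv_lhs => rw [← e''.linearCombination_repr y, Finsupp.linearCombination_apply, map_finsuppSum]
        rw [Finsupp.linearCombination_apply, Finsupp.sum_mapRange_index (fun j => zero_smul A (q' (a j)))]
        refine Finsupp.sum_congr fun j _ => ?_
        rw [Algebra.smul_def, map_mul, hqa'', he'', hb, Algebra.smul_def]
      have hxy' : q' x = q'' y := hxy
      rw [hx, hy, ← he₀] at hxy'
      intro j
      have := DFunLike.congr_fun (e₀.linearIndependent.finsuppLinearCombination_injective hxy') j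
      rwa [Finsupp.mapRange_apply, Finsupp.mapRange_apply] at this
    choose t ht' ht'' using fun j => hfp.surj (r j) (s j) (h1 j)
    let t' := fun j => if r j = 0 ∧ s j = 0 then (0 : B) else t j
    refine ⟨Finsupp.onFinset (r.support ∪ s.support) t' fun j hj => ?_, Subtype.ext (Prod.ext ?_ ?_)⟩
    · by_contra hne
      simp only [Finset.mem_union, Finsupp.mem_support_iff, not_or, not_not] at hne
      exact hj (if_pos hne)
    · rw [(hT _).1]
      show _ = x
      rw [← e'.linearCombination_repr x, he']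
      congr 1
      refine Finsupp.ext fun j => ?_
      rw [Finsupp.mapRange_apply, Finsupp.onFinset_apply]
      simp only [t']
      split_ifs with h
      · exact (map_zero p'.toAlgHom).trans h.1.symm
      · exact ht' j
    · rw [(hT _).2]
      show _ = y
      rw [← e''.linearCombination_repr y, he'']
      congr 1
      refine Finsupp.ext fun j => ?_
      rw [Finsupp.mapRange_apply, Finsupp.onFinset_apply]
      simp only [t']
      split_ifs with h
      · exact (map_zero p''.toAlgHom).trans h.2.symm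
      · exact ht'' j
  haveI : Module.Free B S := Module.Free.of_equiv (LinearEquiv.ofBijective T ⟨hinj, hsurj⟩)
  let r' : S →+* D'.B := (RingHom.fst D'.B D''.B).comp S.subtype
  let r'' : S →+* D''.B := (RingHom.snd D'.B D''.B).comp S.subtype
  have hr'c : ∀ c, r' (algebraMap B S c) = algebraMap A' D'.B (p' c) := fun c => rfl
  have hres : ∀ c, A'.res (p' c) = B.res c := fun c => Art.res_app p' c
  let E : Defo B₀ B B.res.toRingHom :=
    { B := S
      flat := inferInstance
      β := D'.β.comp r'
      surj := fun z => by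
        obtain ⟨x, hx⟩ := D'.surj z
        obtain ⟨y, hy⟩ := q''_surjective hs q'' hqa'' hqb'' (q' x)
        exact ⟨⟨(x, y), hy.symm⟩, hx⟩
      comm := fun c => by
        show D'.β (algebraMap A' D'.B (p' c)) = _
        rw [D'.comm]
        exact congrArg _ (hres c)
      ker_eq := by
        refine le_antisymm (fun z hz => ?_) (Ideal.map_le_iff_le_comap.2 fun c hc => ?_)
        · obtain ⟨f, rfl⟩ := hsurj z
          have h1 : (f.mapRange p' (map_zero p'.toAlgHom)).mapRange A'.res (map_zero A'.res) = 0 := by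
            refine linearIndependent_iff.mp v.linearIndependent _ ?_
            rw [← show (fun j => D'.β (a j)) = ⇑v from funext ha, ← β_linearCombination, ← (hT f).1]
            exact hz
          show T f ∈ _
          rw [show T f = f.sum fun j c => c • w j from Finsupp.linearCombination_apply B f]
          refine sum_mem fun j _ => ?_
          show algebraMap B S (f j) * w j ∈ _
          refine Ideal.mul_mem_right _ _ (Ideal.mem_map_of_mem _ ?_)
          have h2 := DFunLike.congr_fun h1 j
          rw [Finsupp.mapRange_apply, Finsupp.mapRange_apply, hres] at h2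
          exact h2
        · show D'.β (algebraMap A' D'.B (p' c)) = 0
          rw [D'.comm, show A'.res.toRingHom (p' c) = B.res c from hres c, show B.res c = 0 from hc, map_zero] }
  refine ⟨E, r', r'', hr'c, fun z => rfl, fun c => rfl, fun z => ?_, fun D s' s'' h1 h2 h3 h4 => ?_,
    fun z => z.2, fun z z' h h' => Subtype.ext (Prod.ext h h'), fun x y h => ⟨⟨(x, y), h⟩, rfl, rfl⟩⟩
  · show D''.β z.1.2 = D'.β z.1.1
    rw [← hqb'', ← hqb', show q' z.1.1 = q'' z.1.2 from z.2]
  · exact ⟨RingHom.codRestrict (s'.prod s'') S fun z => RingHom.congr_fun h4 z,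
      fun c => Subtype.ext (Prod.ext (h1 c) (h3 c)), h2⟩

end Glue

variable (Λ k B₀)

/-- Deformations of affine schemes: one point over the field. -/
theorem h0_defFunctor :
    H0 (defFunctor (Λ := Λ) (Spec (CommRingCat.of B₀)) (Spec.map (CommRingCat.ofHom (algebraMap k B₀)))) := by
  refine ⟨⟨(DefSch.self _ _ inferInstance).cl⟩, ⟨fun c c' => ?_⟩⟩
  obtain ⟨D, rfl⟩ := exists_toSch_cl c
  obtain ⟨D', rfl⟩ := exists_toSch_cl c'
  have hb : Function.Bijective D'.β := ⟨(RingHom.injective_iff_ker_eq_bot _).mpr (by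
    rw [D'.ker_eq, show RingHom.ker (base Λ k).res.toRingHom = ⊥ from
      (RingHom.injective_iff_ker_eq_bot _).mp Function.injective_id, Ideal.map_bot]), D'.surj⟩
  refine (cl_eq_of_compat ((RingEquiv.ofBijective D'.β hb).symm.toRingHom.comp D.β) (fun a => ?_) fun b => ?_).symm
  · refine hb.1 ?_
    rw [D'.comm, ← D.comm]
    exact RingEquiv.apply_symm_apply (RingEquiv.ofBijective D'.β hb) _
  · exact RingEquiv.apply_symm_apply (RingEquiv.ofBijective D'.β hb) _

/-- Gluing along a surjection. -/
theorem s1_defFunctor :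
    S1 (defFunctor (Λ := Λ) (Spec (CommRingCat.of B₀)) (Spec.map (CommRingCat.ofHom (algebraMap k B₀)))) := by
  intro B A A' A'' p' p'' f' f'' hfp hs
  rintro ⟨⟨c', c''⟩, h⟩
  obtain ⟨D', rfl⟩ := exists_toSch_cl c'
  obtain ⟨D'', rfl⟩ := exists_toSch_cl c''
  obtain ⟨D₀, hD₀⟩ := exists_toSch_cl ((defFunctor (Spec (CommRingCat.of B₀))
    (Spec.map (CommRingCat.ofHom (algebraMap k B₀)))).map f'' (toSch D'').cl)
  obtain ⟨q', hqa', hqb'⟩ := (map_cl_eq_iff f' D' D₀).mp (h.trans hD₀.symm)
  obtain ⟨q'', hqa'', hqb''⟩ := (map_cl_eq_iff f'' D'' D₀).mp hD₀.symm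
  obtain ⟨E, r', r'', h1, h2, h3, h4, -⟩ := exists_glue hfp hs q' q'' hqa' hqb' hqa'' hqb''
  exact ⟨(toSch E).cl, FibProd.ext ((map_cl_eq_iff p' E D').mpr ⟨r', h1, h2⟩)
    ((map_cl_eq_iff p'' E D'').mpr ⟨r'', h3, h4⟩)⟩

/-- Gluing with first-order deformations is unique. -/
theorem heps_defFunctor :
    Heps (defFunctor (Λ := Λ) (Spec (CommRingCat.of B₀)) (Spec.map (CommRingCat.ofHom (algebraMap k B₀)))) := by
  intro B A' p' p'' hfp
  refine ⟨fun z z' e => ?_, s1_defFunctor Λ k B₀ p' p'' _ _ hfp (dual Λ k).res_surjective⟩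
  obtain ⟨D, rfl⟩ := exists_toSch_cl z
  obtain ⟨D₂, rfl⟩ := exists_toSch_cl z'
  let F := defFunctor (Λ := Λ) (Spec (CommRingCat.of B₀)) (Spec.map (CommRingCat.ofHom (algebraMap k B₀)))
  obtain ⟨D', hD'⟩ := exists_toSch_cl (F.map p' (toSch D).cl)
  obtain ⟨D'', hD''⟩ := exists_toSch_cl (F.map p'' (toSch D).cl)
  obtain ⟨D₀, -⟩ := exists_toSch_cl (h0_defFunctor Λ k B₀).1.some
  have hb : Function.Bijective D₀.β := ⟨(RingHom.injective_iff_ker_eq_bot _).mpr (by
    rw [D₀.ker_eq, show RingHom.ker (base Λ k).res.toRingHom = ⊥ from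
      (RingHom.injective_iff_ker_eq_bot _).mp Function.injective_id, Ideal.map_bot]), D₀.surj⟩
  let i := (RingEquiv.ofBijective D₀.β hb).symm.toRingHom
  have hi : ∀ z, D₀.β (i z) = z := fun z => RingEquiv.apply_symm_apply (RingEquiv.ofBijective D₀.β hb) z
  obtain ⟨E, r', r'', h1, h2, h3, h4, huniv, -⟩ := exists_glue hfp (dual Λ k).res_surjective
    (i.comp D'.β) (i.comp D''.β)
    (fun a => hb.1 ((hi _).trans ((D'.comm a).trans (D₀.comm _).symm))) (fun b => hi _)
    (fun a => hb.1 ((hi _).trans ((D''.comm a).trans (D₀.comm _).symm))) (fun b => hi _)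
  have key : ∀ D : Defo B₀ B B.res.toRingHom, F.map p' (toSch D).cl = (toSch D').cl →
      F.map p'' (toSch D).cl = (toSch D'').cl → (toSch E).cl = (toSch D).cl := by
    intro D e' e''
    obtain ⟨s', hs'a, hs'b⟩ := (map_cl_eq_iff p' D D').mp e'
    obtain ⟨s'', hs''a, hs''b⟩ := (map_cl_eq_iff p'' D D'').mp e''
    obtain ⟨φ, hφa, hφb⟩ := huniv D s' s'' hs'a hs'b hs''a (RingHom.ext fun b => by
      show i (D'.β (s' b)) = i (D''.β (s'' b))
      rw [hs'b, hs''b])
    exact cl_eq_of_compat φ hφa hφb
  have e1 := congrArg (fun t => t.1.1) e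
  have e2 := congrArg (fun t => t.1.2) e
  exact (key D hD'.symm hD''.symm).symm.trans (key D₂ (e1.symm.trans hD'.symm) (e2.symm.trans hD''.symm))

end Groth.L14.DefLift
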