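import Groth.Agent.L12.CotTComp
import Mathlib.RingTheory.Smooth.Locus
import Mathlib.RingTheory.Extension.Cotangent.Free
import Mathlib.RingTheory.FinitePresentation

/-! # Smoothness away from an element in terms of the cotangent complex and `T¹` -/

set_option autoImplicit false
set_option linter.style.haveILetI false
set_option backward.isDefEq.respectTransparency false

universe u

open TensorProduct

namespace Groth.L14.DefLift

variable {A B : Type u} [CommRing A] [CommRing B] [Algebra A B] [IsNoetherianRing A] [Algebra.FiniteType A B]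
variable {m : ℕ} (G : Algebra.Generators A B (Fin m)) (u : B)

theorem exists_retract_of_smooth (h : ∀ q : PrimeSpectrum B, u ∉ q.asIdeal → q ∈ Algebra.smoothLocus A B) :
    ∃ (n : ℕ) (r : G.toExtension.CotangentSpace →ₗ[B] G.toExtension.Cotangent),
      ∀ x, r (G.toExtension.cotangentComplex x) = u ^ n • x := by
  haveI : Algebra.FinitePresentation A B := Algebra.FinitePresentation.of_finiteType.mp inferInstance
  haveI : IsNoetherianRing B := Algebra.FiniteType.isNoetherianRing A B
  let E := G.toExtension
  let S := Submonoid.powers u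
  haveI := Algebra.basicOpen_subset_smoothLocus_iff.mp
    (show ((PrimeSpectrum.basicOpen u : Set (PrimeSpectrum B))) ⊆ Algebra.smoothLocus A B from fun q hq => h q hq)
  let g := KaehlerDifferential.map A A B (Localization.Away u)
  -- the homology
  have hH : ∀ x : E.Cotangent, E.cotangentComplex x = 0 → ∃ a, u ^ a • x = 0 := by
    intro x hx
    let y := G.equivH1Cotangent ⟨x, hx⟩
    have hy : Algebra.H1Cotangent.map A A B (Localization.Away u) y = 0 := Subsingleton.elim _ _
    obtain ⟨⟨_, a, rfl⟩, ha⟩ := (IsLocalizedModule.eq_zero_iff S _).mp hy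
    refine ⟨a, ?_⟩
    have h2 : u ^ a • (⟨x, hx⟩ : E.H1Cotangent) = 0 :=
      G.equivH1Cotangent.injective ((map_smul G.equivH1Cotangent _ _).trans (ha.trans (map_zero _).symm))
    exact congrArg Subtype.val h2
  obtain ⟨a, ha⟩ : ∃ a, ∀ x : E.Cotangent, E.cotangentComplex x = 0 → u ^ a • x = 0 := by
    haveI : Module.Finite B E.Cotangent := by
      have hk : G.ker.FG := IsNoetherian.noetherian _
      exact Algebra.Extension.Cotangent.finite hk
    obtain ⟨s, hs⟩ := (IsNoetherian.noetherian (LinearMap.ker E.cotangentComplex) :
      (LinearMap.ker E.cotangentComplex).FG)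
    choose a ha using hH
    let N := s.attach.sup fun x => a x.1 (hs.le (Submodule.subset_span x.2))
    refine ⟨N, fun x hx => ?_⟩
    have hx' : x ∈ Submodule.span B (s : Set E.Cotangent) := hs.ge hx
    induction hx' using Submodule.span_induction with
    | mem y hy =>
      have h3 : a y (hs.le (Submodule.subset_span hy)) ≤ N :=
        Finset.le_sup (f := fun x : s => a x.1 (hs.le (Submodule.subset_span x.2))) (Finset.mem_attach _ ⟨y, hy⟩)
      rw [← Nat.sub_add_cancel h3, pow_add, mul_smul, ha, smul_zero]
    | zero => exact smul_zero _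
    | add y z hy hz iy iz =>
      rw [smul_add, iy (hs.le hy), iz (hs.le hz), add_zero]
    | smul c y hy iy => rw [smul_comm, iy (hs.le hy), smul_zero]
  -- the differentials
  haveI : Module.Finite B (KaehlerDifferential A B) := inferInstance
  haveI : Module.FinitePresentation B (KaehlerDifferential A B) :=
    Module.finitePresentation_of_finite B _
  let f : E.CotangentSpace →ₗ[B] LocalizedModule S E.CotangentSpace := LocalizedModule.mkLinearMap S _
  let f' : KaehlerDifferential A B →ₗ[B] LocalizedModule S (KaehlerDifferential A B) := LocalizedModule.mkLinearMap S _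
  haveI : Module.Projective (Localization S) (LocalizedModule S (KaehlerDifferential A B)) := by
    have := IsLocalizedModule.iso S g
    have := this.extendScalarsOfIsLocalization S (Localization S)
    exact .of_equiv this.symm
  obtain ⟨σ, hσ⟩ := Module.projective_lifting_property (LocalizedModule.map S E.toKaehler) LinearMap.id
    (LocalizedModule.map_surjective S _ E.toKaehler_surjective)
  let σ' : KaehlerDifferential A B →ₗ[B] LocalizedModule S E.CotangentSpace :=
    { toFun := fun w => σ (f' w)
      map_add' := fun w w' => by rw [map_add, map_add]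
      map_smul' := fun c w => by rw [map_smul, LinearMap.map_smul_of_tower, RingHom.id_apply] }
  obtain ⟨l, s, hl⟩ := Module.FinitePresentation.exists_lift_of_isLocalizedModule (N' := LocalizedModule S E.CotangentSpace) S f σ'
  have hloc : f' ∘ₗ (E.toKaehler ∘ₗ l) = f' ∘ₗ ((s : B) • LinearMap.id) := by
    refine LinearMap.ext fun w => ?_
    show f' (E.toKaehler (l w)) = f' ((s : B) • w)
    have h1 : f (l w) = (s : B) • σ (f' w) := LinearMap.congr_fun hl w
    have h2 : LocalizedModule.map S E.toKaehler (f (l w)) = f' (E.toKaehler (l w)) := LocalizedModule.map_mk _ _ _ _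
    have h3 : LocalizedModule.map S E.toKaehler (σ (f' w)) = f' w := LinearMap.congr_fun hσ (f' w)
    rw [← h2, h1, LinearMap.map_smul_of_tower, h3, map_smul]
  obtain ⟨s', hs'⟩ := Module.Finite.exists_smul_of_comp_eq_of_isLocalizedModule S f' _ _ hloc
  obtain ⟨c, hc⟩ := s'.2
  obtain ⟨b, hb⟩ := s.2
  have hsec : ∀ w, E.toKaehler ((u ^ c • l) w) = u ^ (c + b) • w := fun w => by
    have h4 := LinearMap.congr_fun hs' w
    have h5 : (s' : B) • E.toKaehler (l w) = (s' : B) • (s : B) • w := h4
    rw [← hc, ← hb] at h5
    rw [LinearMap.smul_apply, map_smul, h5, pow_add, mul_smul]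
  let p : E.CotangentSpace →ₗ[B] E.CotangentSpace := u ^ (c + b) • LinearMap.id - (u ^ c • l) ∘ₗ E.toKaehler
  have hp : ∀ w, p w ∈ LinearMap.range E.cotangentComplex := fun w => by
    refine LinearMap.mem_range.2 ((E.exact_cotangentComplex_toKaehler (p w)).mp ?_)
    show E.toKaehler (u ^ (c + b) • w - (u ^ c • l) (E.toKaehler w)) = 0
    rw [map_sub, hsec, map_smul, sub_self]
  haveI : Module.Projective B E.CotangentSpace := Module.Projective.of_basis G.cotangentSpaceBasis
  obtain ⟨q, hq⟩ := Module.projective_lifting_property E.cotangentComplex.rangeRestrict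
    (p.codRestrict _ hp) E.cotangentComplex.surjective_rangeRestrict
  refine ⟨a + (c + b), u ^ a • q, fun x => ?_⟩
  have h6 : E.cotangentComplex (q (E.cotangentComplex x) - u ^ (c + b) • x) = 0 := by
    have h7 : E.cotangentComplex (q (E.cotangentComplex x)) = p (E.cotangentComplex x) :=
      congrArg Subtype.val (LinearMap.congr_fun hq _)
    rw [map_sub, map_smul, h7]
    show u ^ (c + b) • E.cotangentComplex x - (u ^ c • l) (E.toKaehler (E.cotangentComplex x)) - _ = 0
    rw [E.exact_cotangentComplex_toKaehler.apply_apply_eq_zero, map_zero, sub_zero, sub_self]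
  have h8 := ha _ h6
  rw [smul_sub, sub_eq_zero, smul_smul, ← pow_add] at h8
  exact h8

theorem smooth_of_retract (n : ℕ) (r : G.toExtension.CotangentSpace →ₗ[B] G.toExtension.Cotangent)
    (hr : ∀ x, r (G.toExtension.cotangentComplex x) = u ^ n • x) (q : PrimeSpectrum B) (hq : u ∉ q.asIdeal) :
    q ∈ Algebra.smoothLocus A B := by
  haveI : Algebra.FinitePresentation A B := Algebra.FinitePresentation.of_finiteType.mp inferInstance
  let E := G.toExtension
  let S := Submonoid.powers u
  refine Algebra.basicOpen_subset_smoothLocus_iff.mpr ?_ (show q ∈ PrimeSpectrum.basicOpen u from hq)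
  haveI : Subsingleton (LocalizedModule S (Algebra.H1Cotangent A B)) := by
    rw [LocalizedModule.subsingleton_iff]
    intro y
    refine ⟨u ^ n, ⟨n, rfl⟩, ?_⟩
    obtain ⟨⟨x, hx⟩, rfl⟩ := G.equivH1Cotangent.surjective y
    rw [← map_smul, show u ^ n • (⟨x, hx⟩ : E.H1Cotangent) = 0 from Subtype.ext (by
      show u ^ n • x = 0
      rw [← hr, show E.cotangentComplex x = 0 from hx, map_zero]), map_zero]
  haveI : Subsingleton (Algebra.H1Cotangent A (Localization.Away u)) :=
    (IsLocalizedModule.iso S (Algebra.H1Cotangent.map A A B (Localization.Away u))).toEquiv.symm.subsingleton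
  -- the differentials
  let t : E.CotangentSpace →ₗ[B] E.CotangentSpace := u ^ n • LinearMap.id - E.cotangentComplex ∘ₗ r
  have ht : LinearMap.ker E.toKaehler ≤ LinearMap.ker t := fun w hw => by
    obtain ⟨x, rfl⟩ := (E.exact_cotangentComplex_toKaehler w).mp hw
    show u ^ n • E.cotangentComplex x - E.cotangentComplex (r (E.cotangentComplex x)) = 0
    rw [hr, map_smul, sub_self]
  let h : KaehlerDifferential A B →ₗ[B] E.CotangentSpace :=
    Submodule.liftQ _ t ht ∘ₗ (LinearMap.quotKerEquivOfSurjective _ E.toKaehler_surjective).symm.toLinearMap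
  have hh : ∀ w, E.toKaehler (h w) = u ^ n • w := fun w => by
    obtain ⟨w, rfl⟩ := E.toKaehler_surjective w
    have h1 : (LinearMap.quotKerEquivOfSurjective _ E.toKaehler_surjective).symm (E.toKaehler w) =
        Submodule.Quotient.mk w := by
      rw [LinearEquiv.symm_apply_eq]; rfl
    show E.toKaehler (Submodule.liftQ _ t ht ((LinearMap.quotKerEquivOfSurjective _ E.toKaehler_surjective).symm _)) = _
    rw [h1, Submodule.liftQ_apply]
    show E.toKaehler (u ^ n • w - E.cotangentComplex (r w)) = _
    rw [map_sub, E.exact_cotangentComplex_toKaehler.apply_apply_eq_zero, sub_zero, map_smul]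
  haveI : Module.Projective B E.CotangentSpace := Module.Projective.of_basis G.cotangentSpaceBasis
  haveI : Module.Projective (Localization S) (LocalizedModule S E.CotangentSpace) :=
    Module.projective_of_isLocalizedModule S (LocalizedModule.mkLinearMap S _)
  haveI : Module.Projective (Localization S) (LocalizedModule S (KaehlerDifferential A B)) := by
    refine Module.Projective.of_split
      (Localization.mk 1 (⟨u ^ n, ⟨n, rfl⟩⟩ : S) • LocalizedModule.map S h) (LocalizedModule.map S E.toKaehler)
      (LinearMap.ext fun z => ?_)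
    induction z using LocalizedModule.induction_on with
    | _ w s =>
      rw [LinearMap.comp_apply, LinearMap.smul_apply, map_smul, LocalizedModule.map_mk, LocalizedModule.map_mk, hh,
        LocalizedModule.mk_smul_mk, one_smul, LinearMap.id_apply]
      exact LocalizedModule.mk_cancel_common_left (⟨u ^ n, ⟨n, rfl⟩⟩ : S) s w
  haveI : Module.Projective (Localization.Away u) (KaehlerDifferential A (Localization.Away u)) := by
    have := IsLocalizedModule.iso S (KaehlerDifferential.map A A B (Localization.Away u))
    have := this.extendScalarsOfIsLocalization S (Localization.Away u)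
    exact .of_equiv this
  exact (Algebra.formallySmooth_iff _ _).mpr ⟨inferInstance, inferInstance⟩

end Groth.L14.DefLift

namespace Groth.L14.DefLift

variable {A B : Type u} [CommRing A] [CommRing B] [Algebra A B] [IsNoetherianRing A] [Algebra.FiniteType A B]

/-- Powers of `u` kill `T¹` exactly when the algebra is smooth away from `u`. -/
theorem smooth_iff_killed (u : B) :
    (∀ q : PrimeSpectrum B, u ∉ q.asIdeal → q ∈ Algebra.smoothLocus A B) ↔
      ∃ n₀ : ℕ, ∀ (M : Type u) [AddCommGroup M] [Module B M] [Module.Finite B M],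
        ∀ x : CotT.T1 (CotT.canon A B) M, u ^ n₀ • x = 0 := by
  haveI : Algebra.FinitePresentation A B := Algebra.FinitePresentation.of_finiteType.mp inferInstance
  haveI : IsNoetherianRing B := Algebra.FiniteType.isNoetherianRing A B
  let P := Algebra.Presentation.ofFinitePresentation A B
  constructor
  · intro h
    obtain ⟨n, r, hr⟩ := exists_retract_of_smooth P.toGenerators u h
    refine ⟨n, fun M _ _ _ x => ?_⟩
    obtain ⟨-, ⟨e⟩, -⟩ := Groth.L12.CotTLib.nonempty_T_equiv (M := M) (CotT.canon A B) P
    refine e.injective ?_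
    rw [map_smul, map_zero]
    obtain ⟨φ, hφ⟩ := Groth.L12.CotTLib.homToT1_surjective P M (e x)
    rw [← hφ, ← map_smul, ← LinearMap.mem_ker, Groth.L12.CotTLib.ker_homToT1]
    refine ⟨φ ∘ₗ r, LinearMap.ext fun z => ?_⟩
    show φ (r (P.toExtension.cotangentComplex z)) = u ^ n • φ z
    exact (congrArg φ (hr z)).trans (map_smul φ _ _)
  · rintro ⟨n, hn⟩
    haveI : Module.Finite B P.toExtension.Cotangent := by
      have hk : P.toExtension.ker.FG := by
        show P.ker.FG
        rw [← P.span_range_relation_eq_ker]
        exact Submodule.fg_span (Set.finite_range _)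
      exact Algebra.Extension.Cotangent.finite hk
    obtain ⟨-, ⟨e⟩, -⟩ := Groth.L12.CotTLib.nonempty_T_equiv (M := P.toExtension.Cotangent) (CotT.canon A B) P
    have h0 : u ^ n • CotT.homToT1 P P.toExtension.Cotangent LinearMap.id = 0 := by
      obtain ⟨x, hx⟩ := e.surjective (CotT.homToT1 P P.toExtension.Cotangent LinearMap.id)
      rw [← hx, ← map_smul, hn _ x, map_zero]
    rw [← map_smul, ← LinearMap.mem_ker, Groth.L12.CotTLib.ker_homToT1] at h0
    obtain ⟨r, hr⟩ := h0
    exact fun q hq => smooth_of_retract P.toGenerators u n r (fun z => LinearMap.congr_fun hr z) q hq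

end Groth.L14.DefLift
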