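import Groth.Agent.L14.DefLift.Tangent1
import Groth.Agent.L14.DefLift.SmoothT1
import Mathlib.RingTheory.Jacobson.Artinian
import Mathlib.RingTheory.HopkinsLevitzki
import Mathlib.RingTheory.Jacobson.Ring

/-! # Finiteness of the tangent space for finitely many non-smooth points -/

set_option autoImplicit false
set_option linter.style.haveILetI false
set_option backward.isDefEq.respectTransparency false

universe u w

open CategoryTheory AlgebraicGeometry MvPolynomial TensorProduct ArtFun ArtFun.Art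

namespace Groth.L14.DefLift

variable {Λ k B₀ : Type u} [CommRing Λ] [Field k] [Algebra Λ k] [CommRing B₀] [Algebra k B₀]
variable {ι : Type w} (G : Algebra.Generators k B₀ ι)

omit [CommRing Λ] in
theorem finite_quotient_of_finite_zeroLocus [Algebra.FiniteType k B₀] (I : Ideal B₀)
    (h : (PrimeSpectrum.zeroLocus (I : Set B₀)).Finite) : Module.Finite k (B₀ ⧸ I) := by
  haveI : Finite (PrimeSpectrum (B₀ ⧸ I)) := by
    haveI := h.to_subtype
    refine Finite.of_injective (β := PrimeSpectrum.zeroLocus (I : Set B₀))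
      (fun q => ⟨PrimeSpectrum.comap (Ideal.Quotient.mk I) q, fun a ha => ?_⟩) fun q q' e => ?_
    · show Ideal.Quotient.mk I a ∈ q.asIdeal
      rw [Ideal.Quotient.eq_zero_iff_mem.mpr ha]
      exact zero_mem _
    · exact PrimeSpectrum.comap_injective_of_surjective _ Ideal.Quotient.mk_surjective (congrArg Subtype.val e)
  haveI : IsNoetherianRing (B₀ ⧸ I) := Algebra.FiniteType.isNoetherianRing k _
  haveI : IsJacobsonRing (B₀ ⧸ I) := isJacobsonRing_of_finiteType (A := k)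
  haveI : Ring.KrullDimLE 0 (B₀ ⧸ I) := Ring.KrullDimLE.mk₀ fun p hp => by
    classical
    let S : Finset (PrimeSpectrum (B₀ ⧸ I)) :=
      (Set.toFinite {q : PrimeSpectrum (B₀ ⧸ I) | q.asIdeal.IsMaximal ∧ p ≤ q.asIdeal}).toFinset
    have hS : S.inf (fun q => q.asIdeal) ≤ p := by
      conv_rhs => rw [← IsJacobsonRing.out' p hp.isRadical]
      refine le_sInf fun M ⟨hM, hM'⟩ => ?_
      exact Finset.inf_le (f := fun q => q.asIdeal)
        (show (⟨M, hM'.isPrime⟩ : PrimeSpectrum _) ∈ S by simp [S, hM, hM'])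
    obtain ⟨q, hq, hqp⟩ := hp.inf_le'.mp hS
    simp only [S, Set.Finite.mem_toFinset, Set.mem_setOf_eq] at hq
    rw [le_antisymm hq.2 hqp]
    exact hq.1
  haveI : IsArtinianRing (B₀ ⧸ I) := isArtinianRing_iff_krullDimLE_zero.mpr inferInstance
  exact Module.finite_of_isArtinianRing k (B₀ ⧸ I)

theorem finite_of_killed [Algebra.FiniteType k B₀] {M : Type u} [AddCommGroup M] [Module B₀ M] [Module k M]
    [IsScalarTower k B₀ M] [Module.Finite B₀ M] (I : Ideal B₀) (hI : ∀ a ∈ I, ∀ x : M, a • x = 0)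
    (h : (PrimeSpectrum.zeroLocus (I : Set B₀)).Finite) : Module.Finite k M := by
  haveI := finite_quotient_of_finite_zeroLocus (k := k) I h
  obtain ⟨n, s, hs⟩ := Module.Finite.exists_fin (R := B₀) (M := M)
  let g : Fin n → ((B₀ ⧸ I) →ₗ[B₀] M) := fun j =>
    Submodule.liftQ I (LinearMap.toSpanSingleton B₀ M (s j)) fun a ha => hI a ha _
  let f : (Fin n → B₀ ⧸ I) →ₗ[B₀] M := LinearMap.lsum B₀ (fun _ => B₀ ⧸ I) B₀ g
  have hf : Function.Surjective f := by
    rw [← LinearMap.range_eq_top, eq_top_iff, ← hs, Submodule.span_le]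
    rintro _ ⟨j, rfl⟩
    classical
    refine ⟨Pi.single j 1, ?_⟩
    show LinearMap.lsum B₀ (fun _ => B₀ ⧸ I) B₀ g (Pi.single j 1) = s j
    rw [LinearMap.lsum_piSingle]
    show Submodule.liftQ I _ _ (Submodule.Quotient.mk 1) = s j
    rw [Submodule.liftQ_apply, LinearMap.toSpanSingleton_apply_one]
  exact Module.Finite.of_surjective (f.restrictScalars k) hf

theorem finite_TOne {m : ℕ} (G : Algebra.Generators k B₀ (Fin m)) [Algebra.FiniteType k B₀]
    (h : {q : PrimeSpectrum B₀ | q ∉ Algebra.smoothLocus k B₀}.Finite) : Module.Finite k (TOne G) := by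
  haveI : IsNoetherianRing B₀ := Algebra.FiniteType.isNoetherianRing k B₀
  haveI : Algebra.FinitePresentation k B₀ := Algebra.FinitePresentation.of_finiteType.mp inferInstance
  haveI : IsNoetherianRing G.toExtension.Ring := inferInstanceAs (IsNoetherianRing (MvPolynomial (Fin m) k))
  haveI : Module.Finite B₀ G.toExtension.Cotangent :=
    Algebra.Extension.Cotangent.finite (IsNoetherian.noetherian _)
  haveI : Module.Finite B₀ (G.toExtension.Cotangent →ₗ[B₀] B₀) := by
    obtain ⟨n, s, hs⟩ := Module.Finite.exists_fin (R := B₀) (M := G.toExtension.Cotangent)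
    refine Module.Finite.of_injective (LinearMap.pi fun j => LinearMap.applyₗ (s j)) fun a b e => ?_
    exact LinearMap.ext_on_range hs fun j => congrFun e j
  refine finite_of_killed (Module.annihilator B₀ (TOne G)) (fun a ha x => Module.mem_annihilator.mp ha x) ?_
  refine h.subset fun q hq hsm => ?_
  obtain ⟨_, ⟨_, ⟨u, rfl⟩, rfl⟩, hqu, hu⟩ :=
    PrimeSpectrum.isBasis_basic_opens.exists_subset_of_mem_open hsm Algebra.isOpen_smoothLocus
  obtain ⟨n, r, hr⟩ := exists_retract_of_smooth G u fun q' hq' => hu hq'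
  have h1 : u ^ n ∈ Module.annihilator B₀ (TOne G) := by
    refine Module.mem_annihilator.mpr fun x => ?_
    obtain ⟨φ, rfl⟩ := Submodule.mkQ_surjective _ x
    rw [← map_smul, Submodule.mkQ_apply, Submodule.Quotient.mk_eq_zero]
    refine ⟨φ ∘ₗ r, LinearMap.ext fun z => ?_⟩
    show φ (r (G.toExtension.cotangentComplex z)) = u ^ n • φ z
    exact (congrArg φ (hr z)).trans (map_smul φ _ _)
  exact hqu (q.isPrime.mem_of_pow_mem n (hq h1))

section Hfin

variable (Λ)

local notation "DefF" => defFunctor (Λ := Λ) (Spec (CommRingCat.of B₀)) (Spec.map (CommRingCat.ofHom (algebraMap k B₀)))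

theorem tauD_add {D : Defo B₀ (dual2 Λ k) (dual2 Λ k).res.toRingHom}
    {D₁ D₂ D₃ : Defo B₀ (dual Λ k) (dual Λ k).res.toRingHom}
    (h₁ : Over pr₁ D D₁) (h₂ : Over pr₂ D D₂) (h₃ : Over plus D D₃) :
    tauD G D₃ = tauD G D₁ + tauD G D₂ := by
  obtain ⟨q₁, hq₁, hb₁⟩ := h₁
  obtain ⟨q₂, hq₂, hb₂⟩ := h₂
  obtain ⟨q₃, hq₃, hb₃⟩ := h₃
  choose x hx using fun i => D.surj (G.val i)
  let E₁ : dual2 Λ k := (TrivSqZeroExt.inr ((1 : k), (0 : k)) : TrivSqZeroExt k (k × k))
  let E₂ : dual2 Λ k := (TrivSqZeroExt.inr ((0 : k), (1 : k)) : TrivSqZeroExt k (k × k))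
  let sIn : k →+* dual2 Λ k := TrivSqZeroExt.inlHom k (k × k)
  have hdec : ∀ c : dual2 Λ k, (dual2 Λ k).res c = 0 → c ∈ Ideal.span {E₁, E₂} := by
    intro c hc
    have key : ∀ c' : TrivSqZeroExt k (k × k), TrivSqZeroExt.fst c' = 0 →
        c' = (TrivSqZeroExt.inl c'.snd.1 : TrivSqZeroExt k (k × k)) * TrivSqZeroExt.inr ((1 : k), (0 : k)) +
          TrivSqZeroExt.inl c'.snd.2 * TrivSqZeroExt.inr ((0 : k), (1 : k)) := fun c' hc' => by
      ext <;> simp [hc']
    exact Ideal.mem_span_pair.mpr ⟨sIn (TrivSqZeroExt.snd c).1, sIn (TrivSqZeroExt.snd c).2, (key c hc).symm⟩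
  have hy : ∀ f, aeval G.val f = 0 → ∃ y₁ y₂,
      evS sIn D x f = algebraMap (dual2 Λ k) D.B E₁ * y₁ + algebraMap (dual2 Λ k) D.B E₂ * y₂ := by
    intro f hf
    have h1 : evS sIn D x f ∈ RingHom.ker D.β := (β_evS G _ (fun c => rfl) D x hx f).trans hf
    rw [D.ker_eq] at h1
    have h2 : evS sIn D x f ∈ Ideal.span {algebraMap (dual2 Λ k) D.B E₁, algebraMap (dual2 Λ k) D.B E₂} := by
      rw [← Set.image_pair, ← Ideal.map_span]
      exact Ideal.map_mono hdec h1
    obtain ⟨a, b, hab⟩ := Ideal.mem_span_pair.mp h2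
    exact ⟨a, b, by rw [← hab, mul_comm a, mul_comm b]⟩
  have key : ∀ (μ : dual2 Λ k ⟶ dual Λ k) (D' : Defo B₀ (dual Λ k) (dual Λ k).res.toRingHom) (q : D.B →+* D'.B),
      (∀ a, q (algebraMap (dual2 Λ k) D.B a) = algebraMap (dual Λ k) D'.B (μ a)) → (∀ b, D'.β (q b) = D.β b) →
      ∀ (c₁ c₂ : k), μ E₁ = dEps Λ k * dIn Λ k c₁ → μ E₂ = dEps Λ k * dIn Λ k c₂ →
      (∀ c, μ (sIn c) = dIn Λ k c) →
      ∃ h, HasCls G D' (fun i => q (x i)) h ∧ ∀ f (hf : aeval G.val f = 0) y₁ y₂,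
        evS sIn D x f = algebraMap (dual2 Λ k) D.B E₁ * y₁ + algebraMap (dual2 Λ k) D.B E₂ * y₂ →
        h (gMk G f hf) = c₁ • D.β y₁ + c₂ • D.β y₂ := by
    intro μ D' q hq hb c₁ c₂ he₁ he₂ hin
    obtain ⟨h, hh⟩ := exists_cls G D' (fun i => q (x i)) fun i => by rw [hb, hx]
    refine ⟨h, hh, fun f hf y₁ y₂ hf' => ?_⟩
    rw [hh f hf (algebraMap (dual Λ k) D'.B (dIn Λ k c₁) * q y₁ + algebraMap (dual Λ k) D'.B (dIn Λ k c₂) * q y₂) (by
        rw [← map_evS μ sIn (dIn Λ k) hin D D' q hq x f, hf', map_add, map_mul, map_mul, hq, hq, he₁, he₂, map_mul,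
          map_mul, eB]
        ring),
      map_add, map_mul, map_mul, D'.comm, D'.comm, hb, hb, Algebra.smul_def, Algebra.smul_def]
    rfl
  obtain ⟨g₁, hg₁, k₁⟩ := key pr₁ D₁ q₁ hq₁ hb₁ 1 0 (by rw [map_one, mul_one]; rfl) (by rw [map_zero, mul_zero]; rfl)
    fun c => rfl
  obtain ⟨g₂, hg₂, k₂⟩ := key pr₂ D₂ q₂ hq₂ hb₂ 0 1 (by rw [map_zero, mul_zero]; rfl) (by rw [map_one, mul_one]; rfl)
    fun c => rfl
  obtain ⟨g₃, hg₃, k₃⟩ := key plus D₃ q₃ hq₃ hb₃ 1 1
    (by
      rw [map_one, mul_one]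
      exact Groth.L12.dual_ext rfl (by show (1 : k) + 0 = 1; simp))
    (by
      rw [map_one, mul_one]
      exact Groth.L12.dual_ext rfl (by show (0 : k) + 1 = 1; simp))
    fun c => Groth.L12.dual_ext rfl (by show (0 : k) + 0 = 0; simp)
  rw [tauD_eq G D₁ (fun i => by rw [hb₁, hx]) hg₁, tauD_eq G D₂ (fun i => by rw [hb₂, hx]) hg₂,
    tauD_eq G D₃ (fun i => by rw [hb₃, hx]) hg₃, ← Submodule.Quotient.mk_add]
  congr 1
  refine LinearMap.ext fun z => ?_
  obtain ⟨⟨f, hf⟩, rfl⟩ := Algebra.Extension.Cotangent.mk_surjective z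
  have hf' : aeval G.val f = 0 := (mem_ker_iff G f).mp hf
  obtain ⟨y₁, y₂, e⟩ := hy f hf'
  show g₃ (gMk G f hf') = g₁ (gMk G f hf') + g₂ (gMk G f hf')
  rw [k₁ f hf' y₁ y₂ e, k₂ f hf' y₁ y₂ e, k₃ f hf' y₁ y₂ e, one_smul, one_smul, zero_smul, zero_smul, add_zero, zero_add]

theorem tauD_scale (c : k) {D D' : Defo B₀ (dual Λ k) (dual Λ k).res.toRingHom} (h : Over (scale c) D D') :
    tauD G D' = c • tauD G D := by
  obtain ⟨q, hq, hb⟩ := h
  choose x hx using fun i => D.surj (G.val i)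
  obtain ⟨g, hg⟩ := exists_cls G D x hx
  obtain ⟨g', hg'⟩ := exists_cls G D' (fun i => q (x i)) fun i => by rw [hb, hx]
  rw [tauD_eq G D hx hg, tauD_eq G D' (fun i => by rw [hb, hx]) hg', ← Submodule.Quotient.mk_smul]
  congr 1
  refine LinearMap.ext fun z => ?_
  obtain ⟨⟨f, hf⟩, rfl⟩ := Algebra.Extension.Cotangent.mk_surjective z
  have hf' : aeval G.val f = 0 := (mem_ker_iff G f).mp hf
  obtain ⟨y, hy⟩ := exists_y G D x hx hf'
  show g' (gMk G f hf') = c • g (gMk G f hf')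
  rw [hg f hf' y hy, hg' f hf' (algebraMap (dual Λ k) D'.B (dIn Λ k c) * q y) (by
      rw [← map_evS (scale c) (dIn Λ k) (dIn Λ k)
          (fun c' => Groth.L12.dual_ext rfl (by show c * 0 = 0; simp)) D D' q hq x f, hy, map_mul, eB, hq,
        show (scale c : dual Λ k ⟶ dual Λ k) (dEps Λ k) = dEps Λ k * dIn Λ k c from
          Groth.L12.dual_ext (by
            show (0 : k) = TrivSqZeroExt.fst ((DualNumber.eps : DualNumber k) * TrivSqZeroExt.inl c)
            simp) (by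
            rw [Groth.L12.snd_scale, snd_dEps_mul]
            show c * TrivSqZeroExt.snd (DualNumber.eps : DualNumber k) = c
            simp), map_mul, eB, mul_assoc]),
    map_mul, D'.comm, hb, Algebra.smul_def]
  rfl

variable (B₀)

/-- The tangent space is finite-dimensional when there are finitely many non-smooth points. -/
theorem hfin_defFunctor [TangentStr DefF] [Algebra.FiniteType k B₀]
    (h : {q : PrimeSpectrum B₀ | q ∉ Algebra.smoothLocus k B₀}.Finite) : Hfin DefF := by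
  obtain ⟨m, π, hπ⟩ := Algebra.FiniteType.iff_quotient_mvPolynomial''.mp ‹Algebra.FiniteType k B₀›
  let G : Algebra.Generators k B₀ (Fin m) := Algebra.Generators.ofSurjective (fun i => π (MvPolynomial.X i)) (by
    rwa [show (MvPolynomial.aeval fun i => π (MvPolynomial.X i)) = π from (MvPolynomial.aeval_unique π).symm])
  haveI := finite_TOne G h
  choose Dc hDc using fun c : (DefF).obj (dual Λ k) => exists_toSch_cl c
  let τ : TangentSpace DefF → TOne G := fun c => tauD G (Dc c)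
  have hτ : ∀ D : Defo B₀ (dual Λ k) (dual Λ k).res.toRingHom, τ (toSch D).cl = tauD G D := fun D => by
    obtain ⟨ψ, h1, h2⟩ := exists_hom_of_cl_eq (hDc (toSch D).cl).symm
    exact tauD_congr G ψ h1 h2
  have hτadd : ∀ a b, τ (a + b) = τ a + τ b := by
    intro a b
    obtain ⟨z, rfl, rfl⟩ := Groth.L12.exists_pair (h0_defFunctor Λ k B₀) (heps_defFunctor Λ k B₀) a b
    obtain ⟨D, rfl⟩ := exists_toSch_cl z
    refine (congrArg τ (TangentStr.add_eq (F := DefF) (toSch D).cl)).trans ?_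
    obtain ⟨D₁, hD₁⟩ := exists_toSch_cl ((DefF).map pr₁ (toSch D).cl)
    obtain ⟨D₂, hD₂⟩ := exists_toSch_cl ((DefF).map pr₂ (toSch D).cl)
    obtain ⟨D₃, hD₃⟩ := exists_toSch_cl ((DefF).map plus (toSch D).cl)
    rw [← hD₁, ← hD₂, ← hD₃, hτ, hτ, hτ]
    exact tauD_add Λ G ((map_cl_eq_iff _ D D₁).mp hD₁.symm) ((map_cl_eq_iff _ D D₂).mp hD₂.symm)
      ((map_cl_eq_iff _ D D₃).mp hD₃.symm)
  have hτsmul : ∀ (c : k) a, τ (c • a) = c • τ a := by
    intro c a
    obtain ⟨D, rfl⟩ := exists_toSch_cl (a : (DefF).obj (dual Λ k))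
    refine (congrArg τ (TangentStr.smul_eq (F := DefF) c (toSch D).cl)).trans ?_
    obtain ⟨D', hD'⟩ := exists_toSch_cl ((DefF).map (scale c) (toSch D).cl)
    rw [← hD', hτ, hτ]
    exact tauD_scale Λ G c ((map_cl_eq_iff _ D D').mp hD'.symm)
  let L : TangentSpace DefF →ₗ[k] TOne G := { toFun := τ, map_add' := hτadd, map_smul' := hτsmul }
  refine Module.Finite.of_injective L fun a b e => ?_
  obtain ⟨φ, h1, h2⟩ := exists_compat_of_tauD_eq G (show tauD G (Dc a) = tauD G (Dc b) from e)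
  exact (hDc a).symm.trans ((cl_eq_of_compat φ h1 h2).symm.trans (hDc b))

end Hfin

end Groth.L14.DefLift
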