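import Groth.Agent.L14.DefLift.Torsor

/-! # Extensions are classified by `T¹` -/

set_option autoImplicit false
set_option linter.style.haveILetI false
set_option backward.isDefEq.respectTransparency false

universe u

open TensorProduct MvPolynomial ArtFun

namespace Groth.L14.DefLift

variable {k B₀ ι σ : Type u} [Field k] [CommRing B₀] [Algebra k B₀] (P : Algebra.Presentation k B₀ ι σ)
variable {C' Cb : Art k k} {p : C' ⟶ Cb} {D : Defo B₀ Cb Cb.res.toRingHom}

/-- The class of a relation in the conormal module. -/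
noncomputable def cotMk (f : MvPolynomial ι k) (hf : MvPolynomial.aeval P.val f = 0) : P.toExtension.Cotangent :=
  Algebra.Extension.Cotangent.mk ⟨f, (CotT.algebraMap_toExtension P f).trans hf⟩

theorem cotMk_add (f g : MvPolynomial ι k) (hf : MvPolynomial.aeval P.val f = 0) (hg : MvPolynomial.aeval P.val g = 0)
    (hfg : MvPolynomial.aeval P.val (f + g) = 0) : cotMk P (f + g) hfg = cotMk P f hf + cotMk P g hg :=
  map_add (Algebra.Extension.Cotangent.mk (P := P.toExtension))
    ⟨f, (CotT.algebraMap_toExtension P f).trans hf⟩ ⟨g, (CotT.algebraMap_toExtension P g).trans hg⟩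

theorem mk_smul_ker (c : P.toExtension.Ring) (f : P.toExtension.ker) :
    Algebra.Extension.Cotangent.mk (P := P.toExtension) (c • f) =
      algebraMap P.toExtension.Ring B₀ c • Algebra.Extension.Cotangent.mk f := by
  rw [map_smul, algebraMap_smul]

theorem cotMk_mul (c f : MvPolynomial ι k) (hf : MvPolynomial.aeval P.val f = 0)
    (hcf : MvPolynomial.aeval P.val (c * f) = 0) :
    cotMk P (c * f) hcf = MvPolynomial.aeval P.val c • cotMk P f hf :=
  (mk_smul_ker P c ⟨f, (CotT.algebraMap_toExtension P f).trans hf⟩).trans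
    (congrArg (· • cotMk P f hf) (CotT.algebraMap_toExtension P c))

theorem cotMk_congr {f g : MvPolynomial ι k} (h : f = g) (hf : MvPolynomial.aeval P.val f = 0)
    (hg : MvPolynomial.aeval P.val g = 0) : cotMk P f hf = cotMk P g hg := by subst h; rfl

/-- Reduction to the closed fibre. -/
noncomputable abbrev red : MvPolynomial ι C' →+* MvPolynomial ι k := MvPolynomial.map C'.res.toRingHom

variable (x0 : ι → D.B)

/-- Lifts of the generators. -/
def IsLift (E : Ext1 p D) (x : ι → E.D'.B) : Prop := ∀ i, E.q (x i) = x0 i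

variable {x0} (hx0 : ∀ i, D.β (x0 i) = P.val i)

theorem IsLift.exists' (E : Ext1 p D) : ∃ x : ι → E.D'.B, IsLift x0 E x := by
  choose x hx using fun i => E.q_surj (x0 i)
  exact ⟨x, hx⟩

variable {E : Ext1 p D} {x : ι → E.D'.B} (hx : IsLift x0 E x)

include hx in
theorem q_aeval (a : MvPolynomial ι C') :
    E.q (MvPolynomial.aeval x a) = MvPolynomial.aeval x0 (MvPolynomial.map p.toAlgHom.toRingHom a) := by
  refine RingHom.congr_fun (f := E.q.comp (MvPolynomial.aeval x).toRingHom)
    (g := (MvPolynomial.aeval x0).toRingHom.comp (MvPolynomial.map p.toAlgHom.toRingHom))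
    (MvPolynomial.ringHom_ext (fun c => ?_) fun i => ?_) a
  · simp only [RingHom.comp_apply, AlgHom.toRingHom_eq_coe, RingHom.coe_coe, MvPolynomial.aeval_C, MvPolynomial.map_C]
    exact E.q_comm c
  · simp only [RingHom.comp_apply, AlgHom.toRingHom_eq_coe, RingHom.coe_coe, MvPolynomial.aeval_X, MvPolynomial.map_X]
    exact hx i

include hx hx0 in
theorem β_aeval (a : MvPolynomial ι C') : E.D'.β (MvPolynomial.aeval x a) = MvPolynomial.aeval P.val (red a) := by
  refine RingHom.congr_fun (f := E.D'.β.comp (MvPolynomial.aeval x).toRingHom)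
    (g := (MvPolynomial.aeval P.val).toRingHom.comp red)
    (MvPolynomial.ringHom_ext (fun c => ?_) fun i => ?_) a
  · simp only [RingHom.comp_apply, AlgHom.toRingHom_eq_coe, RingHom.coe_coe, MvPolynomial.aeval_C, MvPolynomial.map_C]
    exact E.D'.comm c
  · simp only [RingHom.comp_apply, AlgHom.toRingHom_eq_coe, RingHom.coe_coe, MvPolynomial.aeval_X, MvPolynomial.map_X]
    rw [← E.q_β, hx, hx0]

theorem ker_res_nilpotent : IsNilpotent (RingHom.ker C'.res.toRingHom) := by
  rw [show RingHom.ker C'.res.toRingHom = IsLocalRing.maximalIdeal C' from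
    Ideal.ext fun a => (Art.mem_maximalIdeal_iff C' a).symm]
  exact Groth.L12.isNilpotent_maximalIdeal C'

theorem exists_red_eq (f : MvPolynomial ι k) : ∃ a : MvPolynomial ι C', red a = f :=
  MvPolynomial.map_surjective _ C'.res_surjective f

include hx hx0 in
theorem aeval_surjective : Function.Surjective (MvPolynomial.aeval x : MvPolynomial ι C' →ₐ[C'] E.D'.B) := by
  rw [← AlgHom.coe_toLinearMap, ← LinearMap.range_eq_top, eq_top_iff]
  refine le_of_nilpotent ker_res_nilpotent fun b _ => ?_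
  obtain ⟨f, hf⟩ := P.toGenerators.aeval_val_surjective (E.D'.β b)
  obtain ⟨a, rfl⟩ := exists_red_eq (C' := C') f
  refine Submodule.mem_sup.mpr ⟨MvPolynomial.aeval x a, ⟨a, rfl⟩, b - MvPolynomial.aeval x a, ?_, add_sub_cancel _ _⟩
  rw [Ideal.smul_top_eq_map, Submodule.restrictScalars_mem, ← E.D'.ker_eq, RingHom.mem_ker, map_sub,
    β_aeval P hx0 hx, hf, sub_self]

include hx hx0 in
theorem exists_proj : ∃ qI : MvPolynomial ι C' →ₗ[C'] LinearMap.ker (MvPolynomial.aeval x).toLinearMap,
    ∀ a, MvPolynomial.aeval x a = 0 → (qI a).1 = a := by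
  haveI := E.D'.flat
  haveI : (RingHom.ker C'.res.toRingHom).IsMaximal := RingHom.ker_isMaximal_of_surjective _ C'.res_surjective
  haveI : Module.Flat C' (C' ⊗[C'] E.D'.B) := Module.Flat.of_linearEquiv (TensorProduct.lid C' E.D'.B)
  haveI : Module.Free C' E.D'.B := Groth.L01.NilDescent.free_of_flat_baseChange (RingHom.ker C'.res.toRingHom)
    ker_res_nilpotent C' Function.injective_id _
  obtain ⟨s, hs⟩ := Module.projective_lifting_property (MvPolynomial.aeval x).toLinearMap LinearMap.id
    (aeval_surjective P hx0 hx)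
  refine ⟨(LinearMap.id - s ∘ₗ (MvPolynomial.aeval x).toLinearMap).codRestrict _ fun a => ?_, fun a ha => ?_⟩
  · show a - s (MvPolynomial.aeval x a) = a
    rw [ha, map_zero, sub_zero]
  · show MvPolynomial.aeval x (a - s (MvPolynomial.aeval x a)) = 0
    rw [map_sub, show MvPolynomial.aeval x (s (MvPolynomial.aeval x a)) = MvPolynomial.aeval x a from
      LinearMap.congr_fun hs _, sub_self]

theorem mem_smul_top_of_red {a : MvPolynomial ι C'} (ha : red a = 0) :
    a ∈ RingHom.ker C'.res.toRingHom • (⊤ : Submodule C' (MvPolynomial ι C')) := by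
  rw [Ideal.smul_top_eq_map, Submodule.restrictScalars_mem, MvPolynomial.algebraMap_eq, ← MvPolynomial.ker_map]
  exact ha

theorem red_eq_zero_of_mem {a : MvPolynomial ι C'}
    (ha : a ∈ RingHom.ker C'.res.toRingHom • (⊤ : Submodule C' (MvPolynomial ι C'))) : red a = 0 := by
  rw [Ideal.smul_top_eq_map, Submodule.restrictScalars_mem, MvPolynomial.algebraMap_eq, ← MvPolynomial.ker_map] at ha
  exact ha

include hx hx0 in
theorem exists_mem_ker (f : MvPolynomial ι k) (hf : MvPolynomial.aeval P.val f = 0) :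
    ∃ a : MvPolynomial ι C', MvPolynomial.aeval x a = 0 ∧ red a = f := by
  haveI := E.D'.flat
  obtain ⟨qI, h1⟩ := exists_proj P hx0 hx
  obtain ⟨a, rfl⟩ := exists_red_eq (C' := C') f
  have h2 : MvPolynomial.aeval x a ∈ RingHom.ker E.D'.β := by rw [RingHom.mem_ker, β_aeval P hx0 hx, hf]
  rw [E.D'.ker_eq] at h2
  have h3 : ∃ z : MvPolynomial ι C', red z = 0 ∧ MvPolynomial.aeval x z = MvPolynomial.aeval x a := by
    generalize MvPolynomial.aeval x a = b at h2 ⊢
    induction h2 using Submodule.span_induction with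
    | mem z hz =>
      obtain ⟨c, hc, rfl⟩ := hz
      exact ⟨C c, by rw [red, MvPolynomial.map_C, show C'.res.toRingHom c = 0 from hc, C_0], MvPolynomial.aeval_C _ _⟩
    | zero => exact ⟨0, map_zero _, map_zero _⟩
    | add u v _ _ hu hv =>
      obtain ⟨z, hz, hz'⟩ := hu
      obtain ⟨w, hw, hw'⟩ := hv
      exact ⟨z + w, by rw [map_add, hz, hw, add_zero], by rw [map_add, hz', hw']⟩
    | smul c u _ hu =>
      obtain ⟨z, hz, hz'⟩ := hu
      obtain ⟨c, rfl⟩ := aeval_surjective P hx0 hx c
      exact ⟨c * z, by rw [map_mul, hz, mul_zero], by rw [map_mul, hz', smul_eq_mul]⟩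
  obtain ⟨z, hz, hz'⟩ := h3
  exact ⟨a - z, by rw [map_sub, hz', sub_self], by rw [map_sub, hz, sub_zero]⟩

variable (hp : Art.IsSemismallExt p) {E₁ : Ext1 p D} {x₁ : ι → E₁.D'.B} (hx₁ : IsLift x0 E₁ x₁)

include hx hx0 hp hx₁ in
theorem vanish {a : MvPolynomial ι C'} (ha : MvPolynomial.aeval x a = 0) (ha' : red a = 0) :
    MvPolynomial.aeval x₁ a = 0 := by
  obtain ⟨qI, h1⟩ := exists_proj P hx0 hx
  have h2 := Submodule.mem_map_of_mem (f := qI) (mem_smul_top_of_red ha')
  rw [Submodule.map_smul''] at h2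
  have h3 : ∀ v ∈ RingHom.ker C'.res.toRingHom • Submodule.map qI ⊤,
      MvPolynomial.aeval x₁ (v : MvPolynomial ι C') = 0 := by
    intro v hv
    refine Submodule.smul_induction_on hv (fun c hc w _ => ?_) (fun v w hv hw => ?_)
    · have h4 : E₁.q (MvPolynomial.aeval x₁ (w : MvPolynomial ι C')) = 0 := by
        rw [q_aeval hx₁, ← q_aeval hx, show MvPolynomial.aeval x (w : MvPolynomial ι C') = 0 from w.2, map_zero]
      obtain ⟨t, ht⟩ := exists_incl_eq hp E₁ h4
      rw [Submodule.coe_smul, map_smul, ← ht, Algebra.smul_def, alg_mul_incl hp E₁ hc]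
    · rw [Submodule.coe_add, map_add, hv, hw, add_zero]
  have h5 := h3 _ h2
  rwa [h1 a ha] at h5

include hp hx0 in
theorem exists_z (t : Coeff B₀ p) : ∃ z : MvPolynomial ι C', red z = 0 ∧ z ∈ (RingHom.ker p.toAlgHom.toRingHom).map C ∧
    ∀ (F : Ext1 p D) (y : ι → F.D'.B), IsLift x0 F y → MvPolynomial.aeval y z = incl hp F t := by
  induction t using TensorProduct.induction_on with
  | zero => exact ⟨0, map_zero _, zero_mem _, fun F y _ => by rw [map_zero, map_zero]⟩
  | tmul b j =>
    obtain ⟨f, hf⟩ := P.toGenerators.aeval_val_surjective b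
    obtain ⟨a, rfl⟩ := exists_red_eq (C' := C') f
    refine ⟨C (j : C') * a, ?_, Ideal.mul_mem_right _ _ (Ideal.mem_map_of_mem _ j.2), fun F y hy => ?_⟩
    · have hj : C'.res.toRingHom (j : C') = 0 := by
        rw [← p.res_comp]
        show Cb.res (p.toAlgHom (j : C')) = 0
        rw [show p.toAlgHom (j : C') = 0 from j.2, map_zero]
      rw [map_mul, red, MvPolynomial.map_C, hj, C_0, zero_mul]
    · rw [map_mul, MvPolynomial.aeval_C, ← hf, ← β_aeval P hx0 hy, incl_tmul]
  | add s t hs ht =>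
    obtain ⟨z, z1, z2, z3⟩ := hs
    obtain ⟨w, w1, w2, w3⟩ := ht
    exact ⟨z + w, by rw [map_add, z1, w1, add_zero], add_mem z2 w2,
      fun F y hy => by rw [map_add, map_add, z3 F y hy, w3 F y hy]⟩

/-- The class of a lift, relative to the base lift. -/
def IsClass (x₁ : ι → E₁.D'.B) (x : ι → E.D'.B) (h : P.toExtension.Cotangent →ₗ[B₀] Coeff B₀ p) : Prop :=
  ∀ a : MvPolynomial ι C', MvPolynomial.aeval x a = 0 → ∀ hf : MvPolynomial.aeval P.val (red a) = 0,
    MvPolynomial.aeval x₁ a = incl hp E₁ (h (cotMk P (red a) hf))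

include hx0 hx hx₁ in
theorem IsClass.apply {h : P.toExtension.Cotangent →ₗ[B₀] Coeff B₀ p} (hh : IsClass P hp x₁ x h)
    (a : MvPolynomial ι C') (t : Coeff B₀ p) (ha : MvPolynomial.aeval x a = incl hp E t)
    (hf : MvPolynomial.aeval P.val (red a) = 0) :
    MvPolynomial.aeval x₁ a = incl hp E₁ (t + h (cotMk P (red a) hf)) := by
  obtain ⟨z, z1, -, z3⟩ := exists_z P hx0 hp t
  have h1 : red (a - z) = red a := by rw [map_sub, z1, sub_zero]
  have h2 := hh (a - z) (by rw [map_sub, ha, z3 E x hx, sub_self]) (by rw [h1, hf])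
  rw [cotMk_congr P h1 _ hf, map_sub, z3 E₁ x₁ hx₁, sub_eq_iff_eq_add] at h2
  rw [h2, map_add, add_comm]

include hx0 hx hx₁ in
theorem exists_isClass : ∃ h, IsClass P hp (E₁ := E₁) x₁ x h := by
  classical
  choose a ha har using fun f : P.toExtension.ker =>
    exists_mem_ker P hx0 hx (f : P.toExtension.Ring) ((CotT.algebraMap_toExtension P _).symm.trans f.2)
  have hq : ∀ b, MvPolynomial.aeval x b = 0 → E₁.q (MvPolynomial.aeval x₁ b) = 0 := fun b hb => by
    rw [q_aeval hx₁, ← q_aeval hx, hb, map_zero]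
  choose t ht using fun f => exists_incl_eq hp E₁ (hq _ (ha f))
  have huniq : ∀ (b : MvPolynomial ι C') (f : P.toExtension.ker), MvPolynomial.aeval x b = 0 →
      red b = (f : P.toExtension.Ring) → MvPolynomial.aeval x₁ b = incl hp E₁ (t f) := fun b f hb hbf => by
    rw [ht, ← sub_eq_zero, ← map_sub]
    exact vanish P hx0 hx hp hx₁ (by rw [map_sub, hb, ha, sub_self]) (by rw [map_sub, hbf, har, sub_self])
  let t' : P.toExtension.ker →+ Coeff B₀ p := AddMonoidHom.mk' t fun f g => incl_injective hp E₁ (by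
    rw [map_add, ht f, ht g, ← map_add]
    exact (huniq (a f + a g) (f + g) (by rw [map_add, ha, ha, add_zero]) (by rw [map_add, har, har]; rfl)).symm)
  have hmul : ∀ (r : P.toExtension.Ring) (f : P.toExtension.ker),
      t' (r • f) = algebraMap P.toExtension.Ring B₀ r • t' f := fun r f => incl_injective hp E₁ (by
    obtain ⟨c, hc⟩ := exists_red_eq (C' := C') (r : MvPolynomial ι k)
    show incl hp E₁ (t (r • f)) = incl hp E₁ (algebraMap P.toExtension.Ring B₀ r • t f)
    rw [← huniq (c * a f) (r • f) (by rw [map_mul, ha, mul_zero]) (by rw [map_mul, hc, har]; rfl), map_mul,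
      show algebraMap P.toExtension.Ring B₀ r = E₁.D'.β (MvPolynomial.aeval x₁ c) from by
        rw [β_aeval P hx0 hx₁, hc]; exact CotT.algebraMap_toExtension P r,
      incl_smul, ht])
  have hwd : ∀ f : P.toExtension.ker, Algebra.Extension.Cotangent.mk f = 0 → t' f = 0 := by
    intro f hf
    have h1 : (f : P.toExtension.Ring) ∈ P.toExtension.ker ^ 2 := (Algebra.Extension.Cotangent.mk_eq_zero_iff _).mp hf
    rw [pow_two] at h1
    have key : ∀ z ∈ P.toExtension.ker * P.toExtension.ker, ∃ hz : z ∈ P.toExtension.ker, t' ⟨z, hz⟩ = 0 := by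
      intro z hz
      refine Submodule.mul_induction_on hz (fun u hu v hv => ⟨Ideal.mul_mem_left _ u hv, ?_⟩)
        fun u v ⟨hu, eu⟩ ⟨hv, ev⟩ => ⟨add_mem hu hv, ?_⟩
      · refine (hmul u ⟨v, hv⟩).trans ?_
        rw [show algebraMap P.toExtension.Ring B₀ u = 0 from hu, zero_smul]
      · rw [show (⟨u + v, add_mem hu hv⟩ : P.toExtension.ker) = ⟨u, hu⟩ + ⟨v, hv⟩ from rfl, map_add, eu, ev, add_zero]
    obtain ⟨hz, e⟩ := key _ h1
    exact e
  have hsurj := Algebra.Extension.Cotangent.mk_surjective (P := P.toExtension)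
  choose sec hsec using hsurj
  have hval : ∀ f, t' (sec (Algebra.Extension.Cotangent.mk f)) = t' f := fun f => by
    rw [← sub_eq_zero, ← map_sub]
    exact hwd _ (by rw [map_sub, hsec, sub_self])
  let h : P.toExtension.Cotangent →ₗ[B₀] Coeff B₀ p :=
    { toFun := fun z => t' (sec z)
      map_add' := fun z w => by
        obtain ⟨z, rfl⟩ := Algebra.Extension.Cotangent.mk_surjective z
        obtain ⟨w, rfl⟩ := Algebra.Extension.Cotangent.mk_surjective w
        rw [← map_add, hval, hval, hval, map_add]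
      map_smul' := fun r z => by
        obtain ⟨z, rfl⟩ := Algebra.Extension.Cotangent.mk_surjective z
        obtain ⟨r, rfl⟩ := P.toExtension.algebraMap_surjective r
        rw [algebraMap_smul, ← map_smul, hval, hval, RingHom.id_apply, hmul] }
  refine ⟨h, fun b hb hf => ?_⟩
  show _ = incl hp E₁ (t' (sec (cotMk P (red b) hf)))
  rw [cotMk, hval]
  exact huniq b _ hb rfl

end Groth.L14.DefLift

namespace Groth.L14.DefLift

variable {k B₀ ι σ : Type u} [Field k] [CommRing B₀] [Algebra k B₀] (P : Algebra.Presentation k B₀ ι σ)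
variable {C' Cb : Art k k} {p : C' ⟶ Cb} {D : Defo B₀ Cb Cb.res.toRingHom}
variable {x0 : ι → D.B} (hx0 : ∀ i, D.β (x0 i) = P.val i) (hp : Art.IsSemismallExt p)

theorem apply_D_mul_X' {M : Type u} [AddCommGroup M] [Module B₀ M] (L : CotT.L0 P →ₗ[B₀] M) (f : MvPolynomial ι k)
    (i : ι) : L (1 ⊗ₜ KaehlerDifferential.D k P.toExtension.Ring (f * X i)) =
      P.val i • L (1 ⊗ₜ KaehlerDifferential.D k P.toExtension.Ring f) +
        MvPolynomial.aeval P.val f • L (1 ⊗ₜ KaehlerDifferential.D k P.toExtension.Ring (X i)) := by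
  have h : ∀ (r : P.toExtension.Ring) (w : KaehlerDifferential k P.toExtension.Ring),
      L (1 ⊗ₜ (r • w)) = algebraMap P.toExtension.Ring B₀ r • L (1 ⊗ₜ w) := fun r w => by
    rw [TensorProduct.tmul_smul, ← algebraMap_smul B₀ r ((1 : B₀) ⊗ₜ[P.toExtension.Ring] w), map_smul]
  let f' : P.toExtension.Ring := f
  let X' : P.toExtension.Ring := X i
  show L (1 ⊗ₜ KaehlerDifferential.D k P.toExtension.Ring (f' * X')) = _
  rw [Derivation.leibniz, TensorProduct.tmul_add, map_add, h, h, CotT.algebraMap_toExtension,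
    CotT.algebraMap_toExtension, add_comm]
  congr 2
  exact MvPolynomial.aeval_X _ i

include hx0 in
theorem shift {E : Ext1 p D} {x x' : ι → E.D'.B} (hx : IsLift x0 E x) (L : CotT.L0 P →ₗ[B₀] Coeff B₀ p)
    (h : ∀ i, x' i = x i + incl hp E (L (1 ⊗ₜ KaehlerDifferential.D k P.toExtension.Ring (X i))))
    (a : MvPolynomial ι C') :
    MvPolynomial.aeval x' a =
      MvPolynomial.aeval x a + incl hp E (L (1 ⊗ₜ KaehlerDifferential.D k P.toExtension.Ring (red a))) := by
  induction a using MvPolynomial.induction_on with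
  | C c =>
    rw [MvPolynomial.aeval_C, MvPolynomial.aeval_C, red, MvPolynomial.map_C,
      show (KaehlerDifferential.D k P.toExtension.Ring) (C (C'.res.toRingHom c) : MvPolynomial ι k) = 0 from
        Derivation.map_algebraMap _ _, TensorProduct.tmul_zero, map_zero, map_zero, add_zero]
  | add a b ha hb =>
    rw [map_add, map_add, map_add, ha, hb, map_add, TensorProduct.tmul_add, map_add, map_add]
    abel
  | mul_X a i ha =>
    rw [map_mul, map_mul, MvPolynomial.aeval_X, MvPolynomial.aeval_X, ha, h, map_mul red,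
      show red (X i : MvPolynomial ι C') = X i from MvPolynomial.map_X _ _, apply_D_mul_X', map_add,
      ← show E.D'.β (x i) = P.val i by rw [← E.q_β, hx, hx0], incl_smul, ← β_aeval P hx0 hx, incl_smul,
      add_mul, mul_add, mul_add, incl_mul_incl, mul_comm (incl hp E _) (x i)]
    abel

variable {E₁ : Ext1 p D} {x₁ : ι → E₁.D'.B} (hx₁ : IsLift x0 E₁ x₁)

include hx0 hx₁ in
theorem isClass_shift {E : Ext1 p D} {x x' : ι → E.D'.B} (hx : IsLift x0 E x)
    {h : P.toExtension.Cotangent →ₗ[B₀] Coeff B₀ p} (hh : IsClass P hp (E₁ := E₁) x₁ x h)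
    (L : CotT.L0 P →ₗ[B₀] Coeff B₀ p)
    (hL : ∀ i, x' i = x i + incl hp E (L (1 ⊗ₜ KaehlerDifferential.D k P.toExtension.Ring (X i)))) :
    IsClass P hp (E₁ := E₁) x₁ x' (h - L ∘ₗ P.toExtension.cotangentComplex) := by
  intro a ha hf
  rw [shift P hx0 hp hx L hL, add_eq_zero_iff_eq_neg, ← map_neg] at ha
  rw [IsClass.apply P hx0 hx hp hx₁ hh a _ ha hf, LinearMap.sub_apply, LinearMap.comp_apply, cotMk,
    Algebra.Extension.cotangentComplex_mk]
  congr 1
  abel

include hx0 in
theorem isClass_unique {E : Ext1 p D} {x : ι → E.D'.B} (hx : IsLift x0 E x)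
    {h h' : P.toExtension.Cotangent →ₗ[B₀] Coeff B₀ p} (hh : IsClass P hp (E₁ := E₁) x₁ x h)
    (hh' : IsClass P hp (E₁ := E₁) x₁ x h') : h = h' := by
  refine LinearMap.ext fun z => ?_
  obtain ⟨⟨f, hf⟩, rfl⟩ := Algebra.Extension.Cotangent.mk_surjective z
  have hf' : MvPolynomial.aeval P.val (f : MvPolynomial ι k) = 0 := (CotT.algebraMap_toExtension P f).symm.trans hf
  obtain ⟨a, ha, har⟩ := exists_mem_ker P hx0 hx (f : MvPolynomial ι k) hf'
  have hfa : MvPolynomial.aeval P.val (red a) = 0 := by rw [har, hf']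
  have e := incl_injective hp E₁ ((hh a ha hfa).symm.trans (hh' a ha hfa))
  rwa [cotMk_congr P har hfa hf'] at e

include hx0 hx₁ in
theorem exists_shift_of_lifts {E : Ext1 p D} {x x' : ι → E.D'.B} (hx : IsLift x0 E x) (hx' : IsLift x0 E x') :
    ∃ L : CotT.L0 P →ₗ[B₀] Coeff B₀ p,
      ∀ i, x' i = x i + incl hp E (L (1 ⊗ₜ KaehlerDifferential.D k P.toExtension.Ring (X i))) := by
  choose v hv using fun i => exists_incl_eq hp E (x := x' i - x i) (by rw [map_sub, hx', hx, sub_self])
  refine ⟨P.cotangentSpaceBasis.constr B₀ v, fun i => ?_⟩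
  rw [show ((1 : B₀) ⊗ₜ KaehlerDifferential.D k P.toExtension.Ring (X i : MvPolynomial ι k)) = P.cotangentSpaceBasis i
    from (P.cotangentSpaceBasis_apply i).symm, Module.Basis.constr_basis, hv, add_sub_cancel]

include hx0 hx₁ in
theorem equiv_of_isClass {E F : Ext1 p D} {x : ι → E.D'.B} {y : ι → F.D'.B} (hx : IsLift x0 E x) (hy : IsLift x0 F y)
    {h : P.toExtension.Cotangent →ₗ[B₀] Coeff B₀ p} (hhx : IsClass P hp (E₁ := E₁) x₁ x h)
    (hhy : IsClass P hp (E₁ := E₁) x₁ y h) : E.Equiv F := by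
  have key : ∀ {U V : Ext1 p D} {u : ι → U.D'.B} {v : ι → V.D'.B}, IsLift x0 U u → IsLift x0 V v →
      IsClass P hp (E₁ := E₁) x₁ u h → IsClass P hp (E₁ := E₁) x₁ v h →
      ∀ a : MvPolynomial ι C', MvPolynomial.aeval u a = 0 → MvPolynomial.aeval v a = 0 := by
    intro U V u v hu hv hhu hhv a ha
    have hf : MvPolynomial.aeval P.val (red a) = 0 := by rw [← β_aeval P hx0 hu, ha, map_zero]
    obtain ⟨t, ht⟩ := exists_incl_eq hp V (x := MvPolynomial.aeval v a) (by
      rw [q_aeval hv, ← q_aeval hu, ha, map_zero])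
    have h1 := (hhu a ha hf).symm.trans (IsClass.apply P hx0 hv hp hx₁ hhv a t ht.symm hf)
    have h2 : t = 0 := by simpa using incl_injective hp E₁ h1
    rw [← ht, h2, map_zero]
  have hk : RingHom.ker (MvPolynomial.aeval x : MvPolynomial ι C' →ₐ[C'] E.D'.B).toRingHom ≤
      RingHom.ker (MvPolynomial.aeval y : MvPolynomial ι C' →ₐ[C'] F.D'.B).toRingHom :=
    fun a ha => key hx hy hhx hhy a ha
  let φ : E.D'.B →+* F.D'.B := RingHom.liftOfSurjective (MvPolynomial.aeval x : MvPolynomial ι C' →ₐ[C'] E.D'.B).toRingHom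
    (aeval_surjective P hx0 hx) ⟨(MvPolynomial.aeval y : MvPolynomial ι C' →ₐ[C'] F.D'.B).toRingHom, hk⟩
  have hφ : ∀ a, φ (MvPolynomial.aeval x a) = MvPolynomial.aeval y a := fun a =>
    RingHom.liftOfRightInverse_comp_apply _ _ _ _ a
  have hb : Function.Bijective φ := by
    refine ⟨(injective_iff_map_eq_zero φ).2 fun b hb => ?_, fun b => ?_⟩
    · obtain ⟨a, rfl⟩ := aeval_surjective P hx0 hx b
      exact key hy hx hhy hhx a ((hφ a).symm.trans hb)
    · obtain ⟨a, rfl⟩ := aeval_surjective P hx0 hy b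
      exact ⟨_, hφ a⟩
  refine ⟨RingEquiv.ofBijective φ hb, fun c => ?_, fun b => ?_⟩
  · show φ (algebraMap C' E.D'.B c) = _
    rw [← MvPolynomial.aeval_C x c, hφ, MvPolynomial.aeval_C]
  · obtain ⟨a, rfl⟩ := aeval_surjective P hx0 hx b
    show F.q (φ _) = _
    rw [hφ, q_aeval hy, q_aeval hx]

include hx0 hx₁ in
theorem exists_realisation (h : P.toExtension.Cotangent →ₗ[B₀] Coeff B₀ p) :
    ∃ (E : Ext1 p D) (x : ι → E.D'.B), IsLift x0 E x ∧ IsClass P hp (E₁ := E₁) x₁ x h := by
  classical
  letI : Module C' (Coeff B₀ p) := Module.compHom _ ((algebraMap k B₀).comp C'.res.toRingHom)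
  let I : Submodule k (MvPolynomial ι k) := (RingHom.ker (MvPolynomial.aeval P.val)).restrictScalars k
  let g : I →ₗ[k] Coeff B₀ p :=
    { toFun := fun f => h (cotMk P f.1 f.2)
      map_add' := fun f f' => by rw [← map_add]; exact congrArg h (cotMk_add P _ _ f.2 f'.2 _)
      map_smul' := fun c f => by
        rw [RingHom.id_apply, ← algebraMap_smul B₀ c (h _), ← map_smul]
        refine congrArg h ((cotMk_congr P (smul_eq_C_mul f.1 c) _
          (by rw [map_mul, show MvPolynomial.aeval P.val f.1 = 0 from f.2, mul_zero])).trans ?_)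
        rw [cotMk_mul P (C c) f.1 f.2, MvPolynomial.aeval_C] }
  obtain ⟨H, hH⟩ := LinearMap.exists_extend (p := I) g
  have hH' : ∀ f (hf : MvPolynomial.aeval P.val f = 0), H f = h (cotMk P f hf) := fun f hf =>
    LinearMap.congr_fun hH (⟨f, hf⟩ : I)
  have hinclsm : ∀ (c : C') (t : Coeff B₀ p), incl hp E₁ (algebraMap k B₀ (C'.res c) • t) =
      algebraMap C' E₁.D'.B c * incl hp E₁ t := fun c t => by
    rw [show algebraMap k B₀ (C'.res c) = E₁.D'.β (algebraMap C' E₁.D'.B c) from (E₁.D'.comm c).symm, incl_smul]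
  let Φ : MvPolynomial ι C' →ₗ[C'] E₁.D'.B :=
    { toFun := fun a => MvPolynomial.aeval x₁ a - incl hp E₁ (H (red a))
      map_add' := fun a b => by rw [map_add, map_add red, map_add H, map_add]; abel
      map_smul' := fun c a => by
        have hr : red (c • a) = C'.res c • red a := by
          rw [Algebra.smul_def, map_mul, MvPolynomial.algebraMap_eq, red, MvPolynomial.map_C, smul_eq_C_mul]
          rfl
        rw [RingHom.id_apply, hr, map_smul H, map_smul, ← algebraMap_smul B₀ (C'.res c) (H _), hinclsm, smul_sub,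
          Algebra.smul_def, Algebra.smul_def] }
  have hker : ∀ a, Φ a = 0 → MvPolynomial.aeval P.val (red a) = 0 := fun a ha => by
    rw [← β_aeval P hx0 hx₁, sub_eq_zero.mp (show MvPolynomial.aeval x₁ a - incl hp E₁ (H (red a)) = 0 from ha), β_incl]
  let I' : Ideal (MvPolynomial ι C') :=
    { carrier := {a | Φ a = 0}
      zero_mem' := map_zero Φ
      add_mem' := fun {a b} ha hb => by
        show Φ (a + b) = 0
        rw [map_add, show Φ a = 0 from ha, show Φ b = 0 from hb, add_zero]
      smul_mem' := fun r a ha => by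
        show MvPolynomial.aeval x₁ (r * a) - incl hp E₁ (H (red (r * a))) = 0
        have hf := hker a ha
        have hfr : MvPolynomial.aeval P.val (red r * red a) = 0 := by rw [map_mul, hf, mul_zero]
        rw [map_mul, map_mul red, hH' _ hfr, cotMk_mul P _ _ hf, map_smul, ← β_aeval P hx0 hx₁, incl_smul, ← mul_sub,
          ← hH' _ hf, show MvPolynomial.aeval x₁ a - incl hp E₁ (H (red a)) = 0 from ha, mul_zero] }
  have hsurjΦ : Function.Surjective Φ := fun b => by
    obtain ⟨a, rfl⟩ := aeval_surjective P hx0 hx₁ b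
    obtain ⟨z, z1, -, z3⟩ := exists_z P hx0 hp (H (red a))
    refine ⟨a + z, ?_⟩
    show MvPolynomial.aeval x₁ (a + z) - incl hp E₁ (H (red (a + z))) = _
    rw [map_add red, z1, add_zero, map_add, z3 E₁ x₁ hx₁, add_sub_cancel_right]
  let πD : MvPolynomial ι C' →+* D.B :=
    (MvPolynomial.aeval x0).toRingHom.comp (MvPolynomial.map p.toAlgHom.toRingHom)
  have hπD : ∀ a, πD a = E₁.q (MvPolynomial.aeval x₁ a) := fun a => (q_aeval hx₁ a).symm
  have hI' : ∀ a ∈ I', πD a = 0 := fun a ha => by
    rw [hπD, sub_eq_zero.mp (show MvPolynomial.aeval x₁ a - incl hp E₁ (H (red a)) = 0 from ha), q_incl]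
  let q : (MvPolynomial ι C' ⧸ I') →+* D.B := Ideal.Quotient.lift I' πD hI'
  have hq : Function.Surjective q := Ideal.Quotient.lift_surjective_of_surjective _ _ fun d => by
    obtain ⟨b, rfl⟩ := E₁.q_surj d
    obtain ⟨a, rfl⟩ := aeval_surjective P hx0 hx₁ b
    exact ⟨a, hπD a⟩
  have hqC : ∀ c, q (algebraMap C' (MvPolynomial ι C' ⧸ I') c) = algebraMap Cb D.B (p c) := fun c => by
    show πD (C c) = _
    rw [hπD, MvPolynomial.aeval_C, E₁.q_comm]
  have hqk : RingHom.ker q = (RingHom.ker p.toAlgHom.toRingHom).map (algebraMap C' (MvPolynomial ι C' ⧸ I')) := by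
    refine le_antisymm (fun b hb => ?_) (Ideal.map_le_iff_le_comap.2 fun c hc => ?_)
    · obtain ⟨a, rfl⟩ := Ideal.Quotient.mk_surjective b
      obtain ⟨t, ht⟩ := exists_incl_eq hp E₁ (x := Φ a) (by
        show E₁.q (MvPolynomial.aeval x₁ a - incl hp E₁ (H (red a))) = 0
        rw [map_sub, q_incl, sub_zero, ← hπD]
        exact hb)
      obtain ⟨z, z1, z2, z3⟩ := exists_z P hx0 hp t
      have h1 : a - z ∈ I' := by
        show Φ (a - z) = 0
        rw [map_sub, ← ht]
        show _ - (MvPolynomial.aeval x₁ z - incl hp E₁ (H (red z))) = 0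
        rw [z1, map_zero, map_zero, sub_zero, z3 E₁ x₁ hx₁, sub_self]
      rw [Ideal.Quotient.mk_eq_mk_iff_sub_mem _ _ |>.mpr h1,
        show algebraMap C' (MvPolynomial ι C' ⧸ I') = (Ideal.Quotient.mk I').comp C from rfl, ← Ideal.map_map]
      exact Ideal.mem_map_of_mem _ z2
    · show q (algebraMap C' _ c) = 0
      rw [hqC, show p c = 0 from hc, map_zero]
  have hflat : Module.Flat C' (MvPolynomial ι C' ⧸ I') := by
    haveI := E₁.D'.flat
    let e : (MvPolynomial ι C' ⧸ I') ≃ₗ[C'] E₁.D'.B :=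
      (Submodule.Quotient.restrictScalarsEquiv C' I').symm ≪≫ₗ
        Submodule.quotEquivOfEq _ (LinearMap.ker Φ) (Submodule.ext fun a => Iff.rfl) ≪≫ₗ
        Φ.quotKerEquivOfSurjective hsurjΦ
    exact Module.Flat.of_linearEquiv e
  have hres : Cb.res.toRingHom.comp p.toAlgHom.toRingHom = C'.res.toRingHom := congrArg AlgHom.toRingHom p.res_comp
  let E : Ext1 p D :=
    { D' :=
        { B := MvPolynomial ι C' ⧸ I'
          flat := hflat
          β := D.β.comp q
          surj := D.surj.comp hq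
          comm := fun c => by
            show D.β (q (algebraMap C' _ c)) = _
            rw [hqC, D.comm, ← hres]
            rfl
          ker_eq := by
            refine le_antisymm (fun b hb => ?_) (Ideal.map_le_iff_le_comap.2 fun c hc => ?_)
            · have h1 : q b ∈ ((RingHom.ker (Cb.res.toRingHom.comp p.toAlgHom.toRingHom)).map
                  (algebraMap C' (MvPolynomial ι C' ⧸ I'))).map q := by
                rw [Ideal.map_map, show q.comp (algebraMap C' (MvPolynomial ι C' ⧸ I')) =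
                  (algebraMap Cb D.B).comp p.toAlgHom.toRingHom from RingHom.ext hqC, ← Ideal.map_map,
                  ← RingHom.comap_ker, Ideal.map_comap_of_surjective p.toAlgHom.toRingHom hp.1, ← D.ker_eq]
                exact hb
              rw [hres] at h1
              obtain ⟨c, hc, hcb⟩ := (Ideal.mem_map_iff_of_surjective q hq).mp h1
              rw [← sub_add_cancel b c]
              refine add_mem ?_ hc
              have h2 : b - c ∈ RingHom.ker q := by rw [RingHom.mem_ker, map_sub, hcb, sub_self]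
              rw [hqk] at h2
              refine Ideal.map_mono (fun j hj => ?_) h2
              rw [← hres, RingHom.mem_ker, RingHom.comp_apply, RingHom.mem_ker.mp hj, map_zero]
            · show D.β (q (algebraMap C' _ c)) = 0
              rw [hqC, D.comm, show Cb.res.toRingHom (p c) = C'.res.toRingHom c from RingHom.congr_fun hres c,
                show C'.res.toRingHom c = 0 from hc, map_zero] }
      q := q
      q_surj := hq
      q_comm := hqC
      q_β := fun b => rfl
      q_ker := hqk }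
  refine ⟨E, fun i => Ideal.Quotient.mk I' (X i), fun i => ?_, fun a ha hf => ?_⟩
  · show πD (X i) = x0 i
    rw [hπD, MvPolynomial.aeval_X, hx₁]
  · have h1 : (MvPolynomial.aeval (fun i => Ideal.Quotient.mk I' (X i)) : MvPolynomial ι C' →ₐ[C'] _) =
        Ideal.Quotient.mkₐ C' I' := MvPolynomial.algHom_ext fun i => by rw [MvPolynomial.aeval_X]; rfl
    have h2 : a ∈ I' := by
      rw [← Ideal.Quotient.eq_zero_iff_mem]
      exact (AlgHom.congr_fun h1 a).symm.trans ha
    rw [sub_eq_zero.mp (show MvPolynomial.aeval x₁ a - incl hp E₁ (H (red a)) = 0 from h2), hH' _ hf]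

end Groth.L14.DefLift
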