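import Groth.Agent.L14.DefLift.ObsT2
import Groth.Agent.L14.DefLift.TangentFin
import Groth.Agent.L14.DefLift.TorsorClass
import Groth.Agent.L12.CotTBasic
import Groth.Agent.S12327
import Mathlib.RingTheory.KrullDimension.NonZeroDivisors
import Mathlib.RingTheory.MvPowerSeries.NoZeroDivisors
import Mathlib.LinearAlgebra.Dimension.FreeAndStrongRankCondition

/-! # The dimension of a hull of an affine deformation functor -/

set_option autoImplicit false
set_option linter.style.haveILetI false
set_option backward.isDefEq.respectTransparency false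

universe u

open CategoryTheory AlgebraicGeometry TensorProduct MvPolynomial ArtFun ArtFun.Art IsLocalRing

namespace Groth.L14.DefLift

variable {k B₀ ι σ : Type u} [Field k] [CommRing B₀] [Algebra k B₀]

theorem exists_defo_of_cls (P : Algebra.Presentation k B₀ ι σ) (h : P.toExtension.Cotangent →ₗ[B₀] B₀) :
    ∃ (D : Defo B₀ (dual k k) (dual k k).res.toRingHom) (x : ι → D.B),
      (∀ i, D.β (x i) = P.val i) ∧ HasCls P.toGenerators D x h := by
  let p : dual k k ⟶ Art.base k k := toBase (dual k k)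
  obtain ⟨D₁, -⟩ := exists_toSch_cl ((defFunctor (Spec (CommRingCat.of B₀))
    (Spec.map (CommRingCat.ofHom (algebraMap k B₀)))).map baseToDual (h0_defFunctor k k B₀).1.some)
  obtain ⟨Db, -⟩ := exists_toSch_cl (h0_defFunctor k k B₀).1.some
  have hb : Function.Bijective Db.β := ⟨(RingHom.injective_iff_ker_eq_bot _).mpr (by
    rw [Db.ker_eq, show RingHom.ker (base k k).res.toRingHom = ⊥ from
      (RingHom.injective_iff_ker_eq_bot _).mp Function.injective_id, Ideal.map_bot]), Db.surj⟩
  let eb := RingEquiv.ofBijective Db.β hb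
  have heb : ∀ z, Db.β (eb.symm z) = z := fun z => eb.apply_symm_apply z
  let E₁ : Ext1 p Db :=
    { D' := D₁
      q := eb.symm.toRingHom.comp D₁.β
      q_surj := eb.symm.surjective.comp D₁.surj
      q_comm := fun a => hb.1 ((heb _).trans ((D₁.comm a).trans (Db.comm _).symm))
      q_β := fun b => heb _
      q_ker := by
        rw [← RingHom.comap_ker, (RingHom.injective_iff_ker_eq_bot eb.symm.toRingHom).mp eb.symm.injective, ← RingHom.ker_eq_comap_bot]
        exact D₁.ker_eq }
  have hp : Art.IsSemismallExt p := by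
    refine ⟨(Art.dual k k).res_surjective, ?_⟩
    rw [eq_bot_iff, Ideal.mul_le]
    intro a ha b hb
    have key : ∀ u v : DualNumber k, u.fst = 0 → v.fst = 0 → u * v = 0 := fun u v hu hv => by
      refine TrivSqZeroExt.ext ?_ ?_ <;> simp [hu, hv]
    exact key a b ((Art.mem_maximalIdeal_iff (Art.dual k k) a).mp ha) hb
  let x0 : ι → Db.B := fun i => eb.symm (P.val i)
  have hx0 : ∀ i, Db.β (x0 i) = P.val i := fun i => heb _
  obtain ⟨x₁, hx₁⟩ := IsLift.exists' (x0 := x0) E₁
  have hx₁β : ∀ i, D₁.β (x₁ i) = P.val i := fun i => ((heb _).symm.trans (congrArg Db.β (hx₁ i))).trans (hx0 i)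
  obtain ⟨h₁, hh₁⟩ := exists_cls P.toGenerators D₁ x₁ hx₁β
  let ε : ↥(RingHom.ker p.toAlgHom) := ⟨dEps k k, show (dual k k).res.toRingHom (dEps k k) = 0 from fst_dEps⟩
  let m : B₀ →ₗ[B₀] Coeff B₀ p := (TensorProduct.AlgebraTensorModule.mk k B₀ B₀ ↥(RingHom.ker p.toAlgHom)).flip ε
  obtain ⟨E, x, hx, hcl⟩ := exists_realisation P hx0 hp hx₁ (m ∘ₗ (h₁ - h))
  have hxβ : ∀ i, E.D'.β (x i) = P.val i := fun i => (E.q_β _).symm.trans ((congrArg _ (hx i)).trans (hx0 i))
  refine ⟨E.D', x, hxβ, fun f hf y hy => ?_⟩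
  obtain ⟨g, hg⟩ := P.toGenerators.aeval_val_surjective (E.D'.β y)
  obtain ⟨y₁, hy₁⟩ := exists_y P.toGenerators D₁ x₁ hx₁β hf
  let a : MvPolynomial ι (dual k k) :=
    MvPolynomial.map (dIn k k) f + MvPolynomial.C (dEps k k) * MvPolynomial.map (dIn k k) (-g)
  have ha : aeval x a = 0 := by
    show aeval x (MvPolynomial.map (dIn k k) f + MvPolynomial.C (dEps k k) * MvPolynomial.map (dIn k k) (-g)) = 0
    rw [aeval_decomp, hy, map_neg, mul_neg, eB_mul_eq E.D' (y' := y)
      ((β_evS P.toGenerators _ (res_dIn (Λ := k)) E.D' x hxβ g).trans hg), add_neg_cancel]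
  have hra : red a = f := by
    show MvPolynomial.map (dual k k).res.toRingHom
      (MvPolynomial.map (dIn k k) f + MvPolynomial.C (dEps k k) * MvPolynomial.map (dIn k k) (-g)) = f
    rw [map_add, map_mul, MvPolynomial.map_C, fst_dEps, C_0, zero_mul, add_zero, MvPolynomial.map_map,
      show (dual k k).res.toRingHom.comp (dIn k k) = RingHom.id k from RingHom.ext (res_dIn (Λ := k)), MvPolynomial.map_id]
  have h1 := hcl a ha (by rw [hra]; exact hf)
  rw [cotMk_congr P hra _ hf] at h1
  have h2 : aeval x₁ a = incl hp E₁ (m (D₁.β (y₁ - evS (dIn k k) D₁ x₁ g))) := by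
    show aeval x₁ (MvPolynomial.map (dIn k k) f + MvPolynomial.C (dEps k k) * MvPolynomial.map (dIn k k) (-g)) = _
    rw [aeval_decomp, hy₁, map_neg, ← mul_add, ← sub_eq_add_neg]
    exact (incl_tmul hp E₁ _ ε).symm
  have h3 := incl_injective hp E₁ (h2.symm.trans h1)
  have hm : Function.Injective m := by
    intro b b' e
    let sn : ↥(RingHom.ker p.toAlgHom) →ₗ[k] k :=
      { toFun := fun z => TrivSqZeroExt.snd (z.1 : DualNumber k)
        map_add' := fun _ _ => TrivSqZeroExt.snd_add _ _
        map_smul' := fun c z => TrivSqZeroExt.snd_smul _ (z.1 : DualNumber k) }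
    have key : ∀ b : B₀, TensorProduct.rid k B₀ (LinearMap.lTensor B₀ sn (m b)) = b := fun b => by
      show TensorProduct.rid k B₀ (b ⊗ₜ[k] sn ε) = b
      rw [show sn ε = 1 from DualNumber.snd_eps, TensorProduct.rid_tmul, one_smul]
    rw [← key b, e, key b']
  have h4 : D₁.β (y₁ - evS (dIn k k) D₁ x₁ g) = (h₁ - h) (gMk P.toGenerators f hf) := hm h3
  rw [map_sub, β_evS P.toGenerators _ (res_dIn (Λ := k)) D₁ x₁ hx₁β, LinearMap.sub_apply, ← hh₁ f hf y₁ hy₁] at h4
  exact (sub_right_inj.mp h4).symm.trans hg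

/-- The concrete `T¹` is `T¹`. -/
theorem nonempty_TOne_equiv (P : Algebra.Presentation k B₀ ι σ) :
    Nonempty (TOne P.toGenerators ≃ₗ[B₀] CotT.T1 P B₀) := by
  have hker : LinearMap.range (LinearMap.lcomp B₀ B₀ P.toExtension.cotangentComplex) =
      LinearMap.ker (CotT.homToT1 P B₀) := by
    rw [Groth.L12.CotTLib.ker_homToT1]
  exact ⟨Submodule.quotEquivOfEq _ _ hker ≪≫ₗ
    (CotT.homToT1 P B₀).quotKerEquivOfSurjective (Groth.L12.CotTLib.homToT1_surjective P B₀)⟩

section Tangent

variable (R : CRing k k)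

theorem sub_res_mem (a : R.carrier) : a - algebraMap k R.carrier (R.res a) ∈ maximalIdeal R.carrier := by
  rw [← Groth.L12.cring_ker_eq, RingHom.mem_ker, map_sub, R.res.commutes, Algebra.algebraMap_self_apply, sub_self]

/-- The part in the cotangent space. -/
noncomputable def dRes (a : R.carrier) : (maximalIdeal R.carrier).Cotangent :=
  (maximalIdeal R.carrier).toCotangent ⟨a - algebraMap k R.carrier (R.res a), sub_res_mem R a⟩

theorem toCotangent_smul (c : R.carrier) (z : maximalIdeal R.carrier) :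
    (maximalIdeal R.carrier).toCotangent (c • z) = R.res c • (maximalIdeal R.carrier).toCotangent z := by
  rw [← sub_eq_zero, ← algebraMap_smul R.carrier (R.res c), ← map_smul, ← map_sub, ← sub_smul,
    Ideal.toCotangent_eq_zero, pow_two]
  exact Ideal.mul_mem_mul (sub_res_mem R c) z.2

theorem dRes_add (a b : R.carrier) : dRes R (a + b) = dRes R a + dRes R b := by
  rw [dRes, dRes, dRes, ← map_add]
  congr 1
  refine Subtype.ext ?_
  show a + b - algebraMap k R.carrier (R.res (a + b)) = (a - _) + (b - _)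
  rw [map_add, map_add]
  ring

theorem dRes_mul (a b : R.carrier) : dRes R (a * b) = R.res a • dRes R b + R.res b • dRes R a := by
  have e : (⟨a * b - algebraMap k R.carrier (R.res (a * b)), sub_res_mem R _⟩ : maximalIdeal R.carrier) =
      a • ⟨b - algebraMap k R.carrier (R.res b), sub_res_mem R b⟩ +
        algebraMap k R.carrier (R.res b) • ⟨a - algebraMap k R.carrier (R.res a), sub_res_mem R a⟩ := by
    refine Subtype.ext ?_
    show a * b - algebraMap k R.carrier (R.res (a * b)) =
      a * (b - algebraMap k R.carrier (R.res b)) + algebraMap k R.carrier (R.res b) * (a - _)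
    rw [map_mul, map_mul]
    ring
  rw [dRes, e, map_add, toCotangent_smul, toCotangent_smul, R.res.commutes, Algebra.algebraMap_self_apply, dRes, dRes]

theorem dRes_algebraMap (c : k) : dRes R (algebraMap k R.carrier c) = 0 := by
  rw [dRes, show (⟨_, sub_res_mem R (algebraMap k R.carrier c)⟩ : maximalIdeal R.carrier) = 0 from Subtype.ext (by
    show algebraMap k R.carrier c - algebraMap k R.carrier (R.res (algebraMap k R.carrier c)) = 0
    rw [R.res.commutes, Algebra.algebraMap_self_apply, sub_self]), map_zero]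

variable {R}

/-- The map to `k ⊕ M` of a linear map on the cotangent space. -/
noncomputable def tvHom {M : Type u} [AddCommGroup M] [Module k M] [Module kᵐᵒᵖ M] [IsCentralScalar k M]
    (g : (maximalIdeal R.carrier).Cotangent →ₗ[k] M) : R.carrier →ₐ[k] TrivSqZeroExt k M where
  toFun a := TrivSqZeroExt.inl (R.res a) + TrivSqZeroExt.inr (g (dRes R a))
  map_one' := by
    rw [← map_one (algebraMap k R.carrier), dRes_algebraMap, R.res.commutes]
    simp
  map_mul' a b := by
    rw [dRes_mul, map_add g, map_smul, map_smul, map_mul]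
    refine TrivSqZeroExt.ext ?_ ?_
    · simp
    · simp [add_comm]
  map_zero' := by
    rw [← map_zero (algebraMap k R.carrier), dRes_algebraMap, R.res.commutes]
    simp
  map_add' a b := by
    rw [dRes_add, map_add g, map_add]
    refine TrivSqZeroExt.ext ?_ ?_ <;> simp
  commutes' c := by
    rw [dRes_algebraMap, R.res.commutes, map_zero]
    simp [TrivSqZeroExt.algebraMap_eq_inl]

variable (R)

theorem finrank_cotangentSpace_eq :
    Module.finrank (ResidueField R.carrier) (CotangentSpace R.carrier) =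
      Module.finrank k (maximalIdeal R.carrier).Cotangent := by
  have hb : Function.Bijective (algebraMap k (ResidueField R.carrier)) := by
    refine ⟨(algebraMap k (ResidueField R.carrier)).injective, fun z => ?_⟩
    obtain ⟨a, rfl⟩ := residue_surjective z
    refine ⟨R.res a, ?_⟩
    rw [IsScalarTower.algebraMap_apply k R.carrier (ResidueField R.carrier)]
    exact (Ideal.Quotient.eq.mpr (sub_res_mem R a)).symm
  have h1 : Module.finrank k (ResidueField R.carrier) = 1 :=
    ((AlgEquiv.ofBijective (Algebra.ofId k (ResidueField R.carrier)) hb).toLinearEquiv.finrank_eq).symm.trans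
      (Module.finrank_self k)
  haveI : IsScalarTower k (ResidueField R.carrier) (CotangentSpace R.carrier) :=
    IsScalarTower.of_algebraMap_smul fun c z => by
      rw [IsScalarTower.algebraMap_apply k R.carrier (ResidueField R.carrier), algebraMap_smul, algebraMap_smul]
  have h2 := Module.finrank_mul_finrank k (ResidueField R.carrier) (CotangentSpace R.carrier)
  rw [h1, one_mul] at h2
  exact h2

theorem finite_cotangent : Module.Finite k (maximalIdeal R.carrier).Cotangent := by
  haveI : Module.Finite R.carrier (maximalIdeal R.carrier).Cotangent := inferInstance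
  obtain ⟨n, s, hs⟩ := Module.Finite.exists_fin (R := R.carrier) (M := (maximalIdeal R.carrier).Cotangent)
  refine Module.Finite.of_fg_top (Submodule.fg_def.mpr ⟨Set.range s, Set.finite_range s, eq_top_iff.mpr fun z ht => ?_⟩)
  clear ht
  have hz : z ∈ Submodule.span R.carrier (Set.range s) := hs.ge trivial
  induction hz using Submodule.span_induction with
  | mem z hz => exact Submodule.subset_span hz
  | zero => exact zero_mem _
  | add a b _ _ ha hb => exact add_mem ha hb
  | smul c a _ ha =>
    obtain ⟨a, rfl⟩ := Ideal.toCotangent_surjective _ a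
    rw [← map_smul, toCotangent_smul]
    exact Submodule.smul_mem _ _ ha

end Tangent

variable [Finite ι] [Finite σ]

theorem finrank_cotangent_hull (P : Algebra.Presentation k B₀ ι σ) [Module.Finite k (CotT.T1 P B₀)]
    (H : Hull (DefB (k := k) B₀)) :
    Module.finrank (ResidueField H.ring.carrier) (CotangentSpace H.ring.carrier) =
      Module.finrank k (CotT.T1 P B₀) := by
  let R := H.ring
  let V := (maximalIdeal R.carrier).Cotangent
  haveI := finite_cotangent R
  let G := P.toGenerators
  choose Dc hDc using fun c : (DefB (k := k) B₀).obj (dual k k) => exists_toSch_cl c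
  have hτ : ∀ D : Defo B₀ (dual k k) (dual k k).res.toRingHom, tauD G (Dc (toSch D).cl) = tauD G D := fun D => by
    obtain ⟨ψ, h1, h2⟩ := exists_hom_of_cl_eq (hDc (toSch D).cl).symm
    exact tauD_congr G ψ h1 h2
  let ψ : (V →ₗ[k] k) → HomSet R.carrier R.res (dual k k) := fun l =>
    ⟨tvHom (M := k) l, AlgHom.ext fun a => by
      show TrivSqZeroExt.fst (TrivSqZeroExt.inl (R.res a) + TrivSqZeroExt.inr (l (dRes R a)) : DualNumber k) = _
      simp⟩
  have hsnd : ∀ (l : V →ₗ[k] k) a, TrivSqZeroExt.snd ((ψ l).1 a) = l (dRes R a) := fun l a => by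
    show TrivSqZeroExt.snd (TrivSqZeroExt.inl (R.res a) + TrivSqZeroExt.inr (l (dRes R a)) : DualNumber k) = _
    simp
  have hdres : ∀ z : maximalIdeal R.carrier, dRes R z.1 = (maximalIdeal R.carrier).toCotangent z := fun z => by
    rw [dRes]
    congr 1
    refine Subtype.ext ?_
    show z.1 - algebraMap k R.carrier (R.res z.1) = z.1
    rw [show R.res z.1 = 0 from RingHom.mem_ker.mp ((Groth.L12.cring_ker_eq R).symm ▸ z.2), map_zero, sub_zero]
  let Φ : (V →ₗ[k] k) → TOne G := fun l => tauD G (Dc (H.family.app (dual k k) (ψ l)))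
  have hadd : ∀ l l', Φ (l + l') = Φ l + Φ l' := by
    intro l l'
    let ψ₂ : HomSet R.carrier R.res (dual2 k k) :=
      ⟨tvHom (M := k × k) (l.prod l'), AlgHom.ext fun a => by
        show TrivSqZeroExt.fst (TrivSqZeroExt.inl (R.res a) + TrivSqZeroExt.inr ((l.prod l') (dRes R a)) :
          TrivSqZeroExt k (k × k)) = _
        simp⟩
    have h2snd : ∀ a, TrivSqZeroExt.snd (ψ₂.1 a) = (l (dRes R a), l' (dRes R a)) := fun a => by
      show TrivSqZeroExt.snd (TrivSqZeroExt.inl (R.res a) + TrivSqZeroExt.inr ((l.prod l') (dRes R a)) :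
        TrivSqZeroExt k (k × k)) = _
      simp
    have hext : ∀ φ φ' : HomSet R.carrier R.res (dual k k),
        (∀ a, TrivSqZeroExt.snd (φ.1 a) = TrivSqZeroExt.snd (φ'.1 a)) → φ = φ' := fun φ φ' h =>
      Subtype.ext (AlgHom.ext fun a => Groth.L12.dual_ext
        ((DFunLike.congr_fun φ.2 a).trans (DFunLike.congr_fun φ'.2 a).symm) (h a))
    obtain ⟨D, hD⟩ := exists_toSch_cl (H.family.app (dual2 k k) ψ₂)
    have key : ∀ (μ : dual2 k k ⟶ dual k k) (l₀ : V →ₗ[k] k),
        (∀ a, TrivSqZeroExt.snd (μ (ψ₂.1 a)) = l₀ (dRes R a)) →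
        Over μ D (Dc (H.family.app (dual k k) (ψ l₀))) := fun μ l₀ h => by
      refine (map_cl_eq_iff μ D _).mp ?_
      rw [hDc, hD, ← H.family.natural]
      exact congrArg _ (hext _ _ fun a => (h a).trans (hsnd l₀ a).symm)
    exact tauD_add k G (key pr₁ l fun a => congrArg Prod.fst (h2snd a)) (key pr₂ l' fun a => congrArg Prod.snd (h2snd a))
      (key plus (l + l') fun a => (Groth.L12.snd_plus _).trans (by rw [h2snd a]; rfl))
  have hsmul : ∀ (c : k) l, Φ (c • l) = c • Φ l := by
    intro c l
    refine tauD_scale k G c ((map_cl_eq_iff (scale c) _ _).mp ?_)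
    rw [hDc, hDc, ← H.family.natural]
    refine congrArg _ (Subtype.ext (AlgHom.ext fun a => Groth.L12.dual_ext ?_ ?_))
    · exact (DFunLike.congr_fun (HomSet.map (scale c) (ψ l)).2 a).trans (DFunLike.congr_fun (ψ (c • l)).2 a).symm
    · exact ((Groth.L12.snd_scale c _).trans (congrArg (c * ·) (hsnd l a))).trans (hsnd (c • l) a).symm
  let L : (V →ₗ[k] k) →ₗ[k] TOne G := { toFun := Φ, map_add' := hadd, map_smul' := hsmul }
  have hbij : Function.Bijective L := by
    refine ⟨fun l l' e => ?_, fun t => ?_⟩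
    · obtain ⟨φ, h1, h2⟩ := exists_compat_of_tauD_eq G (show tauD G (Dc _) = tauD G (Dc _) from e)
      have h3 := (hDc _).symm.trans ((cl_eq_of_compat φ h1 h2).symm.trans (hDc _))
      have h4 := H.miniversal.2.1 h3
      refine LinearMap.ext fun z => ?_
      obtain ⟨z, rfl⟩ := Ideal.toCotangent_surjective _ z
      rw [← hdres, ← hsnd, ← hsnd, h4]
    · obtain ⟨h, rfl⟩ := Submodule.Quotient.mk_surjective _ t
      obtain ⟨D, x, hx, hc⟩ := exists_defo_of_cls P h
      obtain ⟨φ, hφ⟩ := H.miniversal.2.2 (toSch D).cl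
      let f : maximalIdeal R.carrier →ₗ[k] k :=
        { toFun := fun z => TrivSqZeroExt.snd (φ.1 z.1)
          map_add' := fun a b => (congrArg TrivSqZeroExt.snd (map_add φ.1 a.1 b.1)).trans (TrivSqZeroExt.snd_add _ _)
          map_smul' := fun c a => (congrArg TrivSqZeroExt.snd (map_smul φ.1 c a.1)).trans (TrivSqZeroExt.snd_smul _ _) }
      have hφm : ∀ z : maximalIdeal R.carrier, TrivSqZeroExt.fst (φ.1 z.1) = 0 := fun z =>
        (DFunLike.congr_fun φ.2 z.1).trans (RingHom.mem_ker.mp ((Groth.L12.cring_ker_eq R).symm ▸ z.2))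
      let N : Submodule R.carrier (maximalIdeal R.carrier) := maximalIdeal R.carrier • ⊤
      have hN : N.restrictScalars k ≤ LinearMap.ker f := fun z hz => by
        refine Submodule.smul_induction_on (Submodule.restrictScalars_mem k N z |>.mp hz) (fun a ha b _ => ?_)
          fun a b ha hb => add_mem ha hb
        show TrivSqZeroExt.snd (φ.1 (a * b.1)) = 0
        have key : ∀ u v : DualNumber k, u.fst = 0 → v.fst = 0 → (u * v).snd = 0 := fun u v hu hv => by simp [hu, hv]
        rw [map_mul]
        exact key _ _ (hφm ⟨a, ha⟩) (hφm b)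
      let l : V →ₗ[k] k := ((N.restrictScalars k).liftQ f hN).comp
        (Submodule.Quotient.restrictScalarsEquiv k N).symm.toLinearMap
      have hl : ∀ z, l ((maximalIdeal R.carrier).toCotangent z) = f z := fun z => rfl
      refine ⟨l, ?_⟩
      have e : ψ l = φ := Subtype.ext (AlgHom.ext fun a => Groth.L12.dual_ext
        ((DFunLike.congr_fun (ψ l).2 a).trans (DFunLike.congr_fun φ.2 a).symm) (by
          rw [hsnd, dRes, hl]
          show TrivSqZeroExt.snd (φ.1 (a - algebraMap k R.carrier (R.res a))) = _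
          rw [map_sub, AlgHom.commutes]
          have key : ∀ (w : DualNumber k) (c : k),
              TrivSqZeroExt.snd (w - algebraMap k (DualNumber k) c) = TrivSqZeroExt.snd w := fun w c => by
            simp [TrivSqZeroExt.algebraMap_eq_inl]
          exact key _ _))
      show tauD G (Dc (H.family.app (dual k k) (ψ l))) = _
      rw [e, hφ, hτ, tauD_eq G D hx hc]
  obtain ⟨eT⟩ := nonempty_TOne_equiv P
  rw [finrank_cotangentSpace_eq, ← Subspace.dual_finrank_eq]
  exact (LinearEquiv.ofBijective L hbij).finrank_eq.trans (eT.restrictScalars k).finrank_eq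

theorem isSmoothFunctor_of_hull {F : Art k k ⥤ Type (u + 1)} (h0 : H0 F) (H : Hull F)
    (h : IsSmoothFunctor (hR H.ring.carrier H.ring.res)) : IsSmoothFunctor F := by
  intro B A μ hμ y
  obtain ⟨φ, rfl⟩ := Groth.L12.family_surjective H.family H.miniversal.1 h0 A y
  obtain ⟨ψ, hψ⟩ := h μ hμ φ
  exact ⟨H.family.app B ψ, by rw [← H.family.natural]; exact congrArg _ hψ⟩

theorem smooth_hR_of_dim_eq (R : CRing k k)
    (h : ringKrullDim R.carrier = (Module.finrank (ResidueField R.carrier) (CotangentSpace R.carrier) : WithBot ℕ∞)) :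
    IsSmoothFunctor (hR R.carrier R.res) := by
  obtain ⟨n, q, hq, hqs, -, hn⟩ := Groth.L12.exists_presentation R
  let Pc := (Groth.L12.psRing (Groth.L12.fieldCRing (k := k)) (Fin n)).carrier
  haveI : IsDomain Pc := NoZeroDivisors.to_isDomain (MvPowerSeries (Fin n) k)
  have hdim : ringKrullDim Pc = n := Groth.L01.PowSerReg.ringKrullDim_eq k n
  have hb : Function.Bijective q := by
    refine ⟨(RingHom.injective_iff_ker_eq_bot q.toRingHom).mpr ?_, hqs⟩
    by_contra hne
    obtain ⟨r, hr, hr0⟩ := Submodule.exists_mem_ne_zero_of_ne_bot hne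
    have h1 := ringKrullDim_quotient_succ_le_of_nonZeroDivisor (mem_nonZeroDivisors_of_ne_zero hr0 : r ∈ nonZeroDivisors Pc)
    have h2 : ringKrullDim R.carrier ≤ ringKrullDim (Pc ⧸ Ideal.span {r}) := by
      refine ringKrullDim_le_of_surjective (Ideal.Quotient.lift (Ideal.span {r}) q.toRingHom fun a ha => ?_)
        fun z => ?_
      · exact (Ideal.span_singleton_le_iff_mem _).mpr hr ha
      · obtain ⟨a, rfl⟩ := hqs z
        exact ⟨Ideal.Quotient.mk _ a, rfl⟩
    rw [h, ← hn] at h2
    rw [hdim] at h1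
    have h3 : ((n : ℕ∞) : WithBot ℕ∞) + 1 ≤ ((n : ℕ∞) : WithBot ℕ∞) := (add_le_add_left h2 1).trans h1 |> fun e => by
      simpa using e
    have h4 : (n : ℕ∞) + 1 ≤ (n : ℕ∞) := by exact_mod_cast h3
    exact absurd h4 (not_le.mpr (by exact_mod_cast n.lt_succ_self))
  let e : Pc ≃ₐ[k] R.carrier := AlgEquiv.ofBijective q hb
  intro B A μ hμ φ
  obtain ⟨ψ, hψ⟩ := Groth.L12.smooth_psRing_field n μ hμ
    (⟨φ.1.comp q, by rw [← AlgHom.comp_assoc, φ.2, hq]⟩ : HomSet _ _ A)
  refine ⟨(⟨ψ.1.comp e.symm.toAlgHom, AlgHom.ext fun r => ?_⟩ : HomSet R.carrier R.res B),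
    Subtype.ext (AlgHom.ext fun r => ?_)⟩
  · show B.res (ψ.1 (e.symm r)) = R.res r
    conv_rhs => rw [← e.apply_symm_apply r]
    exact (DFunLike.congr_fun ψ.2 _).trans (DFunLike.congr_fun hq (e.symm r)).symm
  · show μ.toAlgHom (ψ.1 (e.symm r)) = φ.1 r
    conv_rhs => rw [← e.apply_symm_apply r]
    exact DFunLike.congr_fun (congrArg Subtype.val hψ) (e.symm r)

theorem hull_bounds (P : Algebra.Presentation k B₀ ι σ) [Module.Finite k (CotT.T1 P B₀)]
    (H : Hull (DefB (k := k) B₀)) :
    ringKrullDim H.ring.carrier ≤ ((Module.finrank k (CotT.T1 P B₀) : ℕ∞) : WithBot ℕ∞) ∧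
      (Module.Finite k (CotT.T2 P B₀) →
        ((Module.finrank k (CotT.T1 P B₀) : ℕ∞) : WithBot ℕ∞) ≤
          ringKrullDim H.ring.carrier + ((Module.finrank k (CotT.T2 P B₀) : ℕ∞) : WithBot ℕ∞)) ∧
      (ringKrullDim H.ring.carrier = ((Module.finrank k (CotT.T1 P B₀) : ℕ∞) : WithBot ℕ∞) ↔
        IsSmoothFunctor (DefB (k := k) B₀)) := by
  haveI := Fintype.ofFinite σ
  have hd := finrank_cotangent_hull P H
  refine ⟨?_, fun hT2 => ?_, fun e => ?_, fun hs => ?_⟩
  · rw [← hd]
    exact (ringKrullDim_le_spanFinrank_maximalIdeal _).trans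
      (le_of_eq (by rw [IsLocalRing.spanFinrank_maximalIdeal_eq_finrank_cotangentSpace]; rfl))
  · obtain ⟨T⟩ := obsTheory_T2 P
    rw [← hd]
    exact (Groth.Agent.S12327.result (CotT.T2 P B₀) T H).2.1
  · rw [← hd] at e
    exact isSmoothFunctor_of_hull (h0_defFunctor k k B₀) H (smooth_hR_of_dim_eq H.ring e)
  · let T : ObsTheory (DefB (k := k) B₀) PUnit.{u + 1} :=
      { obs := fun p hp u => 0
        obs_eq_zero_iff := fun p hp u => ⟨fun _ => hs p hp.1 u, fun _ => rfl⟩
        obs_quot := fun p hp K hK hKJ hq u => (map_zero _).symm }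
    haveI : IsRegularLocalRing H.ring.carrier :=
      (Groth.Agent.S12327.result PUnit.{u + 1} T H).2.2.1 Module.finrank_zero_of_subsingleton
    rw [← hd, ← IsLocalRing.spanFinrank_maximalIdeal_eq_finrank_cotangentSpace]
    exact (IsRegularLocalRing.spanFinrank_maximalIdeal (R := H.ring.carrier)).symm

end Groth.L14.DefLift
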