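import Groth.Agent.L14.DefLift.Core
import Groth.Agent.L19.Thick.LciConormal
import Groth.Agent.L07.RegularLCI

/-! # Koszul-regular quotients are unobstructed -/

set_option autoImplicit false
set_option linter.style.haveILetI false

universe u

open MvPolynomial RingTheory.Sequence

namespace Groth.L14.DefLift

variable {R : Type u} [CommRing R]

/-- The Koszul relations. -/
def kos {σ : Type u} [DecidableEq σ] (f : σ → R) : Submodule R (σ → R) :=
  Submodule.span R {r | ∃ i j, r = (Pi.single j (f i) : σ → R) - Pi.single i (f j)}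

/-- Relations of a weakly regular sequence are Koszul relations. -/
theorem mem_kos_fin : ∀ {c : ℕ} (g : Fin c → R), IsWeaklyRegular R (List.ofFn g) →
    ∀ y : Fin c → R, ∑ j, y j * g j = 0 →
      y ∈ Submodule.span R {r | ∃ a b, r = (Pi.single b (g a) : Fin c → R) - Pi.single a (g b)} := by
  intro c
  induction c with
  | zero => intro g _ y _; rw [Subsingleton.elim y 0]; exact zero_mem _
  | succ c ih =>
    intro g hg y hy
    rw [List.ofFn_succ', List.concat_eq_append, isWeaklyRegular_append_iff, isWeaklyRegular_singleton_iff] at hg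
    let h : Fin c → R := fun i => g i.castSucc
    rw [Fin.sum_univ_castSucc] at hy
    have hK : (Ideal.ofList (List.ofFn h) • ⊤ : Submodule R R) = Ideal.span (Set.range h) := by
      rw [smul_eq_mul, Ideal.mul_top]
      simp [Ideal.ofList, Set.range, List.mem_ofFn]
    have h1 : y (Fin.last c) ∈ Ideal.span (Set.range h) := by
      rw [← hK, ← Submodule.Quotient.mk_eq_zero]
      refine hg.2.right_eq_zero_of_smul ?_
      rw [← Submodule.Quotient.mk_smul, Submodule.Quotient.mk_eq_zero, hK, smul_eq_mul,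
        show g (Fin.last c) * y (Fin.last c) = -∑ i, y i.castSucc * h i by linear_combination hy]
      exact neg_mem (sum_mem fun i _ => Ideal.mul_mem_left _ _ (Ideal.subset_span ⟨i, rfl⟩))
    obtain ⟨b, hb⟩ := Ideal.mem_span_range_iff_exists_fun.mp h1
    let z : Fin c → R := fun i => y i.castSucc + b i * g (Fin.last c)
    have hz : ∑ i, z i * h i = 0 := by
      have e : ∑ i, z i * h i = (∑ i, y i.castSucc * h i) + (∑ i, b i * h i) * g (Fin.last c) := by
        rw [Finset.sum_mul, ← Finset.sum_add_distrib]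
        exact Finset.sum_congr rfl fun i _ => by ring
      rw [e, hb]
      exact hy
    let ext : (Fin c → R) →ₗ[R] (Fin (c + 1) → R) :=
      { toFun := fun v => Fin.snoc v 0
        map_add' := fun v w => funext fun i => by refine Fin.lastCases ?_ (fun i => ?_) i <;> simp
        map_smul' := fun a v => funext fun i => by refine Fin.lastCases ?_ (fun i => ?_) i <;> simp }
    let T := {r | ∃ a b, r = (Pi.single b (g a) : Fin (c + 1) → R) - Pi.single a (g b)}
    have hext : Submodule.map ext (Submodule.span R {r | ∃ a b, r = (Pi.single b (h a) : Fin c → R) - Pi.single a (h b)})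
        ≤ Submodule.span R T := by
      rw [Submodule.map_span, Submodule.span_le]
      rintro _ ⟨_, ⟨a, b', rfl⟩, rfl⟩
      refine Submodule.subset_span ⟨a.castSucc, b'.castSucc, funext fun i => ?_⟩
      refine Fin.lastCases ?_ (fun i => ?_) i
      · simp [ext, Fin.snoc_last, Pi.single_apply, (Fin.castSucc_lt_last a).ne', (Fin.castSucc_lt_last b').ne']
      · simp [ext, Fin.snoc_castSucc, Pi.single_apply, h]
    have e : y = ext z + ∑ i, b i • ((Pi.single (Fin.last c) (g i.castSucc) : Fin (c + 1) → R) -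
        Pi.single i.castSucc (g (Fin.last c))) := by
      funext l
      refine Fin.lastCases ?_ (fun l => ?_) l
      · simp [ext, Fin.snoc_last, Finset.sum_apply, Pi.single_apply, (Fin.castSucc_lt_last _).ne', ← hb, h]
      · simp [ext, z, Fin.snoc_castSucc, Finset.sum_apply, Pi.single_apply, (Fin.castSucc_lt_last l).ne]
    rw [e]
    exact add_mem (hext (Submodule.mem_map_of_mem (ih h hg.1 z hz)))
      (sum_mem fun i _ => Submodule.smul_mem _ _ (Submodule.subset_span ⟨i.castSucc, Fin.last c, rfl⟩))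

variable [IsNoetherianRing R] {σ : Type u} [Fintype σ] [DecidableEq σ]

/-- Relations with coefficients in a Koszul-regular ideal are, near a prime, Koszul plus the ideal times relations. -/
theorem exists_mul_mem (f : σ → R) (hK : LCI.IsKoszulRegularIdeal (Ideal.span (Set.range f)))
    (r : σ → R) (hr : r ∈ Rel f) (hrI : ∀ i, r i ∈ Ideal.span (Set.range f)) (p : Ideal R) [p.IsPrime] :
    ∃ t ∉ p, t • r ∈ kos f ⊔ Ideal.span (Set.range f) • Rel f := by
  classical
  set I := Ideal.span (Set.range f) with hI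
  have hfI : ∀ i, f i ∈ I := fun i => Ideal.subset_span ⟨i, rfl⟩
  have hr0 : ∑ i, r i * f i = 0 := by
    rw [← comb_apply]; exact hr
  by_cases hp : I ≤ p
  swap
  · obtain ⟨l, hl⟩ : ∃ l, f l ∉ p := by
      by_contra! hc
      exact hp (Ideal.span_le.mpr (by rintro _ ⟨l, rfl⟩; exact hc l))
    refine ⟨f l, hl, Submodule.mem_sup_left ?_⟩
    have e : f l • r = ∑ i, r i • ((Pi.single i (f l) : σ → R) - Pi.single l (f i)) := by
      funext m
      simp only [Pi.smul_apply, smul_eq_mul, Finset.sum_apply, Pi.sub_apply, Pi.single_apply, mul_sub, mul_ite, mul_zero,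
        Finset.sum_sub_distrib, Finset.sum_ite_eq, Finset.mem_univ, ite_true]
      split_ifs with h
      · rw [hr0, sub_zero, mul_comm]
      · simp [mul_comm]
    rw [e]
    exact sum_mem fun i _ => Submodule.smul_mem _ _ (Submodule.subset_span ⟨l, i, rfl⟩)
  obtain ⟨g₀, hg₀, gl, hgl, hgen, hreg⟩ :=
    Groth.L07.KoszulIdeal.isKoszulRegularIdeal_iff.mp hK p hp
  let L := Localization.AtPrime p
  have hu : IsUnit (algebraMap R L g₀) := IsLocalization.map_units L (⟨g₀, hg₀⟩ : p.primeCompl)
  have hk := Groth.L07.KoszulIdeal.SeqOn.regular (⟨hgl, hgen, hreg⟩ : Groth.L07.KoszulIdeal.SeqOn I g₀ gl)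
    (algebraMap R L) (RingHom.flat_algebraMap_iff.mpr (IsLocalization.flat L p.primeCompl)) hu
  have hw : IsWeaklyRegular L (gl.map (algebraMap R L)) :=
    Groth.L07.KoszulBC.isWeaklyRegular_of_koszul _ (fun x hx => by
      obtain ⟨y, hy, rfl⟩ := List.mem_map.mp hx
      exact (IsLocalization.AtPrime.to_map_mem_maximal_iff L p y).mpr (hp (hgl y hy)))
      (fun n hn => Groth.L07.KoszulBC.isZero_of_isKoszulRegularSeq _ hk n hn)
  let g : Fin gl.length → R := gl.get
  have hg : IsWeaklyRegular L (List.ofFn fun j => algebraMap R L (g j)) := by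
    rw [show (List.ofFn fun j => algebraMap R L (g j)) = gl.map (algebraMap R L) from
      List.map_ofFn.symm.trans (congrArg _ (List.ofFn_get gl))]
    exact hw
  choose T hT using fun j => Ideal.mem_span_range_iff_exists_fun.mp (hgl (g j) (List.get_mem gl j))
  have hS : ∀ i, ∃ (k : ℕ) (S : Fin gl.length → R), ∑ j, S j * g j = g₀ ^ k * f i := fun i => by
    obtain ⟨k, hk⟩ := hgen _ (hfI i)
    rw [show Ideal.ofList gl = Ideal.span (Set.range g) by
      simp [Ideal.ofList, g, Set.range_list_get], Ideal.mem_span_range_iff_exists_fun] at hk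
    exact ⟨k, hk⟩
  choose k S hS using hS
  obtain ⟨N, hN⟩ : ∃ N, ∀ i, k i ≤ N := ⟨Finset.univ.sup k, fun i => Finset.le_sup (Finset.mem_univ i)⟩
  let t := g₀ ^ N
  let S' : σ → Fin gl.length → R := fun i j => g₀ ^ (N - k i) * S i j
  have hS' : ∀ i, ∑ j, S' i j * g j = t * f i := fun i => by
    simp only [S', mul_assoc, ← Finset.mul_sum, hS]
    rw [← mul_assoc, ← pow_add, Nat.sub_add_cancel (hN i)]
  let Tm : (Fin gl.length → R) →ₗ[R] (σ → R) := Fintype.linearCombination R T
  have hTm : ∀ y : Fin gl.length → R, ∑ i, Tm y i * f i = ∑ j, y j * g j := fun y => by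
    simp only [Tm, Fintype.linearCombination_apply, Finset.sum_apply, Pi.smul_apply, smul_eq_mul, Finset.sum_mul]
    rw [Finset.sum_comm]
    exact Finset.sum_congr rfl fun j _ => by
      rw [← hT j, Finset.mul_sum]; exact Finset.sum_congr rfl fun i _ => by ring
  let δ : σ → (σ → R) := fun i => (Pi.single i t : σ → R) - Tm (S' i)
  have hδ : ∀ i, δ i ∈ Rel f := fun i => by
    show Fintype.linearCombination R f (δ i) = 0
    rw [map_sub, Fintype.linearCombination_apply_single, comb_apply, hTm, hS', smul_eq_mul, sub_self]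
  let y : Fin gl.length → R := ∑ i, r i • S' i
  have hy : ∑ j, y j * g j = 0 := by
    simp only [y, Finset.sum_apply, Pi.smul_apply, smul_eq_mul, Finset.sum_mul]
    rw [Finset.sum_comm]
    simp only [mul_assoc, ← Finset.mul_sum, hS']
    rw [show ∑ i, r i * (t * f i) = t * ∑ i, r i * f i by
      rw [Finset.mul_sum]; exact Finset.sum_congr rfl fun i _ => by ring, hr0, mul_zero]
  have htr : t • r = (∑ i, r i • δ i) + Tm y := by
    simp only [δ, y, map_sum, map_smul, smul_sub, Finset.sum_sub_distrib, sub_add_cancel]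
    funext m
    simp [Finset.sum_apply, Pi.single_apply, mul_comm]
  -- the relation `y` is Koszul near `p`
  let φ : (Fin gl.length → R) →ₗ[R] (Fin gl.length → L) := (Algebra.linearMap R L).compLeft _
  let KL := {v | ∃ a b, v = (Pi.single b (g a) : Fin gl.length → R) - Pi.single a (g b)}
  have hyL : φ y ∈ Submodule.span L (φ '' KL) := by
    have h1 := mem_kos_fin _ hg (φ y) (by
      show ∑ j, algebraMap R L (y j) * algebraMap R L (g j) = 0
      rw [← map_zero (algebraMap R L), ← hy, map_sum]
      exact Finset.sum_congr rfl fun j _ => (map_mul _ _ _).symm)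
    refine Submodule.span_mono ?_ h1
    rintro _ ⟨a, b, rfl⟩
    refine ⟨_, ⟨a, b, rfl⟩, funext fun j => ?_⟩
    simp [φ, Pi.single_apply, apply_ite (algebraMap R L)]
  have hclear : ∀ v ∈ Submodule.span L (φ '' KL), ∃ a ∈ p.primeCompl, ∃ w ∈ Submodule.span R KL, φ w = a • v := by
    intro v hv
    induction hv using Submodule.span_induction with
    | mem v hv =>
      obtain ⟨w, hw, rfl⟩ := hv
      exact ⟨1, one_mem _, w, Submodule.subset_span hw, (one_smul _ _).symm⟩
    | zero => exact ⟨1, one_mem _, 0, zero_mem _, by simp⟩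
    | add v v' _ _ h h' =>
      obtain ⟨a, ha, w, hw, e⟩ := h
      obtain ⟨a', ha', w', hw', e'⟩ := h'
      refine ⟨a * a', mul_mem ha ha', a' • w + a • w', add_mem (Submodule.smul_mem _ _ hw) (Submodule.smul_mem _ _ hw'), ?_⟩
      rw [map_add, map_smul, map_smul, e, e', smul_smul, smul_smul, smul_add, mul_comm a' a]
    | smul s v _ h =>
      obtain ⟨a, ha, w, hw, e⟩ := h
      obtain ⟨⟨b, ⟨d, hd⟩⟩, hs⟩ := IsLocalization.surj p.primeCompl s
      refine ⟨d * a, mul_mem hd ha, b • w, Submodule.smul_mem _ _ hw, ?_⟩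
      rw [map_smul, e]
      funext l
      simp only [Pi.smul_apply]
      simp only [Algebra.smul_def, map_mul, Algebra.algebraMap_self, RingHom.id_apply]
      rw [← hs]
      ring
  obtain ⟨a, ha, w, hw, e⟩ := hclear _ hyL
  have hz : ∀ j, ∃ c ∈ p.primeCompl, c * (a * y j - w j) = 0 := fun j => by
    have h1 : algebraMap R L (a * y j - w j) = 0 := by
      rw [map_sub, map_mul, sub_eq_zero]
      exact ((congrFun e j).trans (Algebra.smul_def a _)).symm
    obtain ⟨⟨c, hc⟩, hcz⟩ := (IsLocalization.map_eq_zero_iff p.primeCompl (Localization.AtPrime p) _).mp h1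
    exact ⟨c, hc, hcz⟩
  choose c hc hcz using hz
  refine ⟨(∏ j, c j) * a * t, mul_mem (mul_mem (prod_mem fun j _ => hc j) ha)
    (show g₀ ^ N ∈ p.primeCompl from pow_mem hg₀ N), ?_⟩
  rw [mul_smul, htr, smul_add, ← map_smul]
  refine add_mem (Submodule.mem_sup_right (Submodule.smul_mem _ _ (sum_mem fun i _ =>
    Submodule.smul_mem_smul (hrI i) (hδ i)))) (Submodule.mem_sup_left ?_)
  have he : ((∏ j, c j) * a) • y = (∏ j, c j) • w := funext fun j => by
    rw [Pi.smul_apply, Pi.smul_apply, smul_eq_mul, smul_eq_mul, ← sub_eq_zero,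
      ← Finset.mul_prod_erase Finset.univ c (Finset.mem_univ j)]
    linear_combination (∏ i ∈ Finset.univ.erase j, c i) * hcz j
  rw [he]
  have hKle : Submodule.map Tm (Submodule.span R KL) ≤ kos f := by
    rw [Submodule.map_span, Submodule.span_le]
    rintro _ ⟨_, ⟨a, b, rfl⟩, rfl⟩
    have e1 : Tm ((Pi.single b (g a) : Fin gl.length → R) - Pi.single a (g b)) =
        ∑ i, ∑ i', (T a i * T b i') • ((Pi.single i' (f i) : σ → R) - Pi.single i (f i')) := by
      rw [map_sub, Fintype.linearCombination_apply_single, Fintype.linearCombination_apply_single, ← hT a, ← hT b]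
      funext m
      simp only [Pi.sub_apply, Pi.smul_apply, smul_eq_mul, Finset.sum_apply, Pi.single_apply, mul_sub, mul_ite, mul_zero,
        Finset.sum_sub_distrib]
      rw [Finset.sum_comm (f := fun i i' => if m = i then T a i * T b i' * f i' else 0)]
      simp only [Finset.sum_ite_eq, Finset.mem_univ, ite_true, Finset.sum_mul]
      congr 1 <;> exact Finset.sum_congr rfl fun i _ => by ring
    rw [SetLike.mem_coe, e1]
    exact sum_mem fun i _ => sum_mem fun i' _ => Submodule.smul_mem _ _ (Submodule.subset_span ⟨i, i', rfl⟩)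
  rw [map_smul]
  exact Submodule.smul_mem _ _ (hKle (Submodule.mem_map_of_mem hw))

variable {k : Type u} [Field k] {B₀ : Type u} [CommRing B₀] [Algebra k B₀] {ι : Type u} [Finite ι]

/-- Koszul-regular quotients of polynomial rings are unobstructed. -/
theorem unobstructed_of_koszulRegular (π₀ : MvPolynomial ι k →ₐ[k] B₀) (f : σ → MvPolynomial ι k)
    (hf : Ideal.span (Set.range f) = RingHom.ker π₀) (hK : LCI.IsKoszulRegularIdeal (Ideal.span (Set.range f))) :
    Unobstructed π₀ f := by
  classical
  intro φ hsmul hkos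
  let P := MvPolynomial ι k
  set I : Ideal P := Ideal.span (Set.range f) with hI
  have hfI : ∀ i, f i ∈ I := fun i => Ideal.subset_span ⟨i, rfl⟩
  have hπI : ∀ a ∈ I, π₀ a = 0 := fun a ha => RingHom.mem_ker.mp (hf.le ha)
  -- `φ` kills relations with coefficients in `I`
  have hkill : ∀ r : Rel f, (∀ i, (r : σ → P) i ∈ I) → φ r = 0 := by
    intro r hr
    have hmem : (r : σ → P) ∈ kos f ⊔ I • Rel f := by
      let 𝔞 : Ideal P := Submodule.comap (LinearMap.toSpanSingleton P (σ → P) (r : σ → P)) (kos f ⊔ I • Rel f)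
      have htop : 𝔞 = ⊤ := by
        by_contra hne
        obtain ⟨M, hM, hle⟩ := Ideal.exists_le_maximal 𝔞 hne
        haveI := hM.isPrime
        obtain ⟨t, ht, htr⟩ := exists_mul_mem f hK _ r.2 hr M
        exact ht (hle htr)
      have h1 : (1 : P) ∈ 𝔞 := htop ▸ Submodule.mem_top
      simpa [𝔞] using h1
    let Z : Submodule P (σ → P) :=
      { carrier := {v | ∃ hv : v ∈ Rel f, φ ⟨v, hv⟩ = 0}
        zero_mem' := ⟨zero_mem _, map_zero φ⟩
        add_mem' := fun {a b} ⟨ha, ha'⟩ ⟨hb, hb'⟩ => ⟨add_mem ha hb, by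
          rw [show (⟨a + b, add_mem ha hb⟩ : Rel f) = ⟨a, ha⟩ + ⟨b, hb⟩ from rfl, map_add, ha', hb', add_zero]⟩
        smul_mem' := fun s a ⟨ha, ha'⟩ => ⟨Submodule.smul_mem _ s ha, by
          rw [show (⟨s • a, Submodule.smul_mem _ s ha⟩ : Rel f) = s • (⟨a, ha⟩ : Rel f) from rfl, hsmul, ha', mul_zero]⟩ }
    have hle : kos f ⊔ I • Rel f ≤ Z := by
      refine sup_le (Submodule.span_le.mpr ?_) (Submodule.smul_le.mpr fun a ha v hv => ?_)
      · rintro _ ⟨i, j, rfl⟩
        refine ⟨?_, hkos _ i j rfl⟩
        show Fintype.linearCombination P f _ = 0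
        rw [map_sub, Fintype.linearCombination_apply_single, Fintype.linearCombination_apply_single, smul_eq_mul,
          smul_eq_mul, mul_comm, sub_self]
      · exact ⟨Submodule.smul_mem _ a hv, by
          rw [show (⟨a • v, Submodule.smul_mem _ a hv⟩ : Rel f) = a • (⟨v, hv⟩ : Rel f) from rfl, hsmul, hπI a ha,
            zero_mul]⟩
    exact (hle hmem).2
  -- the conormal module splits the relations
  haveI := (Groth.L19.Thick.finite_projective_cotangent_of_regAt I
    (Groth.L07.KoszulIdeal.isKoszulRegularIdeal_iff.mp hK)).2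
  let T : (σ → P ⧸ I) →ₗ[P ⧸ I] I.Cotangent :=
    Fintype.linearCombination (P ⧸ I) fun i => I.toCotangent ⟨f i, hfI i⟩
  have hTv : ∀ v : σ → P, T (fun i => Ideal.Quotient.mk I (v i)) =
      I.toCotangent (∑ i, v i • (⟨f i, hfI i⟩ : I)) := fun v => by
    rw [map_sum, Fintype.linearCombination_apply]
    exact Finset.sum_congr rfl fun i _ => by rw [map_smul, ← Ideal.Quotient.algebraMap_eq, algebraMap_smul]
  have hT : Function.Surjective T := fun z => by
    obtain ⟨⟨y, hy⟩, rfl⟩ := I.toCotangent_surjective z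
    obtain ⟨v, hv⟩ := Ideal.mem_span_range_iff_exists_fun.mp hy
    refine ⟨fun i => Ideal.Quotient.mk I (v i), ?_⟩
    rw [hTv]
    congr 1
    exact Subtype.ext (by simpa using hv)
  obtain ⟨s, hs⟩ := Module.projective_lifting_property T LinearMap.id hT
  let q : (σ → P ⧸ I) →ₗ[P ⧸ I] (σ → P ⧸ I) := LinearMap.id - s ∘ₗ T
  have hlift : ∀ v : σ → P ⧸ I, T v = 0 → ∃ r : Rel f, ∀ i, Ideal.Quotient.mk I ((r : σ → P) i) = v i := by
    intro v hv
    choose v₀ hv₀ using fun i => Ideal.Quotient.mk_surjective (v i)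
    rw [show v = fun i => Ideal.Quotient.mk I (v₀ i) from funext fun i => (hv₀ i).symm, hTv,
      Ideal.toCotangent_eq_zero] at hv
    have h1 : ((∑ i, v₀ i • (⟨f i, hfI i⟩ : I) : I) : P) ∈
        Submodule.map (Fintype.linearCombination P f) (I • ⊤) := by
      rw [Submodule.map_smul'', Submodule.map_top, Fintype.range_linearCombination, smul_eq_mul, ← pow_two]
      exact hv
    obtain ⟨w, hw, hwe⟩ := h1
    refine ⟨⟨v₀ - w, ?_⟩, fun i => ?_⟩
    · show Fintype.linearCombination P f (v₀ - w) = 0
      rw [map_sub, hwe, Fintype.linearCombination_apply, sub_eq_zero]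
      simp
    · show Ideal.Quotient.mk I (v₀ i - w i) = v i
      have h2 : w i ∈ I • (⊤ : Submodule P P) := map_mem_smul_top (LinearMap.proj i) hw
      rw [smul_eq_mul, Ideal.mul_top] at h2
      rw [map_sub, hv₀, Ideal.Quotient.eq_zero_iff_mem.mpr h2, sub_zero]
  have hTs : ∀ z, T (s z) = z := fun z => LinearMap.congr_fun hs z
  choose R₀ hR₀ using fun i => hlift (q (Pi.single i 1)) (by
    simp only [q, LinearMap.sub_apply, LinearMap.id_apply, LinearMap.comp_apply, map_sub, hTs, sub_self])
  refine ⟨fun i => φ (R₀ i), fun r => ?_⟩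
  let r' : Rel f := ∑ i, (r : σ → P) i • R₀ i
  have hφ : φ r' = ∑ i, π₀ ((r : σ → P) i) * φ (R₀ i) := by
    rw [map_sum]
    exact Finset.sum_congr rfl fun i _ => hsmul _ _
  rw [← hφ, ← sub_eq_zero, ← map_sub]
  refine hkill _ fun i => ?_
  rw [← Ideal.Quotient.eq_zero_iff_mem, Submodule.coe_sub, Pi.sub_apply, map_sub, sub_eq_zero]
  let v : σ → P ⧸ I := fun j => Ideal.Quotient.mk I ((r : σ → P) j)
  have hTr : T v = 0 := by
    rw [hTv]
    refine (congrArg _ (Subtype.ext ?_)).trans (map_zero _)
    have h3 : ∑ j, (r : σ → P) j * f j = 0 := by rw [← comb_apply]; exact r.2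
    simpa using h3
  have hqv : q v = v := by simp [q, hTr]
  have h4 : v = ∑ j, v j • q (Pi.single j 1) := by
    conv_lhs => rw [← hqv, pi_eq_sum_univ' v, map_sum]
    exact Finset.sum_congr rfl fun j _ => map_smul _ _ _
  have h5 := congrFun h4 i
  rw [Finset.sum_apply] at h5
  refine h5.trans ?_
  rw [show ((r' : Rel f) : σ → P) = ∑ j, (r : σ → P) j • (R₀ j : σ → P) by simp [r'], Finset.sum_apply, map_sum]
  exact Finset.sum_congr rfl fun j _ => by
    rw [Pi.smul_apply, Pi.smul_apply, smul_eq_mul, smul_eq_mul, map_mul, hR₀]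

end Groth.L14.DefLift
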