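import Groth.Agent.L14.DefLift.Core

/-! # Lifting deformations along any surjection of Artinian local rings -/

set_option autoImplicit false
set_option linter.style.haveILetI false

universe u

namespace Groth.L14.DefLift

variable {ι : Type u} {σ : Type u} [Fintype σ] [DecidableEq σ] {k : Type u} [Field k] {B₀ : Type u} [CommRing B₀] [Algebra k B₀]
  {π₀ : MvPolynomial ι k →ₐ[k] B₀} {f : σ → MvPolynomial ι k}

theorem lifts_of_bijective {A A' : Type u} [CommRing A] [CommRing A'] (p : A' →+* A) (hp : Function.Bijective p)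
    {ρ : A →+* k} (D : Defo B₀ A ρ) : Lifts p D := by
  let φ : A' →+* D.B := (algebraMap A D.B).comp p
  have hflat : φ.Flat := RingHom.Flat.comp (RingHom.Flat.of_bijective hp)
    (RingHom.flat_algebraMap_iff.mpr D.flat)
  letI : Algebra A' D.B := φ.toAlgebra
  refine ⟨⟨D.B, hflat, D.β, D.surj, fun a => D.comm (p a), ?_⟩, RingHom.id _, Function.surjective_id, fun a => rfl,
    fun b => rfl, ?_⟩
  · rw [D.ker_eq, ← RingHom.comap_ker, show algebraMap A' D.B = (algebraMap A D.B).comp p from rfl, ← Ideal.map_map,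
      Ideal.map_comap_of_surjective p hp.2]
  · rw [(RingHom.injective_iff_ker_eq_bot p).mp hp.1, Ideal.map_bot]
    exact (RingHom.injective_iff_ker_eq_bot _).mp Function.injective_id

theorem lifts_comp {A A₁ A' : Type u} [CommRing A] [CommRing A₁] [CommRing A'] (p₁ : A' →+* A₁) (p₂ : A₁ →+* A)
    (hp₁ : Function.Surjective p₁) {ρ : A →+* k} (D : Defo B₀ A ρ) (h₂ : Lifts p₂ D)
    (h₁ : ∀ D₁ : Defo B₀ A₁ (ρ.comp p₂), Lifts p₁ D₁) : Lifts (p₂.comp p₁) D := by
  obtain ⟨D₁, q₂, hs₂, hc₂, hb₂, hk₂⟩ := h₂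
  obtain ⟨D', q₁, hs₁, hc₁, hb₁, hk₁⟩ := h₁ D₁
  refine ⟨⟨D'.B, D'.flat, D'.β, D'.surj, D'.comm, D'.ker_eq⟩, q₂.comp q₁, hs₂.comp hs₁, fun a => ?_, fun b => ?_, ?_⟩
  · show q₂ (q₁ (algebraMap A' D'.B a)) = algebraMap A D.B (p₂ (p₁ a))
    rw [hc₁, hc₂]
  · show D.β (q₂ (q₁ b)) = D'.β b
    rw [hb₂, hb₁]
  · have e : (RingHom.ker p₂).map (algebraMap A₁ D₁.B) =
        ((RingHom.ker (p₂.comp p₁)).map (algebraMap A' D'.B)).map q₁ := by
      rw [Ideal.map_map, show q₁.comp (algebraMap A' D'.B) = (algebraMap A₁ D₁.B).comp p₁ from RingHom.ext hc₁,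
        ← Ideal.map_map, ← RingHom.comap_ker, Ideal.map_comap_of_surjective p₁ hp₁]
    rw [← RingHom.comap_ker, hk₂, e, Ideal.comap_map_of_surjective q₁ hs₁, ← RingHom.ker_eq_comap_bot, hk₁,
      sup_eq_left]
    exact Ideal.map_mono fun a ha => by rw [RingHom.mem_ker, RingHom.comp_apply, RingHom.mem_ker.mp ha, map_zero]

variable (hπ₀ : Function.Surjective π₀) (hf : Ideal.span (Set.range f) = RingHom.ker π₀) (hun : Unobstructed π₀ f)

include hπ₀ hf hun

theorem lifts_semismall : ∀ (n : ℕ) (A A' : Type u) [CommRing A] [CommRing A'] [IsArtinianRing A'] [IsLocalRing A']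
    (p : A' →+* A), Function.Surjective p → ∀ (ρ : A →+* k), Function.Surjective ρ →
    RingHom.ker (ρ.comp p) * RingHom.ker p = ⊥ → (∃ v : Fin n → A', RingHom.ker p = Ideal.span (Set.range v)) →
    ∀ D : Defo B₀ A ρ, Lifts p D := by
  intro n
  induction n with
  | zero =>
    intro A A' _ _ _ _ p hp ρ _ _ ⟨v, hv⟩ D
    refine lifts_of_bijective p ⟨(RingHom.injective_iff_ker_eq_bot p).mpr ?_, hp⟩ D
    rw [hv, Set.range_eq_empty, Ideal.span_empty]
  | succ n ih =>
    intro A A' _ _ _ _ p hp ρ hρ hm ⟨v, hv⟩ D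
    by_cases hz : v 0 = 0
    · refine ih A A' p hp ρ hρ hm ⟨fun i => v i.succ, ?_⟩ D
      rw [hv, Fin.range_fin_succ, hz]
      exact Submodule.span_insert_zero
    haveI : (RingHom.ker (ρ.comp p)).IsMaximal :=
      RingHom.ker_isMaximal_of_surjective _ (hρ.comp hp)
    have hmax : RingHom.ker (ρ.comp p) = IsLocalRing.maximalIdeal A' := IsLocalRing.eq_maximalIdeal ‹_›
    have hvp : p (v 0) = 0 := RingHom.mem_ker.mp (hv.ge (Ideal.subset_span ⟨0, rfl⟩))
    let I : Ideal A' := Ideal.span {v 0}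
    have hI : I ≤ RingHom.ker p := (Ideal.span_singleton_le_iff_mem _).mpr hvp
    let p₁ : A' →+* A' ⧸ I := Ideal.Quotient.mk I
    let p₂ : A' ⧸ I →+* A := Ideal.Quotient.lift I p fun a ha => hI ha
    have hp₂ : Function.Surjective p₂ := fun a => by
      obtain ⟨a, rfl⟩ := hp a
      exact ⟨p₁ a, rfl⟩
    haveI : IsLocalRing (A' ⧸ I) :=
      haveI : Nontrivial (A' ⧸ I) := (ρ.comp p₂).domain_nontrivial
      IsLocalRing.of_surjective' p₁ Ideal.Quotient.mk_surjective
    show Lifts (p₂.comp p₁) D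
    refine lifts_comp p₁ p₂ Ideal.Quotient.mk_surjective D ?_ fun D₁ => ?_
    · refine ih A (A' ⧸ I) p₂ hp₂ ρ hρ ?_ ⟨fun i => p₁ (v i.succ), ?_⟩ D
      · have e1 : RingHom.ker (ρ.comp p₂) = (RingHom.ker (ρ.comp p)).map p₁ := by
          rw [show ρ.comp p = (ρ.comp p₂).comp p₁ from rfl, ← RingHom.comap_ker _ p₁,
            Ideal.map_comap_of_surjective p₁ Ideal.Quotient.mk_surjective]
        have e2 : RingHom.ker p₂ = (RingHom.ker p).map p₁ := by
          rw [show p = p₂.comp p₁ from rfl, ← RingHom.comap_ker _ p₁,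
            Ideal.map_comap_of_surjective p₁ Ideal.Quotient.mk_surjective]
        rw [e1, e2, ← Ideal.map_mul, hm, Ideal.map_bot]
      · have e2 : RingHom.ker p₂ = (RingHom.ker p).map p₁ := by
          rw [show p = p₂.comp p₁ from rfl, ← RingHom.comap_ker _ p₁,
            Ideal.map_comap_of_surjective p₁ Ideal.Quotient.mk_surjective]
        rw [e2, hv, Ideal.map_span, Fin.range_fin_succ, Set.image_insert_eq, ← Set.range_comp,
          show p₁ (v 0) = 0 from Ideal.Quotient.eq_zero_iff_mem.mpr (Ideal.subset_span rfl)]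
        exact Submodule.span_insert_zero
    · refine lifts_small p₁ hπ₀ hf hun Ideal.Quotient.mk_surjective (hρ.comp hp₂) ?_ (fun a ha => ?_) (v 0) ?_
        (fun a ha => ?_) hz D₁
      · haveI : (RingHom.ker (ρ.comp p₂)).IsMaximal := RingHom.ker_isMaximal_of_surjective _ (hρ.comp hp₂)
        haveI : IsArtinianRing (A' ⧸ I) := Function.Surjective.isArtinianRing (f := p₁) Ideal.Quotient.mk_surjective
        rw [IsLocalRing.eq_maximalIdeal ‹(RingHom.ker (ρ.comp p₂)).IsMaximal›,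
          ← IsLocalRing.jacobson_eq_maximalIdeal (⊥ : Ideal (A' ⧸ I)) bot_ne_top]
        exact IsArtinianRing.isNilpotent_jacobson_bot
      · by_contra hu
        exact ha (hmax.ge (show a ∈ IsLocalRing.maximalIdeal A' from hu))
      · exact Ideal.mk_ker
      · have h1 := Ideal.mul_mem_mul (show a ∈ RingHom.ker (ρ.comp p) from ha)
          (show v 0 ∈ RingHom.ker p from hvp)
        rw [hm, Submodule.mem_bot] at h1
        rw [mul_comm, h1]

theorem lifts_of_pow : ∀ (s : ℕ) (A A' : Type u) [CommRing A] [CommRing A'] [IsArtinianRing A'] [IsLocalRing A']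
    (p : A' →+* A), Function.Surjective p → ∀ (ρ : A →+* k), Function.Surjective ρ →
    RingHom.ker (ρ.comp p) ^ s * RingHom.ker p = ⊥ → ∀ D : Defo B₀ A ρ, Lifts p D := by
  intro s
  induction s with
  | zero =>
    intro A A' _ _ _ _ p hp ρ _ hs D
    rw [pow_zero, one_mul] at hs
    exact lifts_of_bijective p ⟨(RingHom.injective_iff_ker_eq_bot p).mpr hs, hp⟩ D
  | succ s ih =>
    intro A A' _ _ _ _ p hp ρ hρ hs D
    let m := RingHom.ker (ρ.comp p)
    let I : Ideal A' := m * RingHom.ker p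
    have hI : I ≤ RingHom.ker p := Ideal.mul_le_right
    let p₁ : A' →+* A' ⧸ I := Ideal.Quotient.mk I
    let p₂ : A' ⧸ I →+* A := Ideal.Quotient.lift I p fun a ha => hI ha
    have hp₂ : Function.Surjective p₂ := fun a => by
      obtain ⟨a, rfl⟩ := hp a
      exact ⟨p₁ a, rfl⟩
    haveI : IsLocalRing (A' ⧸ I) :=
      haveI : Nontrivial (A' ⧸ I) := (ρ.comp p₂).domain_nontrivial
      IsLocalRing.of_surjective' p₁ Ideal.Quotient.mk_surjective
    haveI : IsArtinianRing (A' ⧸ I) := Function.Surjective.isArtinianRing (f := p₁) Ideal.Quotient.mk_surjective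
    show Lifts (p₂.comp p₁) D
    refine lifts_comp p₁ p₂ Ideal.Quotient.mk_surjective D ?_ fun D₁ => ?_
    · have e1 : RingHom.ker (ρ.comp p₂) = m.map p₁ := by
        show RingHom.ker (ρ.comp p₂) = (RingHom.ker ((ρ.comp p₂).comp p₁)).map p₁
        rw [← RingHom.comap_ker _ p₁, Ideal.map_comap_of_surjective p₁ Ideal.Quotient.mk_surjective]
      have e2 : RingHom.ker p₂ = (RingHom.ker p).map p₁ := by
        rw [show p = p₂.comp p₁ from rfl, ← RingHom.comap_ker _ p₁,
          Ideal.map_comap_of_surjective p₁ Ideal.Quotient.mk_surjective]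
      haveI : IsNoetherianRing (A' ⧸ I) := inferInstance
      obtain ⟨n, v, hv⟩ := Submodule.fg_iff_exists_fin_generating_family.mp
        (IsNoetherian.noetherian (RingHom.ker p₂))
      refine lifts_semismall hπ₀ hf hun n A (A' ⧸ I) p₂ hp₂ ρ hρ ?_ ⟨v, hv.symm⟩ D
      rw [e1, e2, ← Ideal.map_mul]
      exact Ideal.map_quotient_self I
    · refine ih (A' ⧸ I) A' p₁ Ideal.Quotient.mk_surjective (ρ.comp p₂) (hρ.comp hp₂) ?_ D₁
      rw [Ideal.mk_ker]
      show m ^ s * (m * RingHom.ker p) = ⊥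
      rw [← mul_assoc, ← pow_succ]
      exact hs

/-- Unobstructed: deformations lift along all surjections. -/
theorem lifts {A A' : Type u} [CommRing A] [CommRing A'] [IsArtinianRing A'] [IsLocalRing A'] (p : A' →+* A)
    (hp : Function.Surjective p) (ρ : A →+* k) (hρ : Function.Surjective ρ) (D : Defo B₀ A ρ) : Lifts p D := by
  haveI : (RingHom.ker (ρ.comp p)).IsMaximal := RingHom.ker_isMaximal_of_surjective _ (hρ.comp hp)
  obtain ⟨s, hs⟩ : IsNilpotent (RingHom.ker (ρ.comp p)) := by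
    rw [IsLocalRing.eq_maximalIdeal ‹(RingHom.ker (ρ.comp p)).IsMaximal›,
      ← IsLocalRing.jacobson_eq_maximalIdeal (⊥ : Ideal A') bot_ne_top]
    exact IsArtinianRing.isNilpotent_jacobson_bot
  exact lifts_of_pow hπ₀ hf hun s A A' p hp ρ hρ (by rw [hs, zero_mul]; rfl) D

end Groth.L14.DefLift
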