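import Groth.Agent.L14.DefLift.Node
import Mathlib.RingTheory.AdjoinRoot
import Mathlib.RingTheory.Artinian.Module

/-! # Two extensions of `k[t]/t²` -/

set_option autoImplicit false
set_option linter.style.haveILetI false

universe u

open ArtFun

namespace Groth.L14.DefLift.Node

variable (k : Type u) [Field k]

theorem isLocalRing_of_aug {A : Type u} [CommRing A] [Algebra k A] (res : A →ₐ[k] k)
    (h : ∀ a, res a = 0 → IsNilpotent a) : IsLocalRing A := by
  haveI : Nontrivial A := res.toRingHom.domain_nontrivial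
  refine IsLocalRing.of_isUnit_or_isUnit_one_sub_self fun a => ?_
  by_cases ha : res a = 0
  · exact Or.inr (h a ha).isUnit_one_sub
  · refine Or.inl ?_
    have h1 : IsUnit (algebraMap k A (res a)) := (IsUnit.mk0 _ ha).map _
    have h2 : IsNilpotent (a - algebraMap k A (res a)) := h _ (by simp)
    simpa using h2.isUnit_add_left_of_commute h1 (Commute.all _ _)

/-- `k[t]/(t³)`. -/
abbrev T3 : Type u := AdjoinRoot (Polynomial.X ^ 3 : Polynomial k)

noncomputable def res3 : T3 k →ₐ[k] k :=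
  AdjoinRoot.liftAlgHom _ (Algebra.ofId k k) 0 (by simp)

theorem res3_root : res3 k (AdjoinRoot.root (Polynomial.X ^ 3 : Polynomial k)) = 0 :=
  AdjoinRoot.liftAlgHom_root _ _ _ _

theorem nilpotent_of_res3 (x : T3 k) (hx : res3 k x = 0) : IsNilpotent x := by
  obtain ⟨p, rfl⟩ := AdjoinRoot.mk_surjective x
  have hp : p.coeff 0 = 0 := by
    simpa [res3, Polynomial.coeff_zero_eq_eval_zero] using hx
  obtain ⟨q, rfl⟩ := Polynomial.X_dvd_iff.mpr hp
  exact ⟨3, by rw [← map_pow, AdjoinRoot.mk_eq_zero, mul_pow]; exact dvd_mul_right _ _⟩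

instance : IsLocalRing (T3 k) := isLocalRing_of_aug k (res3 k) (nilpotent_of_res3 k)

instance : Module.Finite k (T3 k) := (Polynomial.monic_X_pow 3).finite_adjoinRoot

instance : IsArtinianRing (T3 k) := IsArtinianRing.of_finite k _

/-- `C'`. -/
noncomputable def art3 : Art k k := Art.of (T3 k) (res3 k) fun c => ⟨algebraMap k _ c, (res3 k).commutes c⟩

theorem t_pow_two_ne_zero : (AdjoinRoot.root (Polynomial.X ^ 3 : Polynomial k)) ^ 2 ≠ 0 := by
  intro h
  rw [← AdjoinRoot.mk_X, ← map_pow, AdjoinRoot.mk_eq_zero] at h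
  have := Polynomial.X_pow_dvd_iff.mp h 2 (by omega)
  simp at this

theorem t_pow_three : (AdjoinRoot.root (Polynomial.X ^ 3 : Polynomial k)) ^ 3 = 0 := by
  rw [← AdjoinRoot.mk_X, ← map_pow, AdjoinRoot.mk_self]

/-- The fibre square `C' ×_C C'`. -/
noncomputable def sq : Subalgebra k (T3 k × T3 k) :=
  AlgHom.equalizer ((Ideal.Quotient.mkₐ k (Ideal.span {(AdjoinRoot.root (Polynomial.X ^ 3 : Polynomial k)) ^ 2})).comp
      (AlgHom.fst k _ _))
    ((Ideal.Quotient.mkₐ k (Ideal.span {(AdjoinRoot.root (Polynomial.X ^ 3 : Polynomial k)) ^ 2})).comp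
      (AlgHom.snd k _ _))

theorem mem_sq (w : T3 k × T3 k) :
    w ∈ sq k ↔ w.1 - w.2 ∈ Ideal.span {(AdjoinRoot.root (Polynomial.X ^ 3 : Polynomial k)) ^ 2} :=
  Ideal.Quotient.mk_eq_mk_iff_sub_mem _ _

noncomputable def fstSq : sq k →ₐ[k] T3 k := (AlgHom.fst k _ _).comp (sq k).val

noncomputable def sndSq : sq k →ₐ[k] T3 k := (AlgHom.snd k _ _).comp (sq k).val

theorem res_snd (w : sq k) : res3 k (sndSq k w) = res3 k (fstSq k w) := by
  obtain ⟨c, hc⟩ := Ideal.mem_span_singleton'.mp ((mem_sq k w.1).mp w.2)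
  have := congrArg (res3 k) hc
  rw [map_mul, map_pow, show res3 k (AdjoinRoot.root _) = 0 by simp [res3], map_sub] at this
  simp at this
  exact (sub_eq_zero.mp this.symm).symm

noncomputable def resSq : sq k →ₐ[k] k := (res3 k).comp (fstSq k)

instance : IsLocalRing (sq k) := isLocalRing_of_aug k (resSq k) fun w hw => by
  obtain ⟨n, hn⟩ := nilpotent_of_res3 k (fstSq k w) hw
  obtain ⟨m, hm⟩ := nilpotent_of_res3 k (sndSq k w) ((res_snd k w).trans hw)
  exact ⟨n + m, Subtype.ext (Prod.ext (pow_eq_zero_of_le (by omega) hn) (pow_eq_zero_of_le (by omega) hm))⟩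

instance : Module.Finite k (sq k) := Module.Finite.of_injective (sq k).val.toLinearMap Subtype.val_injective

instance : IsArtinianRing (sq k) := IsArtinianRing.of_finite k _

/-- `D`. -/
noncomputable def artSq : Art k k := Art.of (sq k) (resSq k) fun c => ⟨algebraMap k _ c, (resSq k).commutes c⟩

noncomputable def p₁ : artSq k ⟶ art3 k := Art.homMk (fstSq k) rfl

noncomputable def p₂ : artSq k ⟶ art3 k := Art.homMk (sndSq k) (AlgHom.ext (res_snd k))

theorem p₁_surjective : Function.Surjective (p₁ k) := fun u => ⟨⟨(u, u), (mem_sq k (u, u)).mpr (by show u - u ∈ _; rw [sub_self]; exact zero_mem _)⟩, rfl⟩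

theorem p₂_surjective : Function.Surjective (p₂ k) := fun u => ⟨⟨(u, u), (mem_sq k (u, u)).mpr (by show u - u ∈ _; rw [sub_self]; exact zero_mem _)⟩, rfl⟩

theorem not_isProrepresentable : ¬ IsProrepresentable (defFunctor (Λ := k)
    (AlgebraicGeometry.Spec (CommRingCat.of (B₀ k)))
    (AlgebraicGeometry.Spec.map (CommRingCat.ofHom (algebraMap k (B₀ k))))) := by
  rintro ⟨P⟩
  let t : T3 k := AdjoinRoot.root _
  let a : artSq k := (⟨(t, t), (mem_sq k (t, t)).mpr (by simp)⟩ : sq k)
  let b : artSq k := (⟨(t, t + t ^ 2), (mem_sq k _).mpr (by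
    show t - (t + t ^ 2) ∈ _
    rw [sub_add_cancel_left]
    exact neg_mem (Ideal.subset_span rfl))⟩ : sq k)
  have ha : (artSq k).res a = 0 := res3_root k
  have hb : (artSq k).res b = 0 := res3_root k
  obtain ⟨φ, hφ⟩ := (P.universal (artSq k)).2 (cl a ha)
  obtain ⟨ψ, hψ⟩ := (P.universal (artSq k)).2 (cl b hb)
  have hproj : ∀ {C : Art k k} (μ : artSq k ⟶ C) (hμ : Function.Surjective μ),
      cl (μ a) ((Art.res_app μ a).trans ha) = cl (μ b) ((Art.res_app μ b).trans hb) →
      HomSet.map μ φ = HomSet.map μ ψ := by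
    intro C μ hμ h
    apply (P.universal C).1
    rw [P.family.natural, P.family.natural, hφ, hψ, map_cl μ hμ a ha, map_cl μ hμ b hb, h]
  have hu : IsUnit ((1 : T3 k) + t) := IsNilpotent.isUnit_one_add ⟨3, t_pow_three k⟩
  have h1 := hproj (p₁ k) (p₁_surjective k) rfl
  have h2 := hproj (p₂ k) (p₂_surjective k) (cl_eq_of_eq_mul (D := art3 k) _ _ _ _ hu.unit
    (by show res3 k (1 + t) = 1; rw [map_add, map_one, res3_root, add_zero]) (by
      show t + t ^ 2 = (1 + t) * t
      ring))
  have heq : φ = ψ := Subtype.ext (AlgHom.ext fun x => Subtype.ext (Prod.ext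
    (congrArg (fun z : HomSet P.ring.carrier P.ring.res (art3 k) => z.1 x) h1)
    (congrArg (fun z : HomSet P.ring.carrier P.ring.res (art3 k) => z.1 x) h2)))
  have hmem := mem_span_of_cl_eq a b ha hb (by rw [← hφ, ← hψ, heq])
  obtain ⟨⟨⟨u, v⟩, huv⟩, he⟩ := Ideal.mem_span_singleton'.mp hmem
  have e1 : u * t = t := congrArg (fun z : sq k => z.1.1) he
  have e2 : v * (t + t ^ 2) = t := congrArg (fun z : sq k => z.1.2) he
  obtain ⟨c, hc⟩ := Ideal.mem_span_singleton'.mp ((mem_sq k _).mp huv)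
  have e3 : v * t = t := by
    linear_combination e1 + t * hc - c * t_pow_three k
  apply t_pow_two_ne_zero k
  linear_combination e2 - e3 - t * e3

end Groth.L14.DefLift.Node
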