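import Groth.Agent.L14.DefLift.RigidTriv
import Groth.Agent.L14.DefLift.SmoothT1
import Groth.Agent.L14.DefLift.NodeObj
import Groth.Agent.L12.CotTVanish
import Mathlib.RingTheory.HopkinsLevitzki
import Mathlib.RingTheory.Jacobson.Ring
import Mathlib.FieldTheory.IsAlgClosed.Basic

/-! # A rigid singularity cannot be smoothed -/

set_option autoImplicit false
set_option linter.style.haveILetI false
set_option backward.isDefEq.respectTransparency false

universe u

open TensorProduct MvPolynomial ArtFun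

namespace Groth.L14.DefLift

/-- The coefficientwise application of a linear form. -/
noncomputable def coeffMap {k A ι : Type u} [Field k] [CommRing A] [Algebra k A] (l : A →ₗ[k] k) :
    MvPolynomial ι A →ₗ[k] MvPolynomial ι k :=
  (MvPolynomial.basisMonomials ι k).repr.symm.toLinearMap ∘ₗ Finsupp.mapRange.linearMap l ∘ₗ
    { toFun := fun p => AddMonoidAlgebra.coeff p
      map_add' := fun _ _ => rfl
      map_smul' := fun _ _ => rfl }

theorem coeff_coeffMap {k A ι : Type u} [Field k] [CommRing A] [Algebra k A] (l : A →ₗ[k] k) (p : MvPolynomial ι A)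
    (d : ι →₀ ℕ) : coeff d (coeffMap l p) = l (coeff d p) := rfl

theorem coeffMap_inc_mul {k A ι : Type u} [Field k] [CommRing A] [Algebra k A] (l : A →ₗ[k] k)
    (f : MvPolynomial ι k) (p : MvPolynomial ι A) :
    coeffMap l (MvPolynomial.map (algebraMap k A) f * p) = f * coeffMap l p := by
  classical
  refine MvPolynomial.ext _ _ fun d => ?_
  rw [coeff_coeffMap, coeff_mul, coeff_mul, map_sum]
  refine Finset.sum_congr rfl fun e _ => ?_
  rw [coeff_map, ← Algebra.smul_def, map_smul, smul_eq_mul, coeff_coeffMap]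

theorem coeffMap_mem {k A ι : Type u} [Field k] [CommRing A] [Algebra k A] (l : A →ₗ[k] k)
    (J : Ideal (MvPolynomial ι k)) {p : MvPolynomial ι A} (hp : p ∈ J.map (MvPolynomial.map (algebraMap k A))) :
    coeffMap l p ∈ J := by
  suffices h : ∀ w, coeffMap l (w * p) ∈ J by simpa using h 1
  induction hp using Submodule.span_induction with
  | mem z hz =>
    obtain ⟨f, hf, rfl⟩ := hz
    intro w
    rw [mul_comm, coeffMap_inc_mul]
    exact J.mul_mem_right _ hf
  | zero => intro w; rw [mul_zero, map_zero]; exact zero_mem _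
  | add y z _ _ hy hz => intro w; rw [mul_add, map_add]; exact add_mem (hy w) (hz w)
  | smul c z _ hz => intro w; rw [smul_eq_mul, ← mul_assoc]; exact hz _

section Split

variable {k B₀ A B : Type u} [CommRing k] [CommRing B₀] [Algebra k B₀] [CommRing A] [Algebra k A] [CommRing B]
  [Algebra A B] (E₀ : Algebra.Extension.{u} k B₀) (E : Algebra.Extension.{u} A B)

/-- The key computation: smoothness away from `t` and a constant family modulo `t^(n+1)` split the conormal sequence. -/
theorem exists_split {t : A} (n : ℕ) (r : E.CotangentSpace →ₗ[B] E.Cotangent)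
    (hr : ∀ z, r (E.cotangentComplex z) = (algebraMap A B t) ^ n • z)
    {Rn : Type u} [CommRing Rn] (Φ : E.Ring →+* Rn) (inc : E₀.Ring →+* Rn) (sub : E₀.Ring →+* E.Ring)
    (Θ : Rn →+ E₀.Ring) (hΘ : ∀ f z, Θ (inc f * z) = f * Θ z)
    (hΘK : ∀ (J : Ideal E₀.Ring), ∀ z ∈ J.map inc, Θ z ∈ J)
    (hΘn : Θ (Φ (algebraMap A E.Ring (t ^ n))) = 1)
    (hT : Φ (algebraMap A E.Ring (t ^ (n + 1))) = 0)
    (hΦI : ∀ a ∈ E.ker, Φ a ∈ E₀.ker.map inc)
    (hdiff : ∀ f, Φ (sub f) - inc f ∈ E₀.ker.map inc)
    (hsubc : ∀ c, sub (algebraMap k E₀.Ring c) = algebraMap A E.Ring (algebraMap k A c))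
    (hincc : ∀ c, inc (algebraMap k E₀.Ring c) = Φ (algebraMap A E.Ring (algebraMap k A c)))
    (hlift : ∀ f ∈ E₀.ker, ∃ c, sub f - algebraMap A E.Ring (t ^ (n + 1)) * c ∈ E.ker) :
    ∃ L : E₀.CotangentSpace →ₗ[B₀] E₀.Cotangent, L ∘ₗ E₀.cotangentComplex = LinearMap.id := by
  let K : Ideal Rn := E₀.ker.map inc
  let T : Rn := Φ (algebraMap A E.Ring (t ^ n))
  let θ : K →+ E₀.Cotangent := AddMonoidHom.mk'
    (fun z => Algebra.Extension.Cotangent.mk ⟨Θ z.1, hΘK E₀.ker z.1 z.2⟩) fun z w => by
      rw [← map_add]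
      exact congrArg Algebra.Extension.Cotangent.mk (Subtype.ext (map_add Θ z.1 w.1))
  have hθmul : ∀ (f : E₀.Ring) (z : K), θ ⟨inc f * z.1, K.mul_mem_left _ z.2⟩ = f • θ z := fun f z => by
    show Algebra.Extension.Cotangent.mk _ = f • Algebra.Extension.Cotangent.mk _
    rw [← map_smul]
    exact congrArg Algebra.Extension.Cotangent.mk (Subtype.ext (hΘ f z.1))
  have hθsq : ∀ z : K, (z : Rn) ∈ K * K → θ z = 0 := fun z hz => by
    show Algebra.Extension.Cotangent.mk _ = 0
    rw [Algebra.Extension.Cotangent.mk_eq_zero_iff]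
    refine hΘK _ _ ?_
    rw [pow_two, Ideal.map_mul]
    exact hz
  let ψ : E.ker →+ E₀.Cotangent := AddMonoidHom.mk' (fun a => θ ⟨Φ a.1, hΦI a.1 a.2⟩) fun a c => by
    rw [← map_add]
    exact congrArg θ (Subtype.ext (map_add Φ a.1 c.1))
  have hsurj' := Algebra.Extension.Cotangent.mk_surjective (P := E)
  choose sec hsec using hsurj'
  have hval : ∀ a, ψ (sec (Algebra.Extension.Cotangent.mk a)) = ψ a := fun a => by
    rw [← sub_eq_zero, ← map_sub]
    refine hθsq _ ?_
    have h1 : ((sec (Algebra.Extension.Cotangent.mk a) - a : E.ker) : E.Ring) ∈ E.ker ^ 2 :=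
      (Algebra.Extension.Cotangent.mk_eq_zero_iff _).mp (by rw [map_sub, hsec, sub_self])
    rw [pow_two] at h1
    have h2 : (E.ker * E.ker).map Φ ≤ K * K := by
      rw [Ideal.map_mul]
      exact Ideal.mul_mono (Ideal.map_le_iff_le_comap.2 fun z hz => hΦI z hz)
        (Ideal.map_le_iff_le_comap.2 fun z hz => hΦI z hz)
    exact h2 (Ideal.mem_map_of_mem Φ h1)
  let Ψ : E.Cotangent →+ E₀.Cotangent :=
    AddMonoidHom.mk' (fun z => ψ (sec z)) fun z w => by
      obtain ⟨z, rfl⟩ := Algebra.Extension.Cotangent.mk_surjective z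
      obtain ⟨w, rfl⟩ := Algebra.Extension.Cotangent.mk_surjective w
      rw [← map_add, hval, hval, hval, map_add]
  have hΨmul : ∀ (f : E₀.Ring) z, Ψ (sub f • z) = f • Ψ z := fun f z => by
    obtain ⟨z, rfl⟩ := Algebra.Extension.Cotangent.mk_surjective z
    rw [← map_smul]
    show ψ (sec _) = f • ψ (sec _)
    rw [hval, hval]
    show θ _ = f • θ _
    rw [← hθmul, ← sub_eq_zero, ← map_sub]
    refine hθsq _ ?_
    show Φ (sub f * z.1) - inc f * Φ z.1 ∈ K * K
    rw [map_mul, ← sub_mul]
    exact Ideal.mul_mem_mul (hdiff f) (hΦI z.1 z.2)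
  have hΨt : ∀ z, Ψ (algebraMap A E.Ring (t ^ (n + 1)) • z) = 0 := fun z => by
    obtain ⟨z, rfl⟩ := Algebra.Extension.Cotangent.mk_surjective z
    rw [← map_smul]
    show ψ (sec _) = 0
    rw [hval]
    refine (congrArg θ (Subtype.ext ?_)).trans (map_zero θ)
    show Φ (algebraMap A E.Ring (t ^ (n + 1)) * z.1) = 0
    rw [map_mul, hT, zero_mul]
  let w : E₀.Ring → E.Cotangent := fun f => r (1 ⊗ₜ KaehlerDifferential.D A E.Ring (sub f))
  have hwmul : ∀ f g, w (f * g) = sub f • w g + sub g • w f := fun f g => by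
    show r _ = sub f • r _ + sub g • r _
    rw [map_mul, Derivation.leibniz, TensorProduct.tmul_add, map_add, TensorProduct.tmul_smul, TensorProduct.tmul_smul,
      LinearMap.map_smul_of_tower, LinearMap.map_smul_of_tower]
  let μ : E₀.Ring → E₀.Cotangent := fun f => θ ⟨T * (Φ (sub f) - inc f), K.mul_mem_left _ (hdiff f)⟩
  have hμadd : ∀ f g, μ (f + g) = μ f + μ g := fun f g => by
    show θ _ = θ _ + θ _
    rw [← map_add]
    exact congrArg θ (Subtype.ext (by
      show T * (Φ (sub (f + g)) - inc (f + g)) = T * (Φ (sub f) - inc f) + T * (Φ (sub g) - inc g)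
      simp only [map_add]; ring))
  have hμmul : ∀ f g, μ (f * g) = f • μ g + g • μ f := fun f g => by
    show θ _ = f • θ _ + g • θ _
    rw [← hθmul, ← hθmul, ← map_add, ← sub_eq_zero, ← map_sub]
    refine hθsq _ ?_
    show T * (Φ (sub (f * g)) - inc (f * g)) -
      (inc f * (T * (Φ (sub g) - inc g)) + inc g * (T * (Φ (sub f) - inc f))) ∈ K * K
    rw [show T * (Φ (sub (f * g)) - inc (f * g)) -
      (inc f * (T * (Φ (sub g) - inc g)) + inc g * (T * (Φ (sub f) - inc f))) =
      T * (Φ (sub f) - inc f) * (Φ (sub g) - inc g) by simp only [map_mul]; ring]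
    exact Ideal.mul_mem_mul (K.mul_mem_left _ (hdiff f)) (hdiff g)
  let dl : E₀.Ring →ₗ[k] E₀.Cotangent :=
    { toFun := fun f => Ψ (w f) - μ f
      map_add' := fun f g => by
        have h : w (f + g) = w f + w g := by
          show r _ = r _ + r _
          rw [map_add, map_add, TensorProduct.tmul_add, map_add]
        rw [h, map_add, hμadd]
        abel
      map_smul' := fun c f => by
        have h0 : Ψ (w (algebraMap k E₀.Ring c)) - μ (algebraMap k E₀.Ring c) = 0 := by
          have h1 : w (algebraMap k E₀.Ring c) = 0 := by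
            show r _ = 0
            rw [hsubc, Derivation.map_algebraMap, TensorProduct.tmul_zero, map_zero]
          rw [h1, map_zero, zero_sub, neg_eq_zero]
          refine (congrArg θ (Subtype.ext ?_)).trans (map_zero θ)
          show T * (Φ (sub (algebraMap k E₀.Ring c)) - inc (algebraMap k E₀.Ring c)) = 0
          rw [hincc, hsubc, sub_self, mul_zero]
        rw [RingHom.id_apply, Algebra.smul_def, hwmul, hμmul, map_add, hΨmul, hΨmul,
          ← algebraMap_smul E₀.Ring c (Ψ (w f) - μ f)]
        calc _ = algebraMap k E₀.Ring c • (Ψ (w f) - μ f) +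
              f • (Ψ (w (algebraMap k E₀.Ring c)) - μ (algebraMap k E₀.Ring c)) := by
              rw [smul_sub, smul_sub]; abel
          _ = _ := by rw [h0, smul_zero, add_zero] }
  let δ : Derivation k E₀.Ring E₀.Cotangent := Derivation.mk' dl fun f g => by
    show Ψ (w (f * g)) - μ (f * g) = f • (Ψ (w g) - μ g) + g • (Ψ (w f) - μ f)
    rw [hwmul, hμmul, map_add, hΨmul, hΨmul, smul_sub, smul_sub]
    abel
  refine ⟨LinearMap.liftBaseChange B₀ δ.liftKaehlerDifferential, LinearMap.ext fun z => ?_⟩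
  obtain ⟨⟨f, hf⟩, rfl⟩ := Algebra.Extension.Cotangent.mk_surjective z
  rw [LinearMap.comp_apply, Algebra.Extension.cotangentComplex_mk, LinearMap.id_apply, LinearMap.liftBaseChange_tmul,
    one_smul, Derivation.liftKaehlerDifferential_comp_D]
  show Ψ (w f) - μ f = _
  obtain ⟨c, hc⟩ := hlift f hf
  have h5 := hr (Algebra.Extension.Cotangent.mk ⟨_, hc⟩)
  rw [Algebra.Extension.cotangentComplex_mk] at h5
  have h6 : Ψ (r (1 ⊗ₜ KaehlerDifferential.D A E.Ring (sub f - algebraMap A E.Ring (t ^ (n + 1)) * c))) = Ψ (w f) := by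
    rw [map_sub, ← Algebra.smul_def, Derivation.map_smul, TensorProduct.tmul_sub, map_sub, map_sub,
      ← algebraMap_smul E.Ring (t ^ (n + 1)), TensorProduct.tmul_smul, LinearMap.map_smul_of_tower, hΨt, sub_zero]
  have hinc : inc f ∈ K := Ideal.mem_map_of_mem inc hf
  have h7 : Ψ ((algebraMap A B t) ^ n • Algebra.Extension.Cotangent.mk ⟨_, hc⟩) =
      Algebra.Extension.Cotangent.mk ⟨f, hf⟩ + μ f := by
    rw [← map_pow, IsScalarTower.algebraMap_apply A E.Ring B, algebraMap_smul, ← map_smul]
    show ψ (sec _) = _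
    rw [hval]
    have e1 : Algebra.Extension.Cotangent.mk ⟨f, hf⟩ = θ ⟨T * inc f, K.mul_mem_left _ hinc⟩ :=
      congrArg Algebra.Extension.Cotangent.mk (Subtype.ext (by
        show f = Θ (T * inc f)
        rw [mul_comm, hΘ, hΘn, mul_one]))
    rw [e1]
    show θ _ = θ _ + θ _
    rw [← map_add]
    refine congrArg θ (Subtype.ext ?_)
    show Φ (algebraMap A E.Ring (t ^ n) * (sub f - algebraMap A E.Ring (t ^ (n + 1)) * c)) =
      T * inc f + T * (Φ (sub f) - inc f)
    simp only [map_mul, map_sub, hT, zero_mul, sub_zero]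
    ring
  rw [← h6, h5, h7, add_sub_cancel_right]

end Split

end Groth.L14.DefLift

namespace Groth.L14.DefLift

variable {k : Type u} [Field k] [IsAlgClosed k]

/-- A rigid algebra has no smoothing. -/
theorem exists_not_smooth {B₀ : Type u} [CommRing B₀] [Algebra k B₀] [Algebra.FiniteType k B₀]
    (hsing : ¬ Algebra.Smooth k B₀) (hrigid : Subsingleton (CotT.T1 (CotT.canon k B₀) B₀))
    {A B : Type u} [CommRing A] [CommRing B] [IsDomain A] [Algebra k A] [Algebra.FiniteType k A]
    (hdim : ringKrullDim A = 1) (t : A) (ht : (Ideal.span {t}).IsMaximal)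
    [Algebra A B] [Algebra.FiniteType A B] [Module.Flat A B] [Algebra k B] [IsScalarTower k A B]
    (e : (B ⧸ Ideal.span {algebraMap A B t}) ≃ₐ[k] B₀) :
    ∃ q : PrimeSpectrum B, algebraMap A B t ∉ q.asIdeal ∧ q ∉ Algebra.smoothLocus A B := by
  classical
  by_contra hcon
  simp only [not_exists, not_and, not_not] at hcon
  haveI : IsNoetherianRing A := Algebra.FiniteType.isNoetherianRing k A
  haveI : Algebra.FinitePresentation k B₀ := Algebra.FinitePresentation.of_finiteType.mp inferInstance
  obtain ⟨m, g, hg⟩ := Algebra.FiniteType.iff_quotient_mvPolynomial''.mp (inferInstance : Algebra.FiniteType A B)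
  let G : Algebra.Generators A B (Fin m) := Algebra.Generators.ofSurjective (fun i => g (X i)) (by
    convert hg
    exact MvPolynomial.algHom_ext fun i => by simp)
  obtain ⟨n, r, hr⟩ := exists_retract_of_smooth G (algebraMap A B t) hcon
  have ht0 : t ≠ 0 := by
    rintro rfl
    rw [Set.singleton_zero, Ideal.span_zero] at ht
    have hF : IsField A := by
      by_contra hF
      exact Ring.not_isField_iff_exists_prime.mp hF |>.elim fun p ⟨hp, hp'⟩ =>
        hp (ht.eq_of_le hp'.ne_top bot_le).symm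
    rw [ringKrullDim_eq_zero_of_isField hF] at hdim
    exact zero_ne_one hdim
  have htu : ¬ IsUnit t := fun h => ht.ne_top (Ideal.span_singleton_eq_top.mpr h)
  -- the residue map
  haveI := ht
  letI : Field (A ⧸ Ideal.span {t}) := Ideal.Quotient.field _
  haveI : Algebra.FiniteType k (A ⧸ Ideal.span {t}) :=
    Algebra.FiniteType.of_surjective (Ideal.Quotient.mkₐ k (Ideal.span {t})) Ideal.Quotient.mk_surjective
  haveI : Module.Finite k (A ⧸ Ideal.span {t}) := finite_of_finite_type_of_isJacobsonRing k _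
  let ek : k ≃ₐ[k] A ⧸ Ideal.span {t} :=
    AlgEquiv.ofBijective (Algebra.ofId k _) IsAlgClosed.algebraMap_bijective_of_isIntegral
  let It : Ideal A := Ideal.span {t ^ (n + 1)}
  let res : (A ⧸ It) →ₐ[k] k := (ek.symm.toAlgHom).comp
    (Ideal.Quotient.factorₐ k (show It ≤ Ideal.span {t} from
      Ideal.span_singleton_le_span_singleton.mpr (dvd_pow_self t (Nat.succ_ne_zero n))))
  have hrest : ∀ a : A, res (Ideal.Quotient.mk It a) = 0 ↔ a ∈ Ideal.span {t} := fun a => by
    show ek.symm (Ideal.Quotient.mk (Ideal.span {t}) a) = 0 ↔ _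
    rw [map_eq_zero_iff _ ek.symm.injective, Ideal.Quotient.eq_zero_iff_mem]
  have hnil : ∀ a, res a = 0 → IsNilpotent a := by
    intro a ha
    obtain ⟨a, rfl⟩ := Ideal.Quotient.mk_surjective a
    obtain ⟨c, rfl⟩ := Ideal.mem_span_singleton'.mp ((hrest a).mp ha)
    refine ⟨n + 1, ?_⟩
    rw [← map_pow, Ideal.Quotient.eq_zero_iff_mem, mul_pow]
    exact Ideal.mul_mem_left _ _ (Ideal.subset_span rfl)
  haveI : IsLocalRing (A ⧸ It) := Node.isLocalRing_of_aug k res hnil
  haveI : IsArtinianRing (A ⧸ It) := by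
    rw [isArtinianRing_iff_isNilpotent_maximalIdeal, Ideal.FG.isNilpotent_iff_le_nilradical (IsNoetherian.noetherian _)]
    intro a ha
    refine mem_nilradical.mpr (hnil a ?_)
    by_contra h0
    have h1 : IsNilpotent (a - algebraMap k _ (res a)) := hnil _ (by simp)
    have h2 : IsUnit a := by
      simpa using h1.isUnit_add_left_of_commute ((IsUnit.mk0 _ h0).map (algebraMap k (A ⧸ It))) (Commute.all _ _)
    exact (IsLocalRing.mem_maximalIdeal a).mp ha h2
  let AO : Art k k := Art.of (A ⧸ It) res fun c => ⟨algebraMap k _ c, res.commutes c⟩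
  -- the family modulo `t^(n+1)`
  let JB : Ideal B := It.map (algebraMap A B)
  haveI hflat : Module.Flat (A ⧸ It) (B ⧸ JB) := by
    let eT : (A ⧸ It) ⊗[A] B ≃ₗ[A] B ⧸ JB := TensorProduct.quotTensorEquivQuotSMul B It ≪≫ₗ
      Submodule.quotEquivOfEq _ (JB.restrictScalars A) (Ideal.smul_top_eq_map It)
    exact Module.Flat.of_linearEquiv (eT.extendScalarsOfSurjective (S := A ⧸ It) Ideal.Quotient.mk_surjective).symm
  have hle : JB ≤ Ideal.span {algebraMap A B t} := by
    show (Ideal.span {t ^ (n + 1)}).map (algebraMap A B) ≤ _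
    rw [Ideal.map_span, Set.image_singleton, map_pow]
    exact Ideal.span_singleton_le_span_singleton.mpr (dvd_pow_self _ (by omega))
  let β : B ⧸ JB →+* B₀ := e.toRingEquiv.toRingHom.comp (Ideal.Quotient.factor hle)
  have hβ : ∀ b, β (Ideal.Quotient.mk JB b) = e (Ideal.Quotient.mk _ b) := fun b => rfl
  let D : Defo B₀ AO AO.res.toRingHom :=
    { B := B ⧸ JB
      alg := (Ideal.Quotient.algebraQuotientMapQuotient : Algebra (A ⧸ It) (B ⧸ It.map (algebraMap A B)))
      flat := hflat
      β := β
      surj := e.surjective.comp (Ideal.Quotient.factor_surjective hle)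
      comm := fun a => by
        obtain ⟨a, rfl⟩ := Ideal.Quotient.mk_surjective a
        show β (Ideal.Quotient.mk JB (algebraMap A B a)) = algebraMap k B₀ (res (Ideal.Quotient.mk It a))
        rw [hβ, ← AlgEquiv.commutes e, IsScalarTower.algebraMap_apply k B (B ⧸ Ideal.span {algebraMap A B t}),
          IsScalarTower.algebraMap_apply k A B, Ideal.Quotient.algebraMap_eq]
        congr 1
        rw [Ideal.Quotient.mk_eq_mk_iff_sub_mem, ← map_sub]
        obtain ⟨c, hc⟩ := Ideal.mem_span_singleton'.mp ((hrest (a - algebraMap k A (res (Ideal.Quotient.mk It a)))).mp (by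
          rw [map_sub, map_sub, show Ideal.Quotient.mk It (algebraMap k A (res (Ideal.Quotient.mk It a))) =
            algebraMap k (A ⧸ It) (res (Ideal.Quotient.mk It a)) from rfl, res.commutes]
          exact sub_self _))
        exact Ideal.mem_span_singleton'.mpr ⟨algebraMap A B c, by rw [← map_mul, hc]⟩
      ker_eq := by
        refine le_antisymm (fun b hb => ?_) (Ideal.map_le_iff_le_comap.2 fun a ha => ?_)
        · obtain ⟨b, rfl⟩ := Ideal.Quotient.mk_surjective b
          rw [RingHom.mem_ker, hβ, map_eq_zero_iff _ e.injective, Ideal.Quotient.eq_zero_iff_mem,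
            Ideal.mem_span_singleton'] at hb
          obtain ⟨c, rfl⟩ := hb
          rw [map_mul]
          refine Ideal.mul_mem_left _ _ ?_
          exact Ideal.mem_map_of_mem _ (show Ideal.Quotient.mk It t ∈ RingHom.ker AO.res.toRingHom from
            (hrest t).mpr (Ideal.subset_span rfl))
        · obtain ⟨a, rfl⟩ := Ideal.Quotient.mk_surjective a
          show β (Ideal.Quotient.mk JB (algebraMap A B a)) = 0
          obtain ⟨c, rfl⟩ := Ideal.mem_span_singleton'.mp ((hrest a).mp ha)
          rw [hβ, map_mul, Ideal.Quotient.eq_zero_iff_mem.mpr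
            (Ideal.mul_mem_left _ _ (Ideal.mem_span_singleton_self (algebraMap A B t))),
            map_zero] }
  let P₀ := CotT.canon k B₀
  obtain ⟨x, hx, hv, hsurj, hker⟩ := exists_const_presentation P₀ D hrigid
  -- the maps
  let qA : A →+* A ⧸ It := Ideal.Quotient.mk It
  let qB : B →+* D.B := Ideal.Quotient.mk JB
  have hqc : ∀ a, qB (algebraMap A B a) = @algebraMap AO D.B _ _ D.alg (qA a) := fun a => rfl
  have hqn : qA (t ^ n) ≠ 0 := fun h => by
    obtain ⟨c, hc⟩ := Ideal.mem_span_singleton'.mp (Ideal.Quotient.eq_zero_iff_mem.mp h)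
    refine htu (IsUnit.of_mul_eq_one c (mul_left_cancel₀ (pow_ne_zero n ht0) ?_))
    rw [mul_one]
    linear_combination hc
  obtain ⟨l, hl⟩ : ∃ l : (A ⧸ It) →ₗ[k] k, l (qA (t ^ n)) = 1 := by
    obtain ⟨g, hg⟩ := (LinearMap.toSpanSingleton k (A ⧸ It) (qA (t ^ n))).exists_leftInverse_of_injective
      (LinearMap.ker_eq_bot.mpr (smul_left_injective k hqn))
    exact ⟨g, by simpa using LinearMap.congr_fun hg 1⟩
  choose pre hpre using fun j => hsurj (qB (G.val j))
  let Φ : MvPolynomial (Fin m) A →+* MvPolynomial B₀ (A ⧸ It) := eval₂Hom (C.comp qA) pre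
  have hΦ : ∀ a, MvPolynomial.aeval x (Φ a) = qB (MvPolynomial.aeval G.val a) := by
    intro a
    refine RingHom.congr_fun (f := (MvPolynomial.aeval x).toRingHom.comp Φ)
      (g := qB.comp (MvPolynomial.aeval G.val).toRingHom) (MvPolynomial.ringHom_ext (fun c => ?_) fun j => ?_) a
    · show MvPolynomial.aeval x (Φ (C c)) = qB (MvPolynomial.aeval G.val (C c))
      rw [show Φ (C c) = C (qA c) from eval₂Hom_C _ _ _, MvPolynomial.aeval_C, MvPolynomial.aeval_C]
      exact (hqc c).symm
    · show MvPolynomial.aeval x (Φ (X j)) = qB (MvPolynomial.aeval G.val (X j))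
      rw [show Φ (X j) = pre j from eval₂Hom_X' _ _ _, MvPolynomial.aeval_X]
      exact hpre j
  choose b hb using fun i : B₀ => Ideal.Quotient.mk_surjective (x i)
  choose p hp using fun i : B₀ => G.aeval_val_surjective (b i)
  let sub : MvPolynomial B₀ k →+* MvPolynomial (Fin m) A := eval₂Hom (C.comp (algebraMap k A)) p
  let inc : MvPolynomial B₀ k →+* MvPolynomial B₀ (A ⧸ It) := MvPolynomial.map (algebraMap k (A ⧸ It))
  have hsub : ∀ f, qB (MvPolynomial.aeval G.val (sub f)) = MvPolynomial.aeval x (inc f) := by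
    intro f
    refine RingHom.congr_fun (f := (qB.comp (MvPolynomial.aeval G.val).toRingHom).comp sub)
      (g := (MvPolynomial.aeval x).toRingHom.comp inc) (MvPolynomial.ringHom_ext (fun c => ?_) fun i => ?_) f
    · show qB (MvPolynomial.aeval G.val (sub (C c))) = MvPolynomial.aeval x (inc (C c))
      rw [show sub (C c) = C (algebraMap k A c) from eval₂Hom_C _ _ _, show inc (C c) = C (qA (algebraMap k A c)) from
        MvPolynomial.map_C _ _, MvPolynomial.aeval_C, MvPolynomial.aeval_C]
      exact hqc _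
    · show qB (MvPolynomial.aeval G.val (sub (X i))) = MvPolynomial.aeval x (inc (X i))
      rw [show sub (X i) = p i from eval₂Hom_X' _ _ _, show inc (X i) = X i from MvPolynomial.map_X _ _,
        MvPolynomial.aeval_X, hp]
      exact hb i
  have hK : ∀ z, MvPolynomial.aeval x z = 0 → z ∈ P₀.toExtension.ker.map inc := fun z hz => by
    have h1 : z ∈ (RingHom.ker (MvPolynomial.aeval P₀.val)).map inc := by
      show z ∈ (RingHom.ker (MvPolynomial.aeval P₀.val)).map (MvPolynomial.map (algebraMap k AO))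
      rw [← hker]
      exact hz
    exact Ideal.map_mono (fun f hf => (CotT.algebraMap_toExtension P₀ f).trans hf) h1
  have hT : Φ (C (t ^ (n + 1))) = 0 := by
    rw [show Φ (C (t ^ (n + 1))) = C (qA (t ^ (n + 1))) from eval₂Hom_C _ _ _,
      show qA (t ^ (n + 1)) = 0 from Ideal.Quotient.eq_zero_iff_mem.mpr (Ideal.subset_span rfl), C_0]
  obtain ⟨L, hL⟩ := exists_split P₀.toExtension G.toExtension (t := t) n r hr Φ inc sub (coeffMap l).toAddMonoidHom
    (fun f z => coeffMap_inc_mul l f z) (fun J z hz => coeffMap_mem l J hz)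
    (by
      show coeffMap l (Φ (C (t ^ n))) = 1
      rw [show Φ (C (t ^ n)) = C (qA (t ^ n)) from eval₂Hom_C _ _ _]
      refine MvPolynomial.ext _ _ fun d => ?_
      rw [coeff_coeffMap, coeff_C, coeff_one]
      split_ifs
      · exact hl
      · exact map_zero l)
    hT
    (fun a ha => hK _ ((hΦ a).trans ((congrArg qB ((G.algebraMap_apply _).symm.trans ha)).trans (map_zero qB))))
    (fun f => hK _ ((map_sub _ _ _).trans (sub_eq_zero.mpr ((hΦ (sub f)).trans (hsub f)))))
    (fun c => eval₂Hom_C _ _ _)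
    (fun c => by
      show inc (C c) = Φ (C (algebraMap k A c))
      rw [show Φ (C (algebraMap k A c)) = C (qA (algebraMap k A c)) from eval₂Hom_C _ _ _]
      exact MvPolynomial.map_C _ _)
    (fun f hf => by
      have h1 : qB (MvPolynomial.aeval G.val (sub f)) = 0 := by
        rw [hsub]
        exact (MvPolynomial.eval₂_map _ _ _ _).trans (hv f ((CotT.algebraMap_toExtension P₀ f).symm.trans hf))
      have h2 : MvPolynomial.aeval G.val (sub f) ∈ JB := Ideal.Quotient.eq_zero_iff_mem.mp h1
      rw [show JB = Ideal.span {algebraMap A B (t ^ (n + 1))} from by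
        show (Ideal.span {t ^ (n + 1)}).map _ = _
        rw [Ideal.map_span, Set.image_singleton], Ideal.mem_span_singleton'] at h2
      obtain ⟨c, hc⟩ := h2
      obtain ⟨c', rfl⟩ := G.aeval_val_surjective c
      refine ⟨c', (map_sub (algebraMap G.toExtension.Ring B) _ _).trans ((congrArg₂ (· - ·)
        (G.algebraMap_apply (sub f)) ((map_mul _ _ _).trans (congrArg₂ (· * ·)
          (IsScalarTower.algebraMap_apply A _ B _).symm (G.algebraMap_apply c')))).trans ?_)⟩
      exact sub_eq_zero.mpr (hc.symm.trans (mul_comm _ _)))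
  haveI := Groth.L12.CotTLib.formallySmooth_ring P₀
  have hfs : Algebra.FormallySmooth k B₀ := by
    rw [P₀.toExtension.formallySmooth_iff_split_injection]
    exact ⟨L, hL⟩
  exact hsing ⟨hfs, inferInstance⟩

end Groth.L14.DefLift
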