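import Groth.Agent.L14.DefLift.ToSch
import Mathlib.RingTheory.AdjoinRoot
import Mathlib.RingTheory.DualNumber
import Mathlib.RingTheory.TwoSidedIdeal.Operations

/-! # The deformation functor of the node is not prorepresentable -/

set_option autoImplicit false
set_option linter.style.haveILetI false

universe u

open MvPolynomial

namespace Groth.L14.DefLift.Node

/-- The node. -/
abbrev B₀ (k : Type u) [Field k] : Type u :=
  MvPolynomial (Fin 2) k ⧸ Ideal.span {(X 0 * X 1 : MvPolynomial (Fin 2) k)}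

variable {A : Type u} [CommRing A] (a : A)

noncomputable def g : MvPolynomial (Fin 2) A := X 0 * X 1 - C a

abbrev B : Type u := MvPolynomial (Fin 2) A ⧸ Ideal.span {g a}

noncomputable def T : MvPolynomial (Fin 2) A →ₗ[A] (ℤ →₀ A) :=
  (MvPolynomial.basisMonomials (Fin 2) A).constr A fun d =>
    Finsupp.single ((d 0 : ℤ) - (d 1 : ℤ)) (a ^ min (d 0) (d 1))

theorem T_monomial (d : Fin 2 →₀ ℕ) (c : A) :
    T a (monomial d c) = Finsupp.single ((d 0 : ℤ) - (d 1 : ℤ)) (c * a ^ min (d 0) (d 1)) := by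
  have h : monomial d c = c • MvPolynomial.basisMonomials (Fin 2) A d := by
    rw [coe_basisMonomials, smul_monomial, smul_eq_mul, mul_one]
  rw [h, map_smul, T, Module.Basis.constr_basis, Finsupp.smul_single, smul_eq_mul]

theorem T_mul_g (z : MvPolynomial (Fin 2) A) : T a (z * g a) = 0 := by
  induction z using MvPolynomial.induction_on' with
  | monomial d c =>
    rw [g, mul_sub, map_sub, sub_eq_zero, X, X, C_apply, monomial_mul, monomial_mul, monomial_mul, T_monomial,
      T_monomial]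
    congr 1
    · simp [Finsupp.single_apply]
    · simp [Finsupp.single_apply, Nat.add_comm (d 0), Nat.add_comm (d 1), Nat.add_min_add_left, pow_add]
      ring
  | add p q hp hq => rw [add_mul, map_add, hp, hq, add_zero]

noncomputable def S : (ℤ →₀ A) →ₗ[A] B a :=
  Finsupp.linearCombination A fun n : ℤ => Ideal.Quotient.mk _ (X 0 ^ n.toNat * X 1 ^ (-n).toNat)

theorem S_T (z : MvPolynomial (Fin 2) A) : S a (T a z) = Ideal.Quotient.mk _ z := by
  induction z using MvPolynomial.induction_on' with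
  | monomial d c =>
    rw [T_monomial, S, Finsupp.linearCombination_single]
    refine (Algebra.smul_def (R := A) (A := B a) _ _).trans ?_
    have hrel : Ideal.Quotient.mk (Ideal.span {g a}) (X 0 * X 1) = Ideal.Quotient.mk _ (C a) :=
      Ideal.Quotient.mk_eq_mk_iff_sub_mem _ _ |>.mpr (Ideal.subset_span rfl)
    have hmon : monomial d c = C c * (X 0 * X 1) ^ min (d 0) (d 1) *
        (X 0 ^ ((d 0 : ℤ) - d 1).toNat * X 1 ^ (-((d 0 : ℤ) - d 1)).toNat) := by
      rw [monomial_eq, Finsupp.prod_fintype _ _ (fun i => pow_zero _), Fin.prod_univ_two]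
      rcases le_total (d 0) (d 1) with h | h
      · rw [min_eq_left h, show ((d 0 : ℤ) - d 1).toNat = 0 by omega, mul_pow,
          show (-((d 0 : ℤ) - d 1)).toNat = d 1 - d 0 by omega]
        conv_lhs => rw [← Nat.sub_add_cancel h, pow_add]
        ring
      · rw [min_eq_right h, show (-((d 0 : ℤ) - d 1)).toNat = 0 by omega, mul_pow,
          show ((d 0 : ℤ) - d 1).toNat = d 0 - d 1 by omega]
        conv_lhs => rw [← Nat.sub_add_cancel h, pow_add]
        ring
    rw [map_mul] at hrel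
    rw [hmon]
    simp only [show ∀ t, algebraMap A (B a) t = Ideal.Quotient.mk (Ideal.span {g a}) (C t) from fun t => rfl,
      map_mul, map_pow, hrel]
  | add p q hp hq => rw [map_add, map_add, hp, hq, map_add]

instance : Module.Flat A (B a) := by
  let T' : B a →ₗ[A] (ℤ →₀ A) := Submodule.liftQ ((Ideal.span {g a}).restrictScalars A) (T a) (fun z hz => by
    obtain ⟨w, rfl⟩ := Ideal.mem_span_singleton'.mp hz
    exact T_mul_g a w) ∘ₗ
      (Submodule.Quotient.restrictScalarsEquiv A (Ideal.span {g a})).symm.toLinearMap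
  refine Module.Flat.of_retract T' (S a) (LinearMap.ext fun b => ?_)
  obtain ⟨z, rfl⟩ := Ideal.Quotient.mk_surjective b
  exact S_T a z

variable {k : Type u} [Field k] (ρ : A →+* k)

noncomputable def beta (ha : ρ a = 0) : B a →+* B₀ k :=
  Ideal.Quotient.lift _ ((Ideal.Quotient.mk _).comp (MvPolynomial.map ρ)) fun z hz => by
    obtain ⟨w, rfl⟩ := Ideal.mem_span_singleton'.mp hz
    refine Ideal.Quotient.eq_zero_iff_mem.mpr ?_
    rw [map_mul]
    exact Ideal.mul_mem_left _ _ (Ideal.subset_span (by simp [g, ha]))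

theorem beta_mk (ha : ρ a = 0) (z : MvPolynomial (Fin 2) A) :
    beta a ρ ha (Ideal.Quotient.mk _ z) = Ideal.Quotient.mk _ (MvPolynomial.map ρ z) := rfl

theorem comap_map_span {A' : Type u} [CommRing A'] (p : A →+* A') (hp : Function.Surjective p)
    (f : MvPolynomial (Fin 2) A) :
    (Ideal.span {MvPolynomial.map p f}).comap (MvPolynomial.map p) = Ideal.span {f} ⊔ (RingHom.ker p).map C := by
  rw [← Set.image_singleton, ← Ideal.map_span, Ideal.comap_map_of_surjective _ (MvPolynomial.map_surjective p hp),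
    ← RingHom.ker_eq_comap_bot, MvPolynomial.ker_map]

theorem ker_lift_le {A' : Type u} [CommRing A'] (p : A →+* A') (hp : Function.Surjective p)
    (f : MvPolynomial (Fin 2) A') (hf : MvPolynomial.map p (g a) = f) {q : B a →+* MvPolynomial (Fin 2) A' ⧸ Ideal.span {f}}
    (hq : ∀ z, q (Ideal.Quotient.mk _ z) = Ideal.Quotient.mk _ (MvPolynomial.map p z)) :
    RingHom.ker q = (RingHom.ker p).map (algebraMap A (B a)) := by
  have hC : algebraMap A (B a) = (Ideal.Quotient.mk (Ideal.span {g a})).comp C := rfl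
  rw [hC, ← Ideal.map_map]
  refine le_antisymm (fun b hb => ?_) ?_
  · obtain ⟨z, rfl⟩ := Ideal.Quotient.mk_surjective b
    rw [RingHom.mem_ker, hq, Ideal.Quotient.eq_zero_iff_mem, ← Ideal.mem_comap, ← hf, comap_map_span p hp] at hb
    obtain ⟨w, hw, v, hv, rfl⟩ := Submodule.mem_sup.mp hb
    rw [map_add, Ideal.Quotient.eq_zero_iff_mem.mpr hw, zero_add]
    exact Ideal.mem_map_of_mem _ hv
  · rw [← MvPolynomial.ker_map, Ideal.map_le_iff_le_comap]
    intro v hv
    rw [Ideal.mem_comap, RingHom.mem_ker, hq, RingHom.mem_ker.mp hv, map_zero]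

theorem beta_surjective (ha : ρ a = 0) (hρ : Function.Surjective ρ) : Function.Surjective (beta a ρ ha) :=
  Ideal.Quotient.lift_surjective_of_surjective _ _
    (Ideal.Quotient.mk_surjective.comp (MvPolynomial.map_surjective ρ hρ))

open ArtFun

variable {D : Art k k}

noncomputable def defo (a : D) (ha : D.res a = 0) : Defo (B₀ k) D D.res.toRingHom where
  B := B a
  flat := inferInstance
  β := beta a D.res.toRingHom ha
  surj := beta_surjective a _ ha D.res_surjective
  comm c := by
    show beta a D.res.toRingHom ha (Ideal.Quotient.mk _ (C c)) = _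
    rw [beta_mk, MvPolynomial.map_C]
    rfl
  ker_eq := ker_lift_le a _ D.res_surjective (X 0 * X 1)
    (by simp [g, show (D.res : D → k) a = 0 from ha]) (beta_mk a _ ha)

/-- The class of the deformation `xy = a`. -/
noncomputable def cl (a : D) (ha : D.res a = 0) :=
  (toSch (defo a ha)).cl

theorem map_cl {D' : Art k k} (μ : D ⟶ D') (hμ : Function.Surjective μ) (a : D) (ha : D.res a = 0) :
    (defFunctor (AlgebraicGeometry.Spec (CommRingCat.of (B₀ k)))
      (AlgebraicGeometry.Spec.map (CommRingCat.ofHom (algebraMap k (B₀ k))))).map μ (cl a ha) =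
      cl (μ a) ((Art.res_app μ a).trans ha) := by
  let p : D →+* D' := μ.toAlgHom.toRingHom
  let q : B a →+* B (μ a) := Ideal.quotientMap _ (MvPolynomial.map p) (by
    rw [Ideal.span_le]
    rintro _ rfl
    exact Ideal.mem_comap.mpr (Ideal.subset_span (by simp [g, p])))
  have hq : ∀ z, q (Ideal.Quotient.mk _ z) = Ideal.Quotient.mk _ (MvPolynomial.map p z) := fun z => rfl
  refine map_toSch μ hμ (defo a ha) (defo (μ a) ((Art.res_app μ a).trans ha)) q ?_ (fun c => ?_) (fun b => ?_)
    (ker_lift_le a p hμ _ (by simp [g, p]) hq).le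
  · exact Ideal.Quotient.lift_surjective_of_surjective _ _
      (Ideal.Quotient.mk_surjective.comp (MvPolynomial.map_surjective p hμ))
  · show q (Ideal.Quotient.mk _ (C c)) = Ideal.Quotient.mk _ (C (μ c))
    rw [hq, MvPolynomial.map_C]
    rfl
  · obtain ⟨z, rfl⟩ := Ideal.Quotient.mk_surjective b
    show beta (μ a) D'.res.toRingHom ((Art.res_app μ a).trans ha) (q (Ideal.Quotient.mk _ z)) =
      beta a D.res.toRingHom ha (Ideal.Quotient.mk _ z)
    rw [hq, beta_mk, beta_mk, MvPolynomial.map_map]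
    exact congrArg (fun t => Ideal.Quotient.mk _ (MvPolynomial.map t z)) (congrArg AlgHom.toRingHom μ.res_comp)

theorem exists_scale (a b c : D) (h : b = c * a) :
    ∃ φ : B b →ₐ[D] B a, ∀ z, φ (Ideal.Quotient.mk _ z) = Ideal.Quotient.mk _ (aeval ![C c * X 0, X 1] z) := by
  refine ⟨Ideal.Quotient.liftₐ _ ((Ideal.Quotient.mkₐ D _).comp (aeval ![C c * X 0, X 1])) (fun z hz => ?_),
    fun z => rfl⟩
  obtain ⟨w, rfl⟩ := Ideal.mem_span_singleton'.mp hz
  refine Ideal.Quotient.eq_zero_iff_mem.mpr ?_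
  show aeval ![C c * X 0, X 1] (w * g b) ∈ Ideal.span {g a}
  rw [map_mul, show aeval ![C c * X 0, X 1] (g b) = C c * g a by simp [g, h]; ring]
  exact Ideal.mul_mem_left _ _ (Ideal.mul_mem_left _ _ (Ideal.subset_span rfl))

/-- Rescaling `x`. -/
theorem cl_eq_of_eq_mul (a b : D) (ha : D.res a = 0) (hb : D.res b = 0) (u : Dˣ) (hu : D.res (u : D) = 1)
    (h : b = u * a) : cl a ha = cl b hb := by
  obtain ⟨φ, hφ⟩ := exists_scale a b (u : D) h
  obtain ⟨φ', hφ'⟩ := exists_scale b a ((u⁻¹ : Dˣ) : D) (by rw [h, Units.inv_mul_cancel_left])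
  have h1 : φ.comp φ' = AlgHom.id D _ := Ideal.Quotient.algHom_ext _ (MvPolynomial.algHom_ext fun i => by
    fin_cases i <;> simp [hφ, hφ', ← mul_assoc, ← map_mul])
  have h2 : φ'.comp φ = AlgHom.id D _ := Ideal.Quotient.algHom_ext _ (MvPolynomial.algHom_ext fun i => by
    fin_cases i <;> simp [hφ, hφ', ← mul_assoc, ← map_mul])
  refine cl_eq_of_ringEquiv (D₁ := defo a ha) (D₂ := defo b hb) (AlgEquiv.ofAlgHom φ φ' h1 h2).toRingEquiv
    (fun c => φ.commutes c) ?_
  refine RingHom.congr_fun (f := (beta a _ ha).comp φ.toRingHom) (g := beta b _ hb)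
    (Ideal.Quotient.ringHom_ext (MvPolynomial.ringHom_ext (fun c => ?_) fun i => ?_))
  · simp [hφ, beta_mk]
  · fin_cases i <;> simp [hφ, beta_mk, hu]

/-- Isomorphic deformations have comparable parameters. -/
theorem mem_span_of_cl_eq (a b : D) (ha : D.res a = 0) (hb : D.res b = 0) (h : cl a ha = cl b hb) :
    a ∈ Ideal.span {b} := by
  obtain ⟨ψ, hψ, hψβ⟩ := exists_hom_of_cl_eq (D₁ := defo b hb) (D₂ := defo a ha) h.symm
  let mk : D →+* D ⧸ Ideal.span {b} := Ideal.Quotient.mk _
  have hkb : mk b = 0 := Ideal.Quotient.eq_zero_iff_mem.mpr (Ideal.subset_span rfl)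
  let ρ' : (D ⧸ Ideal.span {b}) →+* k := Ideal.Quotient.lift _ D.res.toRingHom fun z hz => by
    obtain ⟨w, rfl⟩ := Ideal.mem_span_singleton'.mp hz
    rw [map_mul]
    exact mul_eq_zero_of_right _ hb
  let ev : (Fin 2 → DualNumber (D ⧸ Ideal.span {b})) → MvPolynomial (Fin 2) D →+* DualNumber (D ⧸ Ideal.span {b}) :=
    fun v => eval₂Hom ((TrivSqZeroExt.inlHom _ _).comp mk) v
  let ex : B b →+* DualNumber (D ⧸ Ideal.span {b}) := Ideal.Quotient.lift _ (ev ![DualNumber.eps, 0]) fun z hz => by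
    obtain ⟨w, rfl⟩ := Ideal.mem_span_singleton'.mp hz
    rw [map_mul]
    exact mul_eq_zero_of_right _ (by simp [ev, g, hkb])
  let ey : B b →+* DualNumber (D ⧸ Ideal.span {b}) := Ideal.Quotient.lift _ (ev ![0, DualNumber.eps]) fun z hz => by
    obtain ⟨w, rfl⟩ := Ideal.mem_span_singleton'.mp hz
    rw [map_mul]
    exact mul_eq_zero_of_right _ (by simp [ev, g, hkb])
  have hfst : (TrivSqZeroExt.fstHom (D ⧸ Ideal.span {b}) _ _).toRingHom.comp ex =
      (TrivSqZeroExt.fstHom (D ⧸ Ideal.span {b}) _ _).toRingHom.comp ey :=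
    Ideal.Quotient.ringHom_ext (MvPolynomial.ringHom_ext (fun c => by simp [ex, ey, ev])
      fun i => by fin_cases i <;> simp [ex, ey, ev])
  let evk : (Fin 2 → DualNumber k) → MvPolynomial (Fin 2) k →+* DualNumber k :=
    fun v => eval₂Hom (TrivSqZeroExt.inlHom k k) v
  let exk : B₀ k →+* DualNumber k := Ideal.Quotient.lift _ (evk ![DualNumber.eps, 0]) fun z hz => by
    obtain ⟨w, rfl⟩ := Ideal.mem_span_singleton'.mp hz
    rw [map_mul]
    exact mul_eq_zero_of_right _ (by simp [evk])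
  let eyk : B₀ k →+* DualNumber k := Ideal.Quotient.lift _ (evk ![0, DualNumber.eps]) fun z hz => by
    obtain ⟨w, rfl⟩ := Ideal.mem_span_singleton'.mp hz
    rw [map_mul]
    exact mul_eq_zero_of_right _ (by simp [evk])
  have hred : ∀ t : B b, ρ' (ex t).fst = (exk (beta b _ hb t)).fst ∧ ρ' (ex t).snd = (exk (beta b _ hb t)).snd ∧
      ρ' (ey t).fst = (eyk (beta b _ hb t)).fst ∧ ρ' (ey t).snd = (eyk (beta b _ hb t)).snd := by
    intro t
    obtain ⟨z, rfl⟩ := Ideal.Quotient.mk_surjective t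
    induction z using MvPolynomial.induction_on with
    | C c => simp [ex, ey, exk, eyk, ev, evk, beta_mk, ρ', mk]
    | add p q hp hq =>
      simp only [map_add, TrivSqZeroExt.fst_add, TrivSqZeroExt.snd_add]
      exact ⟨by rw [hp.1, hq.1], by rw [hp.2.1, hq.2.1], by rw [hp.2.2.1, hq.2.2.1], by rw [hp.2.2.2, hq.2.2.2]⟩
    | mul_X p i hp =>
      simp only [map_mul, TrivSqZeroExt.fst_mul, DualNumber.snd_mul, map_add, hp.1, hp.2.1, hp.2.2.1, hp.2.2.2]
      fin_cases i <;> simp [ex, ey, exk, eyk, ev, evk, beta_mk]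
  let Xb : B b := ψ (Ideal.Quotient.mk (Ideal.span {g a}) (X 0))
  let Yb : B b := ψ (Ideal.Quotient.mk (Ideal.span {g a}) (X 1))
  have hXY : Xb * Yb = Ideal.Quotient.mk _ (C a) := by
    refine ((map_mul ψ _ _).symm.trans (congrArg ψ ?_)).trans (hψ a)
    exact (map_mul (Ideal.Quotient.mk (Ideal.span {g a})) _ _).symm.trans
      ((Ideal.Quotient.mk_eq_mk_iff_sub_mem _ _).mpr (Ideal.subset_span rfl))
  have hX : beta b _ hb Xb = Ideal.Quotient.mk _ (X 0) :=
    (hψβ _).trans ((beta_mk a _ ha _).trans (by rw [MvPolynomial.map_X]))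
  have hY : beta b _ hb Yb = Ideal.Quotient.mk _ (X 1) :=
    (hψβ _).trans ((beta_mk a _ ha _).trans (by rw [MvPolynomial.map_X]))
  have hx := congrArg ex hXY
  have hy := congrArg ey hXY
  have hXf : (ex Xb).fst = (ey Xb).fst := RingHom.congr_fun hfst Xb
  have hYf : (ex Yb).fst = (ey Yb).fst := RingHom.congr_fun hfst Yb
  obtain ⟨-, hX1, -, hX2⟩ := hred Xb
  obtain ⟨-, hY1, -, hY2⟩ := hred Yb
  rw [hX] at hX1 hX2
  rw [hY] at hY1 hY2
  simp [exk, eyk, evk] at hX1 hX2 hY1 hY2
  have e0 : (ex Xb).fst * (ex Yb).fst = mk a := by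
    have := congrArg TrivSqZeroExt.fst hx
    simpa [ex, ev] using this
  have e1 : (ex Xb).fst * (ex Yb).snd + (ex Xb).snd * (ex Yb).fst = 0 := by
    have := congrArg TrivSqZeroExt.snd hx
    simpa [ex, ev, DualNumber.snd_mul] using this
  have e2 : (ey Xb).fst * (ey Yb).snd + (ey Xb).snd * (ey Yb).fst = 0 := by
    have := congrArg TrivSqZeroExt.snd hy
    simpa [ey, ev, DualNumber.snd_mul] using this
  rw [← hXf, ← hYf] at e2
  obtain ⟨d, hd⟩ := Ideal.Quotient.mk_surjective ((ey Yb).snd * (ex Xb).snd - (ey Xb).snd * (ex Yb).snd)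
  have hd1 : D.res d = 1 := by
    have := congrArg ρ' hd
    rw [map_sub, map_mul, map_mul, hX1, hX2, hY1, hY2] at this
    simpa [ρ'] using this
  have hdu : IsUnit d := by
    by_contra hn
    have := (Art.mem_maximalIdeal_iff D d).mp ((IsLocalRing.mem_maximalIdeal d).2 hn)
    rw [hd1] at this
    exact one_ne_zero this
  have hz : mk d * (ex Xb).fst = 0 := by
    rw [show mk d = _ from hd]
    linear_combination (ex Xb).snd * e2 - (ey Xb).snd * e1
  have h0 : (ex Xb).fst = 0 := (hdu.map mk).mul_right_eq_zero.mp hz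
  rw [h0, zero_mul] at e0
  exact Ideal.Quotient.eq_zero_iff_mem.mp e0.symm

end Groth.L14.DefLift.Node
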