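import Groth.Agent.L14.DefLift.LCI
import Groth.Prelude.Def_CotT

/-! # Vanishing of the second cotangent module gives unobstructedness -/

set_option autoImplicit false
set_option linter.style.haveILetI false
set_option backward.isDefEq.respectTransparency false

universe u

open TensorProduct

namespace Groth.L14.DefLift

variable {k B₀ ι σ : Type u} [Field k] [CommRing B₀] [Algebra k B₀] [Finite ι] [Fintype σ] [DecidableEq σ]

theorem exists_extend (P : Algebra.Presentation k B₀ ι σ) (h : Subsingleton (CotT.T2 P B₀))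
    (φ : Rel (CotT.rel P) →+ B₀)
    (hsmul : ∀ (a : P.toExtension.Ring) (r : Rel (CotT.rel P)), φ (a • r) = algebraMap P.toExtension.Ring B₀ a * φ r)
    (hkos : ∀ (r : Rel (CotT.rel P)) (i j : σ), (r : σ → P.toExtension.Ring) =
      (Pi.single j (CotT.rel P i) : σ → P.toExtension.Ring) - Pi.single i (CotT.rel P j) → φ r = 0) :
    ∃ c : σ → B₀, ∀ r : Rel (CotT.rel P), φ r = ∑ i, algebraMap P.toExtension.Ring B₀ ((r : σ → _) i) * c i := by
  classical
  let R := P.toExtension.Ring
  have hj : ∀ v : CotT.relMod P, CotT.jmap P v = Fintype.linearCombination R (CotT.rel P) ⇑v := fun v => by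
    rw [CotT.jmap, Finsupp.linearCombination_apply, Fintype.linearCombination_apply,
      Finsupp.sum_fintype v (fun i a => a • CotT.rel P i) (fun i => zero_smul _ _)]
  have hmem : ∀ y : CotT.relKer P, ⇑(y : CotT.relMod P) ∈ Rel (CotT.rel P) := fun y => by
    show Fintype.linearCombination R (CotT.rel P) _ = 0
    rw [← hj]
    exact y.2
  let φ₁ : CotT.relKer P →ₗ[R] B₀ :=
    { toFun := fun y => φ ⟨_, hmem y⟩
      map_add' := fun a b => (congrArg φ (Subtype.ext (Finsupp.coe_add _ _))).trans (map_add φ ⟨_, hmem a⟩ ⟨_, hmem b⟩)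
      map_smul' := fun c a => by
        rw [RingHom.id_apply, Algebra.smul_def]
        exact (congrArg φ (Subtype.ext (Finsupp.coe_smul _ _))).trans (hsmul c ⟨_, hmem a⟩) }
  -- it kills the trivial relations
  have hZ : ∀ v ∈ kos (CotT.rel P), ∀ hv : v ∈ Rel (CotT.rel P), φ ⟨v, hv⟩ = 0 := by
    have hle : kos (CotT.rel P) ≤ Rel (CotT.rel P) := Submodule.span_le.mpr (by
      rintro _ ⟨i, j, rfl⟩
      show Fintype.linearCombination R (CotT.rel P) _ = 0
      rw [map_sub, Fintype.linearCombination_apply_single, Fintype.linearCombination_apply_single, smul_eq_mul,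
        smul_eq_mul, mul_comm, sub_self])
    intro v hv
    induction hv using Submodule.span_induction with
    | mem v hv =>
      obtain ⟨i, j, rfl⟩ := hv
      exact fun h => hkos _ i j rfl
    | zero => exact fun _ => map_zero φ
    | add a b ha hb iha ihb =>
      intro hv
      rw [show (⟨a + b, hv⟩ : Rel (CotT.rel P)) = ⟨a, hle ha⟩ + ⟨b, hle hb⟩ from rfl, map_add, iha, ihb, add_zero]
    | smul c a ha iha =>
      intro hv
      rw [show (⟨c • a, hv⟩ : Rel (CotT.rel P)) = c • (⟨a, hle ha⟩ : Rel (CotT.rel P)) from rfl, hsmul, iha, mul_zero]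
  have htriv : ∀ v ∈ CotT.trivRel P, (⇑v : σ → R) ∈ kos (CotT.rel P) := by
    intro v hv
    induction hv using Submodule.span_induction with
    | mem v hv =>
      obtain ⟨a, b, rfl⟩ := hv
      have e : ⇑(CotT.jmap P a • b - CotT.jmap P b • a) = ∑ i, ∑ l, (a i * b l) •
          ((Pi.single l ((CotT.rel P) i) : σ → R) - Pi.single i ((CotT.rel P) l)) := by
        rw [hj, hj, comb_apply, comb_apply]
        funext m
        simp only [Finsupp.coe_sub, Finsupp.coe_smul, Pi.sub_apply, Pi.smul_apply, smul_eq_mul, hj, comb_apply,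
          Finset.sum_apply, Pi.single_apply, mul_sub, mul_ite, mul_zero, Finset.sum_sub_distrib, Finset.sum_mul]
        rw [Finset.sum_comm (f := fun i l => if m = i then a i * b l * (CotT.rel P) l else 0)]
        simp only [Finset.sum_ite_eq, Finset.mem_univ, ite_true]
        congr 1 <;> exact Finset.sum_congr rfl fun i _ => by ring
      rw [e]
      exact sum_mem fun i _ => sum_mem fun l _ => Submodule.smul_mem _ _ (Submodule.subset_span ⟨i, l, rfl⟩)
    | zero => rw [Finsupp.coe_zero]; exact zero_mem _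
    | add a b _ _ ha hb => rw [Finsupp.coe_add]; exact add_mem ha hb
    | smul c a _ ha => rw [Finsupp.coe_smul]; exact Submodule.smul_mem _ c ha
  let L : CotT.L2 P →ₗ[B₀] B₀ := Submodule.liftQ _ (LinearMap.liftBaseChange B₀ φ₁) (by
    rintro _ ⟨w, rfl⟩
    induction w using TensorProduct.induction_on with
    | zero => simp
    | tmul b y =>
      simp only [LinearMap.baseChange_tmul, LinearMap.mem_ker, LinearMap.liftBaseChange_tmul]
      rw [show φ₁ ((CotT.trivRelKer P).subtype y) = 0 from hZ _ (htriv _ y.2) _, smul_zero]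
    | add a b ha hb => rw [map_add]; exact add_mem ha hb)
  obtain ⟨ψ, hψ⟩ := (Submodule.Quotient.mk_eq_zero _).mp
    (Subsingleton.elim (Submodule.Quotient.mk L : CotT.T2 P B₀) 0)
  refine ⟨fun i => ψ (CotT.L1basis P i), fun r => ?_⟩
  let y₀ : CotT.relMod P := Finsupp.equivFunOnFinite.symm (r : σ → R)
  have hy₀ : ⇑y₀ = (r : σ → R) := Finsupp.equivFunOnFinite.apply_symm_apply _
  have hyk : y₀ ∈ CotT.relKer P := by
    show CotT.jmap P y₀ = 0
    rw [hj, hy₀]
    exact r.2
  have h1 := LinearMap.congr_fun hψ (Submodule.Quotient.mk ((1 : B₀) ⊗ₜ (⟨y₀, hyk⟩ : CotT.relKer P)))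
  rw [CotT.d2Star_apply, LinearMap.comp_apply, CotT.d2_mk_tmul] at h1
  have h2 : L (Submodule.Quotient.mk ((1 : B₀) ⊗ₜ (⟨y₀, hyk⟩ : CotT.relKer P))) = φ r := by
    simp only [L, Submodule.liftQ_apply]
    rw [LinearMap.liftBaseChange_tmul, one_smul]
    exact congrArg φ (Subtype.ext hy₀)
  rw [← h2, ← h1]
  have h3 : ((1 : B₀) ⊗ₜ[R] y₀ : CotT.L1 P) = ∑ i, algebraMap R B₀ (y₀ i) • CotT.L1basis P i := by
    simp only [CotT.L1basis_apply, algebraMap_smul, ← TensorProduct.tmul_smul, Finsupp.smul_single, smul_eq_mul, mul_one,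
      ← TensorProduct.tmul_sum, Finsupp.univ_sum_single]
    rfl
  show ψ ((1 : B₀) ⊗ₜ[R] y₀) = _
  rw [h3, map_sum]
  exact Finset.sum_congr rfl fun i _ => by rw [map_smul, smul_eq_mul, congrFun hy₀ i]

theorem unobstructed_of_T2 (P : Algebra.Presentation k B₀ ι σ) (h : Subsingleton (CotT.T2 P B₀)) :
    Unobstructed (MvPolynomial.aeval (R := k) P.val) P.relation := by
  intro φ hsmul hkos
  have hπ : ∀ a : P.toExtension.Ring, algebraMap P.toExtension.Ring B₀ a = MvPolynomial.aeval P.val a := fun a =>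
    CotT.algebraMap_toExtension P a
  obtain ⟨c, hc⟩ := exists_extend P h φ (fun a r => (hsmul a r).trans (by rw [hπ a]; rfl)) hkos
  exact ⟨c, fun r => (hc r).trans (Finset.sum_congr rfl fun i _ => by rw [hπ])⟩

end Groth.L14.DefLift
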