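import Groth.Agent.L14.DefLift.NoSmoothing
import Groth.Agent.L14.DefLift.Glue
import Groth.Agent.L14.DefLift.T2
import Groth.Prelude.Def_ArtFun3

/-! # `T²` as an obstruction space for deformations of an algebra -/

set_option autoImplicit false
set_option linter.style.haveILetI false
set_option backward.isDefEq.respectTransparency false

universe u

open TensorProduct MvPolynomial ArtFun ArtFun.Art

namespace Groth.L14.DefLift

variable {k B₀ ι σ : Type u} [Field k] [CommRing B₀] [Algebra k B₀] [Fintype σ]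

/-- Reduction of polynomials to the residue field. -/
noncomputable abbrev rd {C : Art k k} : MvPolynomial ι C →+* MvPolynomial ι k := MvPolynomial.map C.res.toRingHom

theorem rd_surjective {C : Art k k} : Function.Surjective (rd : MvPolynomial ι C →+* MvPolynomial ι k) :=
  MvPolynomial.map_surjective _ C.res_surjective

theorem rd_map {C' C : Art k k} (p : C' ⟶ C) (a : MvPolynomial ι C') :
    rd (MvPolynomial.map p.toAlgHom.toRingHom a) = rd a := by
  rw [rd, rd, MvPolynomial.map_map]
  exact congrArg (fun t => MvPolynomial.map t a) (RingHom.ext (Art.res_app p))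

theorem rd_inc {C : Art k k} (a : MvPolynomial ι k) : rd (MvPolynomial.map (algebraMap k C) a) = a := by
  rw [rd, MvPolynomial.map_map, show C.res.toRingHom.comp (algebraMap k C) = RingHom.id k from
    RingHom.ext C.res.commutes, MvPolynomial.map_id]

variable (P : Algebra.Presentation k B₀ ι σ)

/-- A presented deformation. -/
structure Pres (C : Art k k) where
  D : Defo B₀ C C.res.toRingHom
  x : ι → D.B
  hx : ∀ i, D.β (x i) = P.val i
  fA : σ → MvPolynomial ι C
  kill : ∀ s, aeval x (fA s) = 0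
  res_fA : ∀ s, rd (fA s) = P.relation s
  gen : ∀ a, aeval x a = 0 → ∃ r, Fintype.linearCombination (MvPolynomial ι C) fA r = a
  relLift : ∀ y : σ → MvPolynomial ι k, Fintype.linearCombination (MvPolynomial ι k) P.relation y = 0 →
    ∃ r, (∀ s, rd (r s) = y s) ∧ Fintype.linearCombination (MvPolynomial ι C) fA r = 0
  syz : ∀ r, Fintype.linearCombination (MvPolynomial ι C) fA r = 0 → (∀ s, rd (r s) = 0) →
    r ∈ IsLocalRing.maximalIdeal C •
      LinearMap.ker ((Fintype.linearCombination (MvPolynomial ι C) fA).restrictScalars C)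

theorem β_aeval_rd {C : Art k k} (D : Defo B₀ C C.res.toRingHom) (x : ι → D.B) (hx : ∀ i, D.β (x i) = P.val i)
    (a : MvPolynomial ι C) : D.β (aeval x a) = aeval P.val (rd a) := by
  refine RingHom.congr_fun (f := D.β.comp (aeval x).toRingHom) (g := (aeval P.val).toRingHom.comp rd)
    (MvPolynomial.ringHom_ext (fun c => ?_) fun i => ?_) a
  · show D.β (aeval x (MvPolynomial.C c)) = aeval P.val (MvPolynomial.map _ (MvPolynomial.C c))
    rw [aeval_C, map_C, aeval_C, D.comm]
  · show D.β (aeval x (X i)) = aeval P.val (MvPolynomial.map _ (X i))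
    rw [aeval_X, map_X, aeval_X, hx]

theorem mem_smul_top_of_rd {C : Art k k} {a : MvPolynomial ι C} (ha : rd a = 0) :
    a ∈ IsLocalRing.maximalIdeal C • (⊤ : Submodule C (MvPolynomial ι C)) := by
  have h1 : a ∈ (RingHom.ker C.res.toRingHom).map (MvPolynomial.C : C →+* MvPolynomial ι C) := by
    rw [← MvPolynomial.ker_map]
    exact ha
  rw [Ideal.smul_top_eq_map, Submodule.restrictScalars_mem, MvPolynomial.algebraMap_eq,
    show IsLocalRing.maximalIdeal C = RingHom.ker C.res.toRingHom from Ideal.ext (Art.mem_maximalIdeal_iff C)]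
  exact h1

theorem rd_eq_zero_of_mem {C : Art k k} {a : MvPolynomial ι C}
    (ha : a ∈ IsLocalRing.maximalIdeal C • (⊤ : Submodule C (MvPolynomial ι C))) : rd a = 0 := by
  rw [Ideal.smul_top_eq_map, Submodule.restrictScalars_mem, MvPolynomial.algebraMap_eq,
    show IsLocalRing.maximalIdeal C = RingHom.ker C.res.toRingHom from Ideal.ext (Art.mem_maximalIdeal_iff C),
    ← MvPolynomial.ker_map] at ha
  exact ha

theorem exists_pres {C : Art k k} (D : Defo B₀ C C.res.toRingHom) : ∃ Q : Pres P C, Q.D = D := by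
  classical
  haveI := D.flat
  let m := IsLocalRing.maximalIdeal C
  have hm : IsNilpotent m := Groth.L12.isNilpotent_maximalIdeal C
  haveI : m.IsMaximal := IsLocalRing.maximalIdeal.isMaximal _
  let B := D.B
  haveI : Module.Flat C (C ⊗[C] B) := Module.Flat.of_linearEquiv (TensorProduct.lid C B)
  haveI : Module.Free C B := Groth.L01.NilDescent.free_of_flat_baseChange m hm C Function.injective_id B
  choose x hx using fun i => D.surj (P.val i)
  let πA : MvPolynomial ι C →ₐ[C] B := aeval x
  have hπA : Function.Surjective πA := by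
    rw [← AlgHom.coe_toLinearMap, ← LinearMap.range_eq_top, eq_top_iff]
    refine le_of_nilpotent hm fun b _ => ?_
    obtain ⟨a₀, ha₀⟩ := P.toGenerators.aeval_val_surjective (D.β b)
    obtain ⟨a, rfl⟩ := rd_surjective (C := C) a₀
    refine Submodule.mem_sup.mpr ⟨πA a, ⟨a, rfl⟩, b - πA a, mem_smul_top_of_β D ?_, add_sub_cancel _ _⟩
    rw [map_sub, β_aeval_rd P D x hx, ha₀, sub_self]
  let IA : Submodule C (MvPolynomial ι C) := LinearMap.ker πA.toLinearMap
  obtain ⟨s, hs⟩ := Module.projective_lifting_property πA.toLinearMap LinearMap.id hπA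
  have hs' : ∀ b, πA (s b) = b := fun b => LinearMap.congr_fun hs b
  let qI : MvPolynomial ι C →ₗ[C] IA := (LinearMap.id - s ∘ₗ πA.toLinearMap).codRestrict IA fun a => by
    show πA (a - s (πA a)) = 0
    rw [map_sub, hs', sub_self]
  have hqI : ∀ a : IA, qI (a : MvPolynomial ι C) = a := fun a => Subtype.ext (by
    show (a : MvPolynomial ι C) - s (πA (a : MvPolynomial ι C)) = a
    rw [show πA (a : MvPolynomial ι C) = 0 from a.2, map_zero, sub_zero])
  haveI : Module.Projective C IA := Module.Projective.of_split IA.subtype qI (LinearMap.ext hqI)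
  have hspan : Ideal.span (Set.range P.relation) = RingHom.ker (aeval P.val : MvPolynomial ι k →ₐ[k] B₀) := by
    rw [P.span_range_relation_eq_ker]
    exact P.ker_eq_ker_aeval_val
  have hlift : ∀ i, ∃ a : MvPolynomial ι C, πA a = 0 ∧ rd a = P.relation i := fun i => by
    obtain ⟨a, ha⟩ := rd_surjective (C := C) (P.relation i)
    refine ⟨qI a, (qI a).2, ?_⟩
    have h1 : πA a ∈ m • (⊤ : Submodule C B) := mem_smul_top_of_β D (by
      rw [β_aeval_rd P D x hx, ha]; exact hspan.le (Ideal.subset_span ⟨i, rfl⟩))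
    show rd (a - s (πA a)) = P.relation i
    rw [map_sub, rd_eq_zero_of_mem (map_mem_smul_top s h1), sub_zero, ha]
  choose fA hfA hfA' using hlift
  let ω : (σ → MvPolynomial ι C) →ₗ[C] IA :=
    ((Fintype.linearCombination (MvPolynomial ι C) fA).restrictScalars C).codRestrict IA fun r => by
      show πA (Fintype.linearCombination (MvPolynomial ι C) fA r) = 0
      simp [comb_apply, hfA]
  have hωres : ∀ r : σ → MvPolynomial ι C, rd (ω r : MvPolynomial ι C) =
      Fintype.linearCombination (MvPolynomial ι k) P.relation (rd ∘ r) := fun r => by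
    show rd (Fintype.linearCombination (MvPolynomial ι C) fA r) = _
    rw [map_comb, show rd ∘ fA = P.relation from funext hfA']
  have hω : Function.Surjective ω := by
    rw [← LinearMap.range_eq_top, eq_top_iff]
    refine le_of_nilpotent hm fun a _ => ?_
    have h1 : rd (a : MvPolynomial ι C) ∈ RingHom.ker (aeval P.val : MvPolynomial ι k →ₐ[k] B₀) := by
      show aeval P.val (rd (a : MvPolynomial ι C)) = 0
      rw [← β_aeval_rd P D x hx, show aeval x (a : MvPolynomial ι C) = 0 from a.2, map_zero]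
    rw [← hspan, Ideal.mem_span_range_iff_exists_fun] at h1
    obtain ⟨c₀, hc₀⟩ := h1
    choose c hc using fun i => rd_surjective (C := C) (c₀ i)
    refine Submodule.mem_sup.mpr ⟨ω c, ⟨c, rfl⟩, a - ω c, ?_, add_sub_cancel _ _⟩
    rw [← hqI (a - ω c)]
    refine map_mem_smul_top qI (mem_smul_top_of_rd ?_)
    show rd ((a : MvPolynomial ι C) - (ω c : MvPolynomial ι C)) = 0
    rw [map_sub, hωres, comb_apply, ← hc₀, sub_eq_zero]
    exact Finset.sum_congr rfl fun i _ => by rw [Function.comp_apply, hc]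
  obtain ⟨sI, hsI⟩ := Module.projective_lifting_property ω LinearMap.id hω
  have hsI' : ∀ a, ω (sI a) = a := fun a => LinearMap.congr_fun hsI a
  let qR : (σ → MvPolynomial ι C) →ₗ[C] (σ → MvPolynomial ι C) := LinearMap.id - sI ∘ₗ ω
  have hqR : ∀ r, ω (qR r) = 0 := fun r => by
    show ω (r - sI (ω r)) = 0
    rw [map_sub, hsI', sub_self]
  have hqR' : ∀ r, Fintype.linearCombination (MvPolynomial ι C) fA (qR r) = 0 := fun r =>
    congrArg Subtype.val (hqR r)
  have hpt : ∀ r : σ → MvPolynomial ι C, (∀ i, rd (r i) = 0) →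
      r ∈ m • (⊤ : Submodule C (σ → MvPolynomial ι C)) := fun r hr => by
    rw [show r = ∑ i, LinearMap.single C (fun _ : σ => MvPolynomial ι C) i (r i) from (Finset.univ_sum_single r).symm]
    exact sum_mem fun i _ => map_mem_smul_top _ (mem_smul_top_of_rd (hr i))
  refine ⟨⟨D, x, hx, fA, hfA, hfA', fun a ha => ?_, fun y hy => ?_, fun r hr hr' => ?_⟩, rfl⟩
  · obtain ⟨r, hr⟩ := hω ⟨a, ha⟩
    exact ⟨r, congrArg Subtype.val hr⟩
  · choose r hr using fun i => rd_surjective (C := C) (y i)
    refine ⟨qR r, fun i => ?_, hqR' r⟩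
    have h1 : (ω r : MvPolynomial ι C) ∈ m • (⊤ : Submodule C (MvPolynomial ι C)) := mem_smul_top_of_rd (by
      rw [hωres, show rd ∘ r = y from funext hr, hy])
    have h2 : sI (ω r) ∈ m • (⊤ : Submodule C (σ → MvPolynomial ι C)) := by
      rw [← hqI (ω r)]
      exact map_mem_smul_top (sI ∘ₗ qI) h1
    show rd (r i - sI (ω r) i) = y i
    have h3 : rd (sI (ω r) i) = 0 := rd_eq_zero_of_mem (map_mem_smul_top (LinearMap.proj i) h2)
    rw [map_sub, h3, sub_zero, hr]
  · have h0 : ω r = 0 := Subtype.ext hr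
    have h1 : qR r ∈ m • LinearMap.range qR := by
      rw [← Submodule.map_top, ← Submodule.map_smul'']
      exact Submodule.mem_map_of_mem (hpt r hr')
    rw [show qR r = r from show r - sI (ω r) = r by rw [h0, map_zero, sub_zero]] at h1
    refine Submodule.smul_mono le_rfl ?_ h1
    rintro _ ⟨v, rfl⟩
    exact hqR' v

section Obs

variable {P}
variable {C' C₁ : Art k k} (p : C' ⟶ C₁)

/-- Coefficients of `p`. -/
noncomputable abbrev pc : MvPolynomial ι C' →+* MvPolynomial ι C₁ := MvPolynomial.map p.toAlgHom.toRingHom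

variable {p} (hp : Art.IsSemismallExt p)

include hp in
theorem coeffMap_mul (l : C' →ₗ[k] k) (w : MvPolynomial ι C') {z : MvPolynomial ι C'} (hz : pc p z = 0) :
    coeffMap l (w * z) = rd w * coeffMap l z := by
  classical
  refine MvPolynomial.ext _ _ fun d => ?_
  rw [coeff_coeffMap, coeff_mul, coeff_mul, map_sum]
  refine Finset.sum_congr rfl fun e _ => ?_
  rw [coeff_map, coeff_coeffMap]
  have hzb : coeff e.2 z ∈ RingHom.ker p.toAlgHom := by
    have := congrArg (coeff e.2) hz
    rw [coeff_map, coeff_zero] at this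
    exact this
  have h1 : (coeff e.1 w - algebraMap k C' (C'.res (coeff e.1 w))) * coeff e.2 z = 0 := by
    have h2 : (coeff e.1 w - algebraMap k C' (C'.res (coeff e.1 w))) * coeff e.2 z ∈
        IsLocalRing.maximalIdeal C' * RingHom.ker p.toAlgHom :=
      Ideal.mul_mem_mul ((Art.mem_maximalIdeal_iff C' _).mpr (by
        rw [map_sub, C'.res.commutes, Algebra.algebraMap_self_apply, sub_self])) hzb
    rwa [hp.2, Ideal.mem_bot] at h2
  rw [sub_mul, sub_eq_zero] at h1
  rw [h1, ← Algebra.smul_def, map_smul, smul_eq_mul]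
  rfl

variable (Q : Pres P C₁) (F : σ → MvPolynomial ι C')

/-- `F` lifts the equations of the deformation. -/
def IsFLift (p : C' ⟶ C₁) : Prop := ∀ s, pc p (F s) = Q.fA s

/-- `r` lifts the relation `y`. -/
def IsRLift (p : C' ⟶ C₁) (y : σ → MvPolynomial ι k) (r : σ → MvPolynomial ι C') : Prop :=
  (∀ s, rd (r s) = y s) ∧ pc p (Fintype.linearCombination (MvPolynomial ι C') F r) = 0

/-- The value of an obstruction. -/
noncomputable def val₂ (l : C' →ₗ[k] k) (r : σ → MvPolynomial ι C') : B₀ :=
  aeval P.val (coeffMap l (Fintype.linearCombination (MvPolynomial ι C') F r))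

variable {Q F} (hF : IsFLift Q F p)

include hF in
theorem rd_F (s : σ) : rd (F s) = P.relation s := by rw [← rd_map p, hF, Q.res_fA]

include hF in
theorem pc_comb (r : σ → MvPolynomial ι C') :
    pc p (Fintype.linearCombination (MvPolynomial ι C') F r) =
      Fintype.linearCombination (MvPolynomial ι C₁) Q.fA (pc p ∘ r) := by
  rw [map_comb, show pc p ∘ F = Q.fA from funext hF]

include hp hF in
theorem val₂_eq_zero (l : C' →ₗ[k] k) {r : σ → MvPolynomial ι C'} (hr : ∀ s, rd (r s) = 0)
    (hr' : pc p (Fintype.linearCombination (MvPolynomial ι C') F r) = 0) : val₂ (P := P) F l r = 0 := by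
  have h1 := Q.syz (pc p ∘ r) (by rw [← pc_comb hF, hr']) fun s => by rw [Function.comp_apply, rd_map, hr]
  have h2 : ∃ v : σ → MvPolynomial ι C', pc p ∘ v = pc p ∘ r ∧
      Fintype.linearCombination (MvPolynomial ι C') F v = 0 := by
    refine Submodule.smul_induction_on h1 (fun a ha v hv => ?_) fun y₁ y₂ h₁ h₂ => ?_
    · obtain ⟨a', ha'⟩ := hp.1 a
      choose v' hv' using fun s => MvPolynomial.map_surjective p.toAlgHom.toRingHom hp.1 (v s)
      refine ⟨(C a' : MvPolynomial ι C') • v', funext fun s => ?_, ?_⟩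
      · show pc p (C a' * v' s) = a • v s
        rw [map_mul, Algebra.smul_def, MvPolynomial.algebraMap_eq, show pc p (v' s) = v s from hv' s, ← ha']
        exact congrArg (· * v s) (MvPolynomial.map_C _ _)
      · rw [map_smul, smul_eq_mul]
        refine MvPolynomial.ext _ _ fun d => ?_
        rw [coeff_C_mul, coeff_zero]
        have h3 : coeff d (Fintype.linearCombination (MvPolynomial ι C') F v') ∈ RingHom.ker p.toAlgHom := by
          have h4 : pc p (Fintype.linearCombination (MvPolynomial ι C') F v') = 0 := by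
            rw [pc_comb hF, show pc p ∘ v' = v from funext hv']
            exact hv
          have := congrArg (coeff d) h4
          rw [coeff_map, coeff_zero] at this
          exact this
        have h5 : a' * coeff d (Fintype.linearCombination (MvPolynomial ι C') F v') ∈
            IsLocalRing.maximalIdeal C' * RingHom.ker p.toAlgHom :=
          Ideal.mul_mem_mul ((Art.mem_maximalIdeal_iff C' _).mpr (by
            rw [← Art.res_app p a', ha', (Art.mem_maximalIdeal_iff C₁ a).mp ha])) h3
        rwa [hp.2, Ideal.mem_bot] at h5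
    · obtain ⟨v₁, e₁, f₁⟩ := h₁
      obtain ⟨v₂, e₂, f₂⟩ := h₂
      exact ⟨v₁ + v₂, by rw [← e₁, ← e₂]; exact funext fun s => map_add (pc p) (v₁ s) (v₂ s),
        by rw [map_add, f₁, f₂, add_zero]⟩
  obtain ⟨v, hv, hv'⟩ := h2
  rw [val₂, show Fintype.linearCombination (MvPolynomial ι C') F r =
      Fintype.linearCombination (MvPolynomial ι C') F (r - v) by rw [map_sub, hv', sub_zero],
    comb_apply, map_sum, map_sum]
  refine Finset.sum_eq_zero fun s _ => ?_
  have h3 : pc p ((r - v) s) = 0 := by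
    rw [Pi.sub_apply, map_sub, sub_eq_zero]
    exact (congrFun hv s).symm
  rw [mul_comm, coeffMap_mul hp l (F s) h3, map_mul, rd_F hF,
    show aeval P.val (P.relation s) = 0 from P.aeval_val_relation s, zero_mul]

include hp hF in
theorem val₂_congr (l : C' →ₗ[k] k) {y : σ → MvPolynomial ι k} {r r' : σ → MvPolynomial ι C'}
    (h : IsRLift F p y r) (h' : IsRLift F p y r') : val₂ (P := P) F l r = val₂ (P := P) F l r' := by
  rw [← sub_eq_zero]
  have h1 := val₂_eq_zero hp hF l (r := r - r') (fun s => by rw [Pi.sub_apply, map_sub, h.1, h'.1, sub_self])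
    (by rw [map_sub, map_sub, h.2, h'.2, sub_self])
  rwa [val₂, map_sub, map_sub, map_sub] at h1

theorem comb_coe (y : CotT.relMod P) :
    Fintype.linearCombination (MvPolynomial ι k) P.relation ⇑y = CotT.jmap P y := by
  rw [CotT.jmap, Finsupp.linearCombination_apply, Fintype.linearCombination_apply,
    Finsupp.sum_fintype y (fun i a => a • CotT.rel P i) (fun i => zero_smul _ _)]

include hp hF in
theorem exists_rLift (y : CotT.relKer P) : ∃ r, IsRLift F p ⇑(y : CotT.relMod P) r := by
  obtain ⟨r, hr, hr'⟩ := Q.relLift ⇑(y : CotT.relMod P) (by rw [comb_coe]; exact y.2)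
  choose r' hr'' using fun s => MvPolynomial.map_surjective p.toAlgHom.toRingHom hp.1 (r s)
  refine ⟨r', fun s => ?_, ?_⟩
  · rw [← rd_map p, hr'', hr]
  · rw [pc_comb hF, show pc p ∘ r' = r from funext hr'', hr']

include hp hF in
theorem exists_obsHom (l : C' →ₗ[k] k) : ∃ φ : CotT.relKer P →ₗ[P.toExtension.Ring] B₀,
    (∀ (y : CotT.relKer P) r, IsRLift F p ⇑(y : CotT.relMod P) r → φ y = val₂ (P := P) F l r) ∧
      ∀ y ∈ CotT.trivRelKer P, φ y = 0 := by
  classical
  choose R hR using exists_rLift hp hF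
  have hw : ∀ (y : CotT.relKer P) r, IsRLift F p ⇑(y : CotT.relMod P) r →
      val₂ (P := P) F l (R y) = val₂ (P := P) F l r := fun y r h => val₂_congr hp hF l (hR y) h
  let φ : CotT.relKer P →ₗ[P.toExtension.Ring] B₀ :=
    { toFun := fun y => val₂ (P := P) F l (R y)
      map_add' := fun a b => by
        rw [hw (a + b) (R a + R b) ⟨fun s => ?_, ?_⟩, val₂, map_add, map_add, map_add, ← val₂, ← val₂]
        · rw [map_add, map_add, (hR a).2, (hR b).2, add_zero]
        · exact (map_add rd (R a s) (R b s)).trans (congrArg₂ (· + ·) ((hR a).1 s) ((hR b).1 s))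
      map_smul' := fun c a => by
        rw [RingHom.id_apply, hw (c • a) (MvPolynomial.map (algebraMap k C') c • R a) ⟨fun s => ?_, ?_⟩,
          val₂, map_smul, smul_eq_mul, coeffMap_mul hp l _ (hR a).2, rd_inc, map_mul, Algebra.smul_def,
          CotT.algebraMap_toExtension]
        · rfl
        · rw [map_smul, smul_eq_mul, map_mul, (hR a).2, mul_zero]
        · exact (map_mul rd _ (R a s)).trans (congrArg₂ (· * ·) (rd_inc c) ((hR a).1 s)) }
  have hle : CotT.trivRel P ≤ CotT.relKer P := CotT.trivRel_le_relKer P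
  refine ⟨φ, fun y r h => hw y r h, fun y hy => ?_⟩
  obtain ⟨y, hy'⟩ := y
  have hy2 : y ∈ CotT.trivRel P := hy
  clear hy
  induction hy2 using Submodule.span_induction with
  | mem z hz =>
    obtain ⟨a, b, rfl⟩ := hz
    let A' : σ → MvPolynomial ι C' := fun s => MvPolynomial.map (algebraMap k C') (a s)
    let B' : σ → MvPolynomial ι C' := fun s => MvPolynomial.map (algebraMap k C') (b s)
    let cb := Fintype.linearCombination (MvPolynomial ι C') F
    have hc : ∀ c : CotT.relMod P,
        rd (cb fun s => MvPolynomial.map (algebraMap k C') (c s)) = CotT.jmap P c := fun c => by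
      rw [map_comb, show rd ∘ F = P.relation from funext (rd_F hF),
        show (rd ∘ fun s => MvPolynomial.map (algebraMap k C') (c s)) = ⇑c from funext fun s => rd_inc _, comb_coe]
    have h0 : cb (cb A' • B' - cb B' • A') = 0 := by
      rw [map_sub, map_smul, map_smul, smul_eq_mul, smul_eq_mul, mul_comm, sub_self]
    show val₂ (P := P) F l (R ⟨_, hy'⟩) = 0
    rw [hw _ (cb A' • B' - cb B' • A') ⟨fun s => ?_, ?_⟩, val₂]
    · rw [show Fintype.linearCombination (MvPolynomial ι C') F _ = 0 from h0, map_zero, map_zero]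
    · exact (congrArg (pc p) h0).trans (map_zero _)
    · exact (map_sub rd _ _).trans (congrArg₂ (· - ·) ((map_mul rd _ _).trans (congrArg₂ (· * ·) (hc a) (rd_inc _)))
        ((map_mul rd _ _).trans (congrArg₂ (· * ·) (hc b) (rd_inc _))))
  | zero => exact map_zero φ
  | add a b ha hb iha ihb =>
    rw [show (⟨a + b, hy'⟩ : CotT.relKer P) = ⟨a, hle ha⟩ + ⟨b, hle hb⟩ from rfl, map_add, iha, ihb, add_zero]
  | smul c a ha iha =>
    rw [show (⟨c • a, hy'⟩ : CotT.relKer P) = c • (⟨a, hle ha⟩ : CotT.relKer P) from rfl, map_smul, iha, smul_zero]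

/-- The class in `T²` of a map on relations. -/
noncomputable def t2Of (φ : CotT.relKer P →ₗ[P.toExtension.Ring] B₀) (h : ∀ y ∈ CotT.trivRelKer P, φ y = 0) :
    CotT.T2 P B₀ :=
  Submodule.Quotient.mk (Submodule.liftQ _ (LinearMap.liftBaseChange B₀ φ) (by
    rintro _ ⟨w, rfl⟩
    induction w using TensorProduct.induction_on with
    | zero => simp
    | tmul b y =>
      simp only [LinearMap.baseChange_tmul, LinearMap.mem_ker, LinearMap.liftBaseChange_tmul]
      rw [show φ ((CotT.trivRelKer P).subtype y) = 0 from h _ y.2, smul_zero]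
    | add a b ha hb => rw [map_add]; exact add_mem ha hb))

theorem L2_ext {L L' : CotT.L2 P →ₗ[B₀] B₀}
    (h : ∀ y : CotT.relKer P, L (Submodule.Quotient.mk ((1 : B₀) ⊗ₜ y)) = L' (Submodule.Quotient.mk ((1 : B₀) ⊗ₜ y))) :
    L = L' := by
  refine LinearMap.ext fun z => ?_
  obtain ⟨z, rfl⟩ := Submodule.Quotient.mk_surjective _ z
  induction z using TensorProduct.induction_on with
  | zero => simp
  | tmul b y =>
    rw [show (b ⊗ₜ y : B₀ ⊗[P.toExtension.Ring] CotT.relKer P) = b • ((1 : B₀) ⊗ₜ y) by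
      rw [TensorProduct.smul_tmul', smul_eq_mul, mul_one], Submodule.Quotient.mk_smul, map_smul, map_smul, h]
  | add a b ha hb => rw [Submodule.Quotient.mk_add, map_add, map_add, ha, hb]

theorem d2Star_mk (ψ : CotT.L1 P →ₗ[B₀] B₀) (y : CotT.relKer P) :
    CotT.d2Star P B₀ ψ (Submodule.Quotient.mk ((1 : B₀) ⊗ₜ y)) =
      ∑ i, aeval P.val ((y : CotT.relMod P) i) * ψ (CotT.L1basis P i) := by
  rw [CotT.d2Star_apply, LinearMap.comp_apply, CotT.d2_mk_tmul]
  have h3 : ((1 : B₀) ⊗ₜ[P.toExtension.Ring] (y : CotT.relMod P) : CotT.L1 P) =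
      ∑ i, algebraMap P.toExtension.Ring B₀ ((y : CotT.relMod P) i) • CotT.L1basis P i := by
    simp only [CotT.L1basis_apply, algebraMap_smul, ← TensorProduct.tmul_smul, Finsupp.smul_single, smul_eq_mul, mul_one,
      ← TensorProduct.tmul_sum, Finsupp.univ_sum_single]
  rw [h3, map_sum]
  exact Finset.sum_congr rfl fun i _ => by rw [map_smul, smul_eq_mul, CotT.algebraMap_toExtension]

theorem t2Of_eq_zero_iff (φ : CotT.relKer P →ₗ[P.toExtension.Ring] B₀) (h : ∀ y ∈ CotT.trivRelKer P, φ y = 0) :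
    t2Of φ h = 0 ↔ ∃ c : σ → B₀, ∀ y, φ y = ∑ i, aeval P.val ((y : CotT.relMod P) i) * c i := by
  rw [t2Of, Submodule.Quotient.mk_eq_zero]
  constructor
  · rintro ⟨ψ, hψ⟩
    refine ⟨fun i => ψ (CotT.L1basis P i), fun y => ?_⟩
    rw [← d2Star_mk, hψ, Submodule.liftQ_apply, LinearMap.liftBaseChange_tmul, one_smul]
  · rintro ⟨c, hc⟩
    refine ⟨(CotT.L1basis P).constr B₀ c, L2_ext fun y => ?_⟩
    rw [d2Star_mk, Submodule.liftQ_apply, LinearMap.liftBaseChange_tmul, one_smul, hc]
    simp only [Module.Basis.constr_basis]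

theorem t2Of_congr {φ φ' : CotT.relKer P →ₗ[P.toExtension.Ring] B₀} (h : ∀ y ∈ CotT.trivRelKer P, φ y = 0)
    (h' : ∀ y ∈ CotT.trivRelKer P, φ' y = 0)
    (e : ∃ c : σ → B₀, ∀ y, φ y - φ' y = ∑ i, aeval P.val ((y : CotT.relMod P) i) * c i) :
    t2Of φ h = t2Of φ' h' := by
  rw [← sub_eq_zero]
  have hd : ∀ y ∈ CotT.trivRelKer P, (φ - φ') y = 0 := fun y hy => by
    rw [LinearMap.sub_apply, h y hy, h' y hy, sub_self]
  rw [show t2Of φ h - t2Of φ' h' = t2Of (φ - φ') hd from by
    rw [t2Of, t2Of, t2Of, ← Submodule.Quotient.mk_sub]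
    congr 1
    refine L2_ext fun y => ?_
    simp [Submodule.liftQ_apply]]
  exact (t2Of_eq_zero_iff _ hd).mpr e

theorem t2Of_add {φ'' φ φ' : CotT.relKer P →ₗ[P.toExtension.Ring] B₀}
    (h'' : ∀ y ∈ CotT.trivRelKer P, φ'' y = 0) (h : ∀ y ∈ CotT.trivRelKer P, φ y = 0)
    (h' : ∀ y ∈ CotT.trivRelKer P, φ' y = 0) (e : ∀ y, φ'' y = φ y + φ' y) :
    t2Of φ'' h'' = t2Of φ h + t2Of φ' h' := by
  rw [t2Of, t2Of, t2Of, ← Submodule.Quotient.mk_add]
  congr 1
  refine L2_ext fun y => ?_
  rw [LinearMap.add_apply, Submodule.liftQ_apply, Submodule.liftQ_apply, Submodule.liftQ_apply,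
    LinearMap.liftBaseChange_tmul, LinearMap.liftBaseChange_tmul, LinearMap.liftBaseChange_tmul, one_smul, one_smul,
    one_smul, e]

theorem t2Of_smul {φ' φ : CotT.relKer P →ₗ[P.toExtension.Ring] B₀} (b : B₀)
    (h' : ∀ y ∈ CotT.trivRelKer P, φ' y = 0) (h : ∀ y ∈ CotT.trivRelKer P, φ y = 0) (e : ∀ y, φ' y = b * φ y) :
    t2Of φ' h' = b • t2Of φ h := by
  rw [t2Of, t2Of, ← Submodule.Quotient.mk_smul]
  congr 1
  refine L2_ext fun y => ?_
  rw [LinearMap.smul_apply, Submodule.liftQ_apply, Submodule.liftQ_apply, LinearMap.liftBaseChange_tmul,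
    LinearMap.liftBaseChange_tmul, one_smul, one_smul, smul_eq_mul, e]

/-- The obstruction as a map of linear forms. -/
noncomputable def obsVal (hp : Art.IsSemismallExt p) (hF : IsFLift Q F p) : (C' →ₗ[k] k) →ₗ[k] CotT.T2 P B₀ where
  toFun l := t2Of (exists_obsHom hp hF l).choose (exists_obsHom hp hF l).choose_spec.2
  map_add' l l' := by
    refine t2Of_add _ _ _ fun y => ?_
    obtain ⟨r, hr⟩ := exists_rLift hp hF y
    rw [(exists_obsHom hp hF (l + l')).choose_spec.1 y r hr, (exists_obsHom hp hF l).choose_spec.1 y r hr,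
      (exists_obsHom hp hF l').choose_spec.1 y r hr, val₂, val₂, val₂, ← map_add]
    congr 1
    refine MvPolynomial.ext _ _ fun d => ?_
    rw [coeff_add, coeff_coeffMap, coeff_coeffMap, coeff_coeffMap]
    rfl
  map_smul' c l := by
    rw [RingHom.id_apply,
      ← IsScalarTower.algebraMap_smul B₀ c (t2Of (exists_obsHom hp hF l).choose (exists_obsHom hp hF l).choose_spec.2)]
    refine t2Of_smul _ _ _ fun y => ?_
    obtain ⟨r, hr⟩ := exists_rLift hp hF y
    rw [(exists_obsHom hp hF (c • l)).choose_spec.1 y r hr, (exists_obsHom hp hF l).choose_spec.1 y r hr, val₂, val₂,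
      ← Algebra.smul_def, ← map_smul]
    congr 1
    refine MvPolynomial.ext _ _ fun d => ?_
    rw [coeff_smul, coeff_coeffMap, coeff_coeffMap]
    rfl

theorem obsVal_eq {hp : Art.IsSemismallExt p} {hF : IsFLift Q F p} (l : C' →ₗ[k] k)
    {φ : CotT.relKer P →ₗ[P.toExtension.Ring] B₀} (h : ∀ y ∈ CotT.trivRelKer P, φ y = 0)
    (e : ∃ c : σ → B₀, ∀ (y : CotT.relKer P) r, IsRLift F p ⇑(y : CotT.relMod P) r →
      val₂ (P := P) F l r - φ y = ∑ i, aeval P.val ((y : CotT.relMod P) i) * c i) :
    obsVal hp hF l = t2Of φ h := by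
  obtain ⟨c, hc⟩ := e
  refine t2Of_congr (exists_obsHom hp hF l).choose_spec.2 h ⟨c, fun y => ?_⟩
  obtain ⟨r, hr⟩ := exists_rLift hp hF y
  rw [(exists_obsHom hp hF l).choose_spec.1 y r hr, hc y r hr]

theorem obsVal_eq_zero_iff {hp : Art.IsSemismallExt p} {hF : IsFLift Q F p} (l : C' →ₗ[k] k) :
    obsVal hp hF l = 0 ↔ ∃ c : σ → B₀, ∀ (y : CotT.relKer P) r, IsRLift F p ⇑(y : CotT.relMod P) r →
      val₂ (P := P) F l r = ∑ i, aeval P.val ((y : CotT.relMod P) i) * c i := by
  refine (t2Of_eq_zero_iff (exists_obsHom hp hF l).choose (exists_obsHom hp hF l).choose_spec.2).trans ⟨fun ⟨c, hc⟩ => ⟨c, fun y r hr => ?_⟩, fun ⟨c, hc⟩ => ⟨c, fun y => ?_⟩⟩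
  · rw [← (exists_obsHom hp hF l).choose_spec.1 y r hr, hc]
  · obtain ⟨r, hr⟩ := exists_rLift hp hF y
    rw [(exists_obsHom hp hF l).choose_spec.1 y r hr, hc y r hr]

end Obs

end Groth.L14.DefLift
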