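import Groth.Agent.L14.DefLift.Obs2
import Groth.Agent.L12.Obs
import Mathlib.LinearAlgebra.Dual.Lemmas

/-! # The obstruction theory with values in `T²` -/

set_option autoImplicit false
set_option linter.style.haveILetI false
set_option backward.isDefEq.respectTransparency false

universe u

open CategoryTheory AlgebraicGeometry TensorProduct MvPolynomial ArtFun ArtFun.Art

namespace Groth.L14.DefLift

variable {k B₀ ι σ : Type u} [Field k] [CommRing B₀] [Algebra k B₀] [Fintype σ]
variable {P : Algebra.Presentation k B₀ ι σ}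

theorem coeffMap_C_mul {C' : Art k k} (l : C' →ₗ[k] k) (b : C') (a : MvPolynomial ι k) :
    coeffMap l (MvPolynomial.C b * MvPolynomial.map (algebraMap k C') a) = l b • a := by
  refine MvPolynomial.ext _ _ fun d => ?_
  rw [coeff_coeffMap, coeff_C_mul, coeff_map, coeff_smul, mul_comm, ← Algebra.smul_def, map_smul, smul_eq_mul,
    smul_eq_mul, mul_comm]

theorem coeff_mem_ker {C' C₁ : Art k k} {p : C' ⟶ C₁} {z : MvPolynomial ι C'} (hz : pc p z = 0) (d : ι →₀ ℕ) :
    coeff d z ∈ RingHom.ker p.toAlgHom := by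
  have := congrArg (coeff d) hz
  rw [coeff_map, coeff_zero] at this
  exact this

theorem res_of_mem_ker {C' C₁ : Art k k} (p : C' ⟶ C₁) {c : C'} (hc : c ∈ RingHom.ker p.toAlgHom) : C'.res c = 0 := by
  rw [← Art.res_app p c, show p c = 0 from hc, map_zero]

variable {C' C₁ : Art k k} {p : C' ⟶ C₁} {Q : Pres P C₁} {F : σ → MvPolynomial ι C'}

theorem obsVal_congr {hp : Art.IsSemismallExt p} {hF : IsFLift Q F p} {l l' : C' →ₗ[k] k}
    (h : ∀ c ∈ RingHom.ker p.toAlgHom, l c = l' c) : obsVal hp hF l = obsVal hp hF l' := by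
  rw [← sub_eq_zero, ← map_sub, obsVal_eq_zero_iff]
  refine ⟨0, fun y r hr => ?_⟩
  rw [val₂, show coeffMap (l - l') (Fintype.linearCombination (MvPolynomial ι C') F r) = 0 from
    MvPolynomial.ext _ _ fun d => by
      rw [coeff_coeffMap, LinearMap.sub_apply, h _ (coeff_mem_ker hr.2 d), sub_self, coeff_zero], map_zero]
  simp

/-- Changing the group of the coefficients. -/
theorem obsVal_natural {C'' : Art k k} {q : C'' ⟶ C₁} (μ : C' ⟶ C'') (hμ : ∀ c, q (μ c) = p c)
    {hp : Art.IsSemismallExt p} {hF : IsFLift Q F p} {hq : Art.IsSemismallExt q} {F'' : σ → MvPolynomial ι C''}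
    {hF'' : IsFLift Q F'' q} (l : C'' →ₗ[k] k) :
    obsVal hq hF'' l = obsVal hp hF (l ∘ₗ μ.toAlgHom.toLinearMap) := by
  obtain ⟨φ, hφ, hφt⟩ := exists_obsHom hq hF'' l
  rw [obsVal_eq (hp := hp) (hF := hF) (l ∘ₗ μ.toAlgHom.toLinearMap) hφt ?_, obsVal_eq l hφt
    ⟨0, fun y r hr => by rw [hφ y r hr, sub_self]; simp⟩]
  have hpc : ∀ a : MvPolynomial ι C', pc q (pc μ a) = pc p a := fun a => by
    rw [pc, pc, pc, MvPolynomial.map_map]
    exact congrArg (fun t => MvPolynomial.map t a) (RingHom.ext hμ)
  refine ⟨fun i => aeval P.val (coeffMap l (pc μ (F i) - F'' i)), fun y r hr => ?_⟩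
  have h1 : IsRLift F'' q ⇑(y : CotT.relMod P) (pc μ ∘ r) := by
    refine ⟨fun s => by rw [Function.comp_apply, rd_map, hr.1], ?_⟩
    rw [pc_comb hF'', show pc q ∘ (pc μ ∘ r) = pc p ∘ r from funext fun s => hpc _, ← pc_comb hF, hr.2]
  have h2 : ∀ z : MvPolynomial ι C', coeffMap (l ∘ₗ μ.toAlgHom.toLinearMap) z = coeffMap l (pc μ z) := fun z =>
    MvPolynomial.ext _ _ fun d => by rw [coeff_coeffMap, coeff_coeffMap, coeff_map]; rfl
  rw [hφ y _ h1, val₂, val₂, h2, map_comb, ← map_sub, ← map_sub, comb_apply, comb_apply, ← Finset.sum_sub_distrib,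
    map_sum, map_sum]
  refine Finset.sum_congr rfl fun s _ => ?_
  rw [Function.comp_apply, Function.comp_apply, ← mul_sub, coeffMap_mul hq, map_mul, rd_map, hr.1]
  · rw [map_sub, hpc, hF, hF'', sub_self]

variable (B₀) in
/-- The functor of deformations of `B₀`. -/
noncomputable abbrev DefB : Art k k ⥤ Type (u + 1) :=
  defFunctor (Λ := k) (Spec (CommRingCat.of B₀)) (Spec.map (CommRingCat.ofHom (algebraMap k B₀)))

theorem finite_art (C : Art k k) : Module.Finite k C := by
  haveI : IsNoetherian k C := (isFiniteLength_iff_isNoetherian_isArtinian.1 (Groth.L12.isFiniteLength_art C)).1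
  infer_instance

theorem lifts_of_obsVal (hp : Art.IsSemismallExt p) (hF : IsFLift Q F p) (h : ∀ l, obsVal hp hF l = 0) :
    ∃ u' : (DefB B₀).obj C', (DefB B₀).map p u' = (toSch Q.D).cl := by
  classical
  haveI := finite_art C'
  let J := (RingHom.ker p.toAlgHom).restrictScalars k
  let b := Module.finBasis k J
  obtain ⟨πJ, hπJ⟩ := J.subtype.exists_leftInverse_of_injective (LinearMap.ker_eq_bot.mpr J.injective_subtype)
  let lj : Fin (Module.finrank k J) → (C' →ₗ[k] k) := fun j => b.coord j ∘ₗ πJ
  have hlj : ∀ (l : C' →ₗ[k] k) (c : C'), c ∈ RingHom.ker p.toAlgHom → l c = ∑ j, lj j c * l (b j : C') := by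
    intro l c hc
    have h1 : πJ c = ⟨c, hc⟩ := LinearMap.congr_fun hπJ ⟨c, hc⟩
    calc l c = l ((∑ j, b.repr ⟨c, hc⟩ j • b j : J) : C') := by rw [b.sum_repr]
      _ = _ := by
        rw [AddSubmonoidClass.coe_finset_sum, map_sum]
        refine Finset.sum_congr rfl fun j _ => ?_
        rw [Submodule.coe_smul, map_smul, smul_eq_mul]
        show _ = b.coord j (πJ c) * _
        rw [h1]
        rfl
  choose c hc using fun j => (obsVal_eq_zero_iff (hp := hp) (hF := hF) (lj j)).mp (h (lj j))
  choose ĉ hĉ using fun (j : Fin (Module.finrank k J)) (i : σ) => P.toGenerators.aeval_val_surjective (c j i)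
  let e : σ → MvPolynomial ι C' := fun i =>
    ∑ j, MvPolynomial.C (b j : C') * MvPolynomial.map (algebraMap k C') (ĉ j i)
  have he : ∀ i, pc p (e i) = 0 := fun i => by
    rw [map_sum]
    refine Finset.sum_eq_zero fun j _ => ?_
    rw [map_mul, show pc p (MvPolynomial.C (b j : C')) = MvPolynomial.C (p (b j : C')) from MvPolynomial.map_C _ _,
      show p (b j : C') = 0 from (b j).2, C_0, zero_mul]
  let F' : σ → MvPolynomial ι C' := fun i => F i - e i
  have hF' : IsFLift Q F' p := fun i => by rw [map_sub, he, sub_zero, hF]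
  have hval : ∀ (l : C' →ₗ[k] k) (y : CotT.relKer P) r, IsRLift F' p ⇑(y : CotT.relMod P) r →
      val₂ (P := P) F' l r = 0 := by
    intro l y r hr
    have hrF : IsRLift F p ⇑(y : CotT.relMod P) r := by
      refine ⟨hr.1, ?_⟩
      rw [pc_comb hF, ← pc_comb hF', hr.2]
    have h1 : Fintype.linearCombination (MvPolynomial ι C') F' r =
        Fintype.linearCombination (MvPolynomial ι C') F r - ∑ i, r i * e i := by
      rw [comb_apply, comb_apply, ← Finset.sum_sub_distrib]
      exact Finset.sum_congr rfl fun i _ => mul_sub _ _ _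
    have h2 : coeffMap l (Fintype.linearCombination (MvPolynomial ι C') F r) =
        ∑ j, l (b j : C') • coeffMap (lj j) (Fintype.linearCombination (MvPolynomial ι C') F r) := by
      refine MvPolynomial.ext _ _ fun d => ?_
      rw [coeff_coeffMap, hlj l _ (coeff_mem_ker hrF.2 d), coeff_sum]
      exact Finset.sum_congr rfl fun j _ => by rw [coeff_smul, coeff_coeffMap, smul_eq_mul, mul_comm]
    rw [val₂, h1, map_sub, map_sub, h2, map_sum, map_sum, map_sum, sub_eq_zero]
    simp only [map_smul, ← val₂.eq_def]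
    rw [Finset.sum_congr rfl fun j _ => congrArg (l (b j : C') • ·) (hc j y r hrF)]
    simp only [Finset.smul_sum]
    rw [Finset.sum_comm]
    refine Finset.sum_congr rfl fun i _ => ?_
    rw [coeffMap_mul hp l (r i) (he i), map_mul, hr.1, map_sum, map_sum, Finset.mul_sum]
    refine Finset.sum_congr rfl fun j _ => ?_
    rw [coeffMap_C_mul, map_smul, hĉ, mul_smul_comm]
  -- the lifted algebra
  let v := Module.Basis.ofVectorSpace k B₀
  choose g hg using fun j => P.toGenerators.aeval_val_surjective (v j)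
  let inc : MvPolynomial ι k →+* MvPolynomial ι C' := MvPolynomial.map (algebraMap k C')
  let K : Ideal (MvPolynomial ι C') := Ideal.span (Set.range F')
  let B' := MvPolynomial ι C' ⧸ K
  let w := fun j => Ideal.Quotient.mk K (inc (g j))
  let T : (_ →₀ C') →ₗ[C'] B' := Finsupp.linearCombination C' w
  let Z : (_ →₀ C') →ₗ[C'] MvPolynomial ι C' := Finsupp.linearCombination C' fun j => inc (g j)
  have hTZ : ∀ f, T f = Ideal.Quotient.mk K (Z f) := fun f =>
    (Finsupp.apply_linearCombination C' (Ideal.Quotient.mkₐ C' K).toLinearMap _ _).symm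
  have hK : ∀ a ∈ K, aeval Q.x (pc p a) = 0 := fun a ha => by
    obtain ⟨r, rfl⟩ := Ideal.mem_span_range_iff_exists_fun.mp ha
    rw [map_sum, map_sum]
    exact Finset.sum_eq_zero fun i _ => by rw [map_mul, map_mul, hF', Q.kill, mul_zero]
  have hrdZ : ∀ f, aeval P.val (rd (Z f)) = Finsupp.linearCombination k ⇑v (f.mapRange C'.res (map_zero C'.res)) := by
    intro f
    induction f using Finsupp.induction_linear with
    | zero => simp
    | add a b ha hb =>
      rw [map_add Z, map_add rd, map_add (aeval P.val), ha, hb, Finsupp.mapRange_add (map_add C'.res), map_add]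
    | single j a =>
      rw [show Z (Finsupp.single j a) = a • inc (g j) from Finsupp.linearCombination_single _ _ _, Algebra.smul_def,
        map_mul, map_mul, Finsupp.mapRange_single, Finsupp.linearCombination_single, rd_inc, hg, MvPolynomial.algebraMap_eq,
        show rd (MvPolynomial.C a : MvPolynomial ι C') = MvPolynomial.C (C'.res a) from MvPolynomial.map_C _ _, aeval_C,
        Algebra.smul_def]
  have hm : IsNilpotent (IsLocalRing.maximalIdeal C') := Groth.L12.isNilpotent_maximalIdeal C'
  have hsurj : Function.Surjective T := by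
    rw [← LinearMap.range_eq_top, eq_top_iff]
    refine le_of_nilpotent hm fun z _ => ?_
    obtain ⟨a, rfl⟩ := Ideal.Quotient.mk_surjective z
    let f := (v.repr (aeval P.val (rd a))).mapRange (algebraMap k C') (map_zero _)
    have hf : f.mapRange C'.res (map_zero C'.res) = v.repr (aeval P.val (rd a)) := Finsupp.ext fun j => by
      rw [Finsupp.mapRange_apply, Finsupp.mapRange_apply, C'.res.commutes]
      rfl
    have h1 : rd (a - Z f) ∈ Ideal.span (Set.range P.relation) := by
      rw [P.span_range_relation_eq_ker]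
      refine (P.ker_eq_ker_aeval_val).ge ?_
      rw [RingHom.mem_ker, map_sub, map_sub, hrdZ, hf, v.linearCombination_repr, sub_self]
    obtain ⟨e₀, he₀⟩ := Ideal.mem_span_range_iff_exists_fun.mp h1
    refine Submodule.mem_sup.mpr ⟨T f, ⟨f, rfl⟩, Ideal.Quotient.mk K (a - Z f), ?_, ?_⟩
    · have h2 : Ideal.Quotient.mk K (a - Z f) =
          (Ideal.Quotient.mkₐ C' K).toLinearMap (a - Z f - ∑ i, inc (e₀ i) * F' i) := by
        show _ = Ideal.Quotient.mk K _
        rw [Ideal.Quotient.eq, sub_sub_cancel]
        exact sum_mem fun i _ => Ideal.mul_mem_left _ _ (Ideal.subset_span ⟨i, rfl⟩)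
      rw [h2]
      refine map_mem_smul_top _ (mem_smul_top_of_rd ?_)
      rw [map_sub, map_sum, sub_eq_zero, ← he₀]
      exact Finset.sum_congr rfl fun i _ => by rw [map_mul, rd_inc, rd_F hF']
    · rw [hTZ, map_sub, add_sub_cancel]
  obtain ⟨bD, hbD⟩ := exists_basis Q.D v (fun j => aeval Q.x (MvPolynomial.map (algebraMap k C₁) (g j))) fun j => by
    rw [β_aeval_rd P Q.D Q.x Q.hx, rd_inc, hg]
  have hpinc : ∀ a, pc p (inc a) = MvPolynomial.map (algebraMap k C₁) a := fun a => by
    rw [pc, MvPolynomial.map_map]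
    exact congrArg (fun t => MvPolynomial.map t a) (RingHom.ext p.toAlgHom.commutes)
  have hinj : Function.Injective T := by
    rw [injective_iff_map_eq_zero]
    intro f hf
    rw [hTZ, Ideal.Quotient.eq_zero_iff_mem, Ideal.mem_span_range_iff_exists_fun] at hf
    obtain ⟨r, hr⟩ := hf
    have hr' : Fintype.linearCombination (MvPolynomial ι C') F' r = Z f := by rw [comb_apply, hr]
    have h1 : aeval Q.x (pc p (Z f)) = 0 := hK _ (Ideal.mem_span_range_iff_exists_fun.mpr ⟨r, hr⟩)
    have h2 : aeval Q.x (pc p (Z f)) =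
        Finsupp.linearCombination C₁ ⇑bD (f.mapRange p (map_zero p.toAlgHom)) := by
      clear hr hr' h1
      induction f using Finsupp.induction_linear with
      | zero => simp
      | add a b ha hb =>
        rw [map_add Z, map_add (pc p), map_add (aeval Q.x), ha, hb, Finsupp.mapRange_add (map_add p.toAlgHom), map_add]
      | single j a =>
        rw [show Z (Finsupp.single j a) = a • inc (g j) from Finsupp.linearCombination_single _ _ _, Algebra.smul_def,
          map_mul, map_mul, hpinc, Finsupp.mapRange_single, Finsupp.linearCombination_single, hbD, MvPolynomial.algebraMap_eq,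
          show pc p (MvPolynomial.C a) = MvPolynomial.C (p a) from MvPolynomial.map_C _ _, aeval_C, Algebra.smul_def]
    have h3 := linearIndependent_iff.mp bD.linearIndependent _ (h2.symm.trans h1)
    have hfJ : ∀ j, f j ∈ RingHom.ker p.toAlgHom := fun j => by
      have := DFunLike.congr_fun h3 j
      rw [Finsupp.mapRange_apply] at this
      exact this
    have hpZ : pc p (Z f) = 0 := by
      rw [show Z f = f.sum fun j a => a • inc (g j) from Finsupp.linearCombination_apply _ _, map_finsuppSum]
      refine Finset.sum_eq_zero fun j _ => ?_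
      show pc p (f j • inc (g j)) = 0
      rw [Algebra.smul_def, map_mul, MvPolynomial.algebraMap_eq,
        show pc p (MvPolynomial.C (f j)) = MvPolynomial.C (p (f j)) from MvPolynomial.map_C _ _,
        show p (f j) = 0 from hfJ j, C_0, zero_mul]
    let y₀ : CotT.relMod P := Finsupp.equivFunOnFinite.symm (rd ∘ r)
    have hy₀ : ⇑y₀ = rd ∘ r := Finsupp.equivFunOnFinite.apply_symm_apply _
    have hy : y₀ ∈ CotT.relKer P := by
      show CotT.jmap P y₀ = 0
      rw [← comb_coe, hy₀, ← show rd ∘ F' = P.relation from funext (rd_F hF'), ← map_comb, hr', ← rd_map p, hpZ, map_zero]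
    have hlift : IsRLift F' p ⇑((⟨y₀, hy⟩ : CotT.relKer P) : CotT.relMod P) r := by
      refine ⟨fun s => (congrFun hy₀ s).symm, ?_⟩
      rw [hr', hpZ]
    refine Finsupp.ext fun j => (Module.forall_dual_apply_eq_zero_iff k (f j)).mp fun l => ?_
    have h4 := hval l _ r hlift
    rw [val₂, hr'] at h4
    have h5 : aeval P.val (coeffMap l (Z f)) = Finsupp.linearCombination k ⇑v (f.mapRange l (map_zero l)) := by
      clear hr hr' h4 hfJ hpZ hy hy₀ hlift h1 h2 h3
      induction f using Finsupp.induction_linear with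
      | zero => simp
      | add a b ha hb =>
        rw [map_add Z, map_add (coeffMap l), map_add (aeval P.val), ha, hb, Finsupp.mapRange_add (map_add l), map_add]
      | single j a =>
        rw [show Z (Finsupp.single j a) = a • inc (g j) from Finsupp.linearCombination_single _ _ _, Algebra.smul_def,
          MvPolynomial.algebraMap_eq, coeffMap_C_mul, Finsupp.mapRange_single, Finsupp.linearCombination_single,
          map_smul, hg]
    have h6 := DFunLike.congr_fun (linearIndependent_iff.mp v.linearIndependent _ (h5.symm.trans h4)) j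
    rwa [Finsupp.mapRange_apply] at h6
  haveI : Module.Free C' B' := Module.Free.of_equiv (LinearEquiv.ofBijective T ⟨hinj, hsurj⟩)
  let q : B' →+* Q.D.B := Ideal.Quotient.lift K ((aeval Q.x).toRingHom.comp (pc p)) hK
  have hq : ∀ a, q (Ideal.Quotient.mk K a) = aeval Q.x (pc p a) := fun a => rfl
  have hqc : ∀ a : C', q (algebraMap C' B' a) = algebraMap C₁ Q.D.B (p a) := fun a => by
    show aeval Q.x (pc p (MvPolynomial.C a)) = _
    rw [show pc p (MvPolynomial.C a) = MvPolynomial.C (p a) from MvPolynomial.map_C _ _, aeval_C]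
  have hqs : Function.Surjective q := fun z => by
    obtain ⟨f, hf⟩ := bD.repr.symm.surjective z
    choose s hs using hp.1
    refine ⟨Ideal.Quotient.mk K (f.sum fun j a => MvPolynomial.C (s a) * inc (g j)), ?_⟩
    rw [hq, map_finsuppSum, map_finsuppSum, ← hf, Module.Basis.repr_symm_apply, Finsupp.linearCombination_apply]
    refine Finsupp.sum_congr fun j _ => ?_
    rw [map_mul, map_mul, hpinc, show pc p (MvPolynomial.C (s (f j))) = MvPolynomial.C (p (s (f j))) from
      MvPolynomial.map_C _ _, aeval_C, show p (s (f j)) = f j from hs _, Algebra.smul_def, hbD]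
  have hres : ∀ a, C₁.res (p a) = C'.res a := Art.res_app p
  let D' : Defo B₀ C' C'.res.toRingHom :=
    { B := B'
      flat := inferInstance
      β := Q.D.β.comp q
      surj := Q.D.surj.comp hqs
      comm := fun a => by
        show Q.D.β (q (algebraMap C' B' a)) = _
        rw [hqc, Q.D.comm]
        exact congrArg _ (hres a)
      ker_eq := by
        refine le_antisymm (fun z hz => ?_) (Ideal.map_le_iff_le_comap.2 fun a ha => ?_)
        · obtain ⟨f, rfl⟩ := hsurj z
          have h1 : f.mapRange C'.res (map_zero C'.res) = 0 := by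
            refine linearIndependent_iff.mp v.linearIndependent _ ?_
            rw [← hrdZ, ← rd_map p, ← β_aeval_rd P Q.D Q.x Q.hx, ← hq, ← hTZ]
            exact hz
          rw [show T f = f.sum fun j a => a • w j from Finsupp.linearCombination_apply _ _]
          refine sum_mem fun j _ => ?_
          show Ideal.Quotient.mk K (f j • inc (g j)) ∈ _
          rw [Algebra.smul_def, map_mul]
          refine Ideal.mul_mem_right _ _ (Ideal.mem_map_of_mem _ ?_)
          have h2 := DFunLike.congr_fun h1 j
          rw [Finsupp.mapRange_apply] at h2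
          exact h2
        · show Q.D.β (q (algebraMap C' B' a)) = 0
          rw [hqc, Q.D.comm, show C₁.res.toRingHom (p a) = C'.res a from hres a, show C'.res a = 0 from ha, map_zero] }
  refine ⟨(toSch D').cl, map_toSch p hp.1 D' Q.D q hqs hqc (fun z => rfl) fun z hz => ?_⟩
  obtain ⟨a, rfl⟩ := Ideal.Quotient.mk_surjective z
  obtain ⟨r, hr⟩ := Q.gen (pc p a) hz
  choose r' hr' using fun s => MvPolynomial.map_surjective p.toAlgHom.toRingHom hp.1 (r s)
  have h1 : a - Fintype.linearCombination (MvPolynomial ι C') F' r' ∈ RingHom.ker (pc p) := by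
    rw [RingHom.mem_ker, map_sub, pc_comb hF', show pc p ∘ r' = r from funext hr', hr, sub_self]
  rw [MvPolynomial.ker_map] at h1
  rw [show Ideal.Quotient.mk K a = Ideal.Quotient.mk K (a - Fintype.linearCombination (MvPolynomial ι C') F' r') by
      rw [Ideal.Quotient.eq, sub_sub_cancel]
      exact Ideal.mem_span_range_iff_exists_fun.mpr ⟨r', (comb_apply _ _).symm⟩,
    show algebraMap C' D'.B = (Ideal.Quotient.mk K).comp MvPolynomial.C from rfl, ← Ideal.map_map]
  exact Ideal.mem_map_of_mem _ h1

theorem exists_coord (hp : Art.IsSemismallExt p) {D' : Defo B₀ C' C'.res.toRingHom} (x' : ι → D'.B)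
    (hβx : ∀ i, D'.β (x' i) = P.val i) {J : Type u} (v : Module.Basis J k B₀) (g' : J → MvPolynomial ι C')
    (hg' : ∀ j, aeval P.val (rd (g' j)) = v j) (b' : Module.Basis J C' D'.B) (hb' : ⇑b' = fun j => aeval x' (g' j))
    (l : C' →ₗ[k] k) :
    ∃ L : D'.B →+ B₀, ∀ z, pc p z = 0 → L (aeval x' z) = aeval P.val (coeffMap l z) := by
  have hwβ : ∀ j, D'.β (aeval x' (g' j)) = v j := fun j => by rw [β_aeval_rd P D' x' hβx, hg']
  let L : D'.B →+ B₀ := AddMonoidHom.mk'
    (fun z => Finsupp.linearCombination k ⇑v ((b'.repr z).mapRange l (map_zero l))) fun a b => by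
      rw [map_add, Finsupp.mapRange_add (map_add l), map_add]
  refine ⟨L, fun z hz => ?_⟩
  have hz' : z ∈ (RingHom.ker p.toAlgHom.toRingHom).map (MvPolynomial.C : C' →+* MvPolynomial ι C') := by
    rw [← MvPolynomial.ker_map]
    exact hz
  suffices hs : ∀ w, L (aeval x' (w * z)) = aeval P.val (coeffMap l (w * z)) by simpa using hs 1
  clear hz
  induction hz' using Submodule.span_induction with
  | mem z hz =>
    obtain ⟨c, hc, rfl⟩ := hz
    intro w
    have hcp : pc p (MvPolynomial.C c : MvPolynomial ι C') = 0 := by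
      rw [show pc p (MvPolynomial.C c : MvPolynomial ι C') = MvPolynomial.C (p c) from MvPolynomial.map_C _ _,
        show p c = 0 from hc, C_0]
    rw [coeffMap_mul hp l w hcp, map_mul (aeval x'), aeval_C, mul_comm (aeval x' w), ← Algebra.smul_def]
    show Finsupp.linearCombination k ⇑v ((b'.repr (c • aeval x' w)).mapRange l (map_zero l)) = _
    have h1 : (b'.repr (c • aeval x' w)).mapRange l (map_zero l) =
        l c • (b'.repr (aeval x' w)).mapRange C'.res (map_zero C'.res) := by
      refine Finsupp.ext fun j => ?_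
      rw [map_smul, Finsupp.mapRange_apply, Finsupp.smul_apply, Finsupp.smul_apply, Finsupp.mapRange_apply,
        smul_eq_mul, smul_eq_mul]
      have h2 : (b'.repr (aeval x' w) j - algebraMap k C' (C'.res (b'.repr (aeval x' w) j))) * c = 0 := by
        have h3 : (b'.repr (aeval x' w) j - algebraMap k C' (C'.res (b'.repr (aeval x' w) j))) * c ∈
            IsLocalRing.maximalIdeal C' * RingHom.ker p.toAlgHom :=
          Ideal.mul_mem_mul ((Art.mem_maximalIdeal_iff C' _).mpr (by
            rw [map_sub, C'.res.commutes, Algebra.algebraMap_self_apply, sub_self])) hc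
        rwa [hp.2, Ideal.mem_bot] at h3
      rw [sub_mul, sub_eq_zero] at h2
      rw [mul_comm c, h2, ← Algebra.smul_def, map_smul, smul_eq_mul, mul_comm]
    rw [h1, map_smul, ← show (fun j => D'.β (aeval x' (g' j))) = ⇑v from funext hwβ,
      ← β_linearCombination D' (fun j => aeval x' (g' j)), ← hb', b'.linearCombination_repr,
      β_aeval_rd P D' x' hβx,
      show coeffMap l (MvPolynomial.C c : MvPolynomial ι C') = MvPolynomial.C (l c) by
        have := coeffMap_C_mul (ι := ι) l c 1
        rwa [map_one, mul_one, ← Algebra.algebraMap_eq_smul_one, MvPolynomial.algebraMap_eq] at this,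
      map_mul, aeval_C, Algebra.smul_def, mul_comm]
  | zero => intro w; simp [mul_zero]
  | add a b _ _ ha hb => intro w; rw [mul_add, map_add, map_add, ha, hb, map_add, map_add]
  | smul a b _ hb => intro w; rw [smul_eq_mul, ← mul_assoc]; exact hb _

set_option maxHeartbeats 1600000 in
theorem obsVal_of_lifts (hp : Art.IsSemismallExt p) (hF : IsFLift Q F p)
    (h : ∃ u' : (DefB B₀).obj C', (DefB B₀).map p u' = (toSch Q.D).cl) (l : C' →ₗ[k] k) : obsVal hp hF l = 0 := by
  classical
  obtain ⟨u', hu'⟩ := h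
  obtain ⟨D', rfl⟩ := exists_toSch_cl u'
  obtain ⟨q, hqa, hqb⟩ := (map_cl_eq_iff p D' Q.D).mp hu'
  choose x' hx' using fun i => q''_surjective hp.1 q hqa hqb (Q.x i)
  have hβx : ∀ i, D'.β (x' i) = P.val i := fun i => by rw [← hqb, hx', Q.hx]
  have hqaev : ∀ a, q (aeval x' a) = aeval Q.x (pc p a) := fun a => by
    refine RingHom.congr_fun (f := q.comp (aeval x').toRingHom) (g := (aeval Q.x).toRingHom.comp (pc p))
      (MvPolynomial.ringHom_ext (fun c => ?_) fun i => ?_) a
    · show q (aeval x' (MvPolynomial.C c)) = aeval Q.x (MvPolynomial.map _ (MvPolynomial.C c))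
      rw [aeval_C, map_C, aeval_C, hqa]
      rfl
    · show q (aeval x' (X i)) = aeval Q.x (MvPolynomial.map _ (X i))
      rw [aeval_X, map_X, aeval_X, hx']
  let v := Module.Basis.ofVectorSpace k B₀
  choose g hg using fun j => P.toGenerators.aeval_val_surjective (v j)
  let inc : MvPolynomial ι k →+* MvPolynomial ι C' := MvPolynomial.map (algebraMap k C')
  have hwβ : ∀ j, D'.β (aeval x' (inc (g j))) = v j := fun j => by rw [β_aeval_rd P D' x' hβx, rd_inc, hg]
  obtain ⟨b', hb'⟩ := exists_basis D' v (fun j => aeval x' (inc (g j))) hwβ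
  obtain ⟨bD, hbD⟩ := exists_basis Q.D v (fun j => q (aeval x' (inc (g j)))) fun j => by rw [hqb, hwβ]
  let e : σ → MvPolynomial ι C' := fun i =>
    Finsupp.linearCombination C' (fun j => inc (g j)) (b'.repr (aeval x' (F i)))
  have hce : ∀ i j, b'.repr (aeval x' (F i)) j ∈ RingHom.ker p.toAlgHom := fun i j => by
    have h1 : Finsupp.linearCombination C₁ ⇑bD ((b'.repr (aeval x' (F i))).mapRange p (map_zero p.toAlgHom)) = 0 := by
      rw [show (0 : Q.D.B) = q (aeval x' (F i)) by rw [hqaev, hF, Q.kill]]
      conv_rhs => rw [← b'.linearCombination_repr (aeval x' (F i)), Finsupp.linearCombination_apply, map_finsuppSum]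
      rw [Finsupp.linearCombination_apply, Finsupp.sum_mapRange_index (fun j => zero_smul C₁ (bD j))]
      refine Finsupp.sum_congr fun j _ => ?_
      rw [Algebra.smul_def, Algebra.smul_def, map_mul, hqa, hb', hbD]
    have := DFunLike.congr_fun (linearIndependent_iff.mp bD.linearIndependent _ h1) j
    rw [Finsupp.mapRange_apply] at this
    exact this
  have hpe : ∀ i, pc p (e i) = 0 := fun i => by
    show pc p (Finsupp.linearCombination C' _ _) = 0
    rw [Finsupp.linearCombination_apply, map_finsuppSum]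
    refine Finset.sum_eq_zero fun j _ => ?_
    show pc p (_ • inc (g j)) = 0
    rw [Algebra.smul_def, map_mul, MvPolynomial.algebraMap_eq,
      show pc p (MvPolynomial.C (b'.repr (aeval x' (F i)) j)) = MvPolynomial.C (p (b'.repr (aeval x' (F i)) j)) from
        MvPolynomial.map_C _ _, show p (b'.repr (aeval x' (F i)) j) = 0 from hce i j, C_0, zero_mul]
  have hxe : ∀ i, aeval x' (e i) = aeval x' (F i) := fun i => by
    show (aeval x').toLinearMap (Finsupp.linearCombination C' _ _) = _
    rw [Finsupp.apply_linearCombination]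
    conv_rhs => rw [← b'.linearCombination_repr (aeval x' (F i)), hb']
    rfl
  obtain ⟨L, key⟩ := exists_coord (P := P) hp x' hβx v (fun j => inc (g j)) (fun j => by rw [rd_inc, hg]) b' hb' l
  rw [obsVal_eq_zero_iff]
  refine ⟨fun i => aeval P.val (coeffMap l (e i)), fun y r hr => ?_⟩
  have h1 : Fintype.linearCombination (MvPolynomial ι C') F r - ∑ i, r i * e i = ∑ i, r i * (F i - e i) := by
    rw [comb_apply, ← Finset.sum_sub_distrib]
    exact Finset.sum_congr rfl fun i _ => (mul_sub _ _ _).symm
  have h2 := key _ (show pc p (Fintype.linearCombination (MvPolynomial ι C') F r - ∑ i, r i * e i) = 0 by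
    rw [map_sub, hr.2, map_sum, zero_sub, neg_eq_zero]
    exact Finset.sum_eq_zero fun i _ => by rw [map_mul, hpe, mul_zero])
  rw [show aeval x' (Fintype.linearCombination (MvPolynomial ι C') F r - ∑ i, r i * e i) = 0 by
    rw [h1, map_sum]
    exact Finset.sum_eq_zero fun i _ => by rw [map_mul, map_sub, hxe, sub_self, mul_zero], map_zero, map_sub, map_sub,
    eq_comm, sub_eq_zero] at h2
  rw [val₂, h2, map_sum, map_sum]
  exact Finset.sum_congr rfl fun i _ => by rw [coeffMap_mul hp l _ (hpe i), map_mul, hr.1]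

theorem exists_tensor_rep {V W J : Type u} [AddCommGroup V] [Module k V] [AddCommGroup W] [Module k W]
    [Module.Finite k W] [AddCommGroup J] [Module k J] (i : J →ₗ[k] W) (hi : Function.Injective i)
    (Φ : (W →ₗ[k] k) →ₗ[k] V) (hΦ : ∀ l, l ∘ₗ i = 0 → Φ l = 0) :
    ∃ t : V ⊗[k] J, ∀ l, TensorProduct.rid k V (LinearMap.lTensor V (l ∘ₗ i) t) = Φ l := by
  haveI : Module.Finite k J := Module.Finite.of_injective i hi
  let b := Module.finBasis k J
  obtain ⟨π, hπ⟩ := i.exists_leftInverse_of_injective (LinearMap.ker_eq_bot.mpr hi)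
  refine ⟨∑ j, Φ (b.coord j ∘ₗ π) ⊗ₜ[k] b j, fun l => ?_⟩
  have e : (l - ∑ j, (l (i (b j))) • (b.coord j ∘ₗ π)) ∘ₗ i = 0 := by
    refine b.ext fun j => ?_
    simp only [LinearMap.comp_apply, LinearMap.sub_apply, LinearMap.sum_apply, LinearMap.smul_apply,
      show π (i (b j)) = b j from LinearMap.congr_fun hπ (b j), Module.Basis.coord_apply, Module.Basis.repr_self,
      smul_eq_mul, Finsupp.single_apply, mul_ite, mul_one, mul_zero, Finset.sum_ite_eq, Finset.mem_univ, ite_true,
      sub_self, LinearMap.zero_apply]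
  have h := hΦ _ e
  rw [map_sub, sub_eq_zero] at h
  rw [h, map_sum, map_sum, map_sum]
  refine Finset.sum_congr rfl fun j _ => ?_
  rw [LinearMap.lTensor_tmul, TensorProduct.rid_tmul, map_smul, LinearMap.comp_apply]

theorem rid_lTensor_comp {V J J' : Type u} [AddCommGroup V] [Module k V] [AddCommGroup J] [Module k J]
    [AddCommGroup J'] [Module k J'] (γ : J →ₗ[k] J') (g : J' →ₗ[k] k) (f : J →ₗ[k] k) (e : ∀ z, f z = g (γ z))
    (t : V ⊗[k] J) :
    TensorProduct.rid k V (LinearMap.lTensor V f t) =
      TensorProduct.rid k V (LinearMap.lTensor V g (LinearMap.lTensor V γ t)) := by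
  rw [show f = g ∘ₗ γ from LinearMap.ext e, LinearMap.lTensor_comp, LinearMap.comp_apply]

theorem tensor_ext {V W J : Type u} [AddCommGroup V] [Module k V] [AddCommGroup W] [Module k W]
    [Module.Finite k W] [AddCommGroup J] [Module k J] (i : J →ₗ[k] W) (hi : Function.Injective i) (t t' : V ⊗[k] J)
    (h : ∀ l : W →ₗ[k] k, TensorProduct.rid k V (LinearMap.lTensor V (l ∘ₗ i) t) =
      TensorProduct.rid k V (LinearMap.lTensor V (l ∘ₗ i) t')) : t = t' := by
  haveI : Module.Finite k J := Module.Finite.of_injective i hi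
  let b := Module.finBasis k J
  obtain ⟨π, hπ⟩ := i.exists_leftInverse_of_injective (LinearMap.ker_eq_bot.mpr hi)
  have hdec : ∀ t : V ⊗[k] J, t = ∑ j, TensorProduct.rid k V (LinearMap.lTensor V (b.coord j) t) ⊗ₜ[k] b j := by
    intro t
    induction t using TensorProduct.induction_on with
    | zero => simp
    | tmul a c =>
      simp only [LinearMap.lTensor_tmul, TensorProduct.rid_tmul, TensorProduct.smul_tmul, Module.Basis.coord_apply]
      rw [← TensorProduct.tmul_sum, b.sum_repr]
    | add a c ha hc =>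
      simp only [map_add, TensorProduct.add_tmul, Finset.sum_add_distrib]
      rw [← ha, ← hc]
  rw [hdec t, hdec t']
  refine Finset.sum_congr rfl fun j _ => ?_
  have h1 := h (b.coord j ∘ₗ π)
  rw [LinearMap.comp_assoc, hπ, LinearMap.comp_id] at h1
  rw [h1]

set_option maxHeartbeats 1600000 in
theorem obsTheory_T2 (P : Algebra.Presentation k B₀ ι σ) : Nonempty (ObsTheory (DefB (k := k) B₀) (CotT.T2 P B₀)) := by
  classical
  have hQ : ∀ (C : Art k k) (u : (DefB B₀).obj C), ∃ Q : Pres P C, (toSch Q.D).cl = u := fun C u => by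
    obtain ⟨D, rfl⟩ := exists_toSch_cl u
    obtain ⟨Q, rfl⟩ := exists_pres P D
    exact ⟨Q, rfl⟩
  choose Qu hQu using hQ
  have hFl : ∀ {C' C : Art k k} (p : C' ⟶ C) (hp : Art.IsSemismallExt p) (Q : Pres P C),
      ∃ F : σ → MvPolynomial ι C', IsFLift Q F p := fun p hp Q => by
    choose F hF using fun s => MvPolynomial.map_surjective p.toAlgHom.toRingHom hp.1 (Q.fA s)
    exact ⟨F, hF⟩
  choose Fl hFl' using @hFl
  let V := CotT.T2 P B₀
  let iJ := fun {C' C : Art k k} (p : C' ⟶ C) =>
    ((Submodule.subtype (RingHom.ker p.toAlgHom)).restrictScalars k : ↥(RingHom.ker p.toAlgHom) →ₗ[k] C')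
  have hiJ : ∀ {C' C : Art k k} (p : C' ⟶ C), Function.Injective (iJ p) := fun p => Subtype.val_injective
  have hmain : ∀ {C' C : Art k k} (p : C' ⟶ C) (hp : Art.IsSemismallExt p) (u : (DefB B₀).obj C),
      ∃ t : V ⊗[k] ↥(RingHom.ker p.toAlgHom), ∀ l : C' →ₗ[k] k,
        TensorProduct.rid k V (LinearMap.lTensor V (l ∘ₗ iJ p) t) = obsVal hp (hFl' p hp (Qu C u)) l := by
    intro C' C p hp u
    haveI := finite_art C'
    refine exists_tensor_rep (iJ p) (hiJ p) _ fun l hl => ?_
    rw [← map_zero (obsVal hp (hFl' p hp (Qu C u)))]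
    exact obsVal_congr fun c hc => LinearMap.congr_fun hl ⟨c, hc⟩
  choose obs hobs using @hmain
  refine ⟨{ obs := fun p hp u => obs p hp u, obs_eq_zero_iff := fun {C' C} p hp u => ?_,
            obs_quot := fun {C' C} p hp K hK hKJ hq u => ?_ }⟩
  · constructor
    · intro h0
      obtain ⟨u', hu'⟩ := lifts_of_obsVal hp (hFl' p hp (Qu C u)) fun l => by
        rw [← hobs p hp u l, h0, map_zero, map_zero]
      exact ⟨u', hu'.trans (hQu C u)⟩
    · rintro ⟨u', hu'⟩
      haveI := finite_art C'
      refine tensor_ext (iJ p) (hiJ p) _ _ fun l => ?_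
      refine (hobs p hp u l).trans ((obsVal_of_lifts hp _ ⟨u', hu'.trans (hQu C u).symm⟩ l).trans ?_)
      exact ((congrArg (TensorProduct.rid k V) (LinearMap.map_zero _)).trans (LinearEquiv.map_zero _)).symm
  · haveI := finite_art (quot C' K hK)
    refine tensor_ext (iJ (quotFactor hK p hKJ)) (hiJ (quotFactor hK p hKJ)) _ _ fun l => ?_
    refine (hobs (quotFactor hK p hKJ) hq u l).trans ?_
    refine (obsVal_natural (hp := hp) (hF := hFl' p hp (Qu C u)) (quotMk C' K hK) (fun c => rfl) l).trans ?_
    refine (hobs p hp u (l ∘ₗ (quotMk C' K hK).toAlgHom.toLinearMap)).symm.trans ?_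
    exact rid_lTensor_comp ((kerToQuot hK p hKJ).restrictScalars k) (l ∘ₗ iJ (quotFactor hK p hKJ))
      ((l ∘ₗ (quotMk C' K hK).toAlgHom.toLinearMap) ∘ₗ iJ p) (fun z => rfl) _

end Groth.L14.DefLift
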