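import Groth.Agent.L14.DefLift.ToSch
import Groth.Agent.L12.CotTBasic
import Groth.Agent.L12.ArtBasic

/-! # Rigidity: vanishing `T¹` trivialises deformations -/

set_option autoImplicit false
set_option linter.style.haveILetI false
set_option backward.isDefEq.respectTransparency false

universe u

open TensorProduct MvPolynomial ArtFun

namespace Groth.L14.DefLift

variable {k B₀ ι σ : Type u} [Field k] [CommRing B₀] [Algebra k B₀] (P : Algebra.Presentation k B₀ ι σ)
variable {A : Art k k} (D : Defo B₀ A A.res.toRingHom)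

/-- Evaluation of a polynomial over `k` in a deformation. -/
noncomputable def evalIn (x : ι → D.B) : MvPolynomial ι k →+* D.B :=
  eval₂Hom ((algebraMap A D.B).comp (algebraMap k A)) x

theorem β_evalIn (x : ι → D.B) (hx : ∀ i, D.β (x i) = P.val i) (f : MvPolynomial ι k) :
    D.β (evalIn D x f) = aeval P.val f := by
  induction f using MvPolynomial.induction_on with
  | C c =>
    rw [evalIn, eval₂Hom_C, RingHom.comp_apply, D.comm, aeval_C]
    exact congrArg _ (A.res.commutes c)
  | add a b ha hb => rw [map_add, map_add, map_add, ha, hb]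
  | mul_X a i ha => rw [map_mul, map_mul, map_mul, ha, evalIn, eval₂Hom_X', hx, aeval_X]

theorem apply_D_mul_X (L : CotT.L0 P →ₗ[B₀] B₀) (p : MvPolynomial ι k) (i : ι) :
    L (1 ⊗ₜ KaehlerDifferential.D k P.toExtension.Ring (p * X i)) =
      P.val i * L (1 ⊗ₜ KaehlerDifferential.D k P.toExtension.Ring p) +
        aeval P.val p * L (1 ⊗ₜ KaehlerDifferential.D k P.toExtension.Ring (X i)) := by
  have h : ∀ (r : P.toExtension.Ring) (w : KaehlerDifferential k P.toExtension.Ring),
      L (1 ⊗ₜ (r • w)) = algebraMap P.toExtension.Ring B₀ r * L (1 ⊗ₜ w) := fun r w => by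
    rw [TensorProduct.tmul_smul, ← algebraMap_smul B₀ r ((1 : B₀) ⊗ₜ[P.toExtension.Ring] w), map_smul, smul_eq_mul]
  let p' : P.toExtension.Ring := p
  let X' : P.toExtension.Ring := X i
  show L (1 ⊗ₜ KaehlerDifferential.D k P.toExtension.Ring (p' * X')) = _
  rw [Derivation.leibniz, TensorProduct.tmul_add, map_add, h, h, CotT.algebraMap_toExtension P, CotT.algebraMap_toExtension P, add_comm]
  congr 2
  exact aeval_X _ i

theorem exists_step (hT : Subsingleton (CotT.T1 P B₀)) (n : ℕ) (hn : 1 ≤ n) (x : ι → D.B)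
    (hx : ∀ i, D.β (x i) = P.val i)
    (hv : ∀ f : MvPolynomial ι k, aeval P.val f = 0 →
      evalIn D x f ∈ (IsLocalRing.maximalIdeal A) ^ n • (⊤ : Submodule A D.B)) :
    ∃ y : ι → D.B, (∀ i, D.β (y i) = P.val i) ∧ ∀ f : MvPolynomial ι k, aeval P.val f = 0 →
      evalIn D y f ∈ (IsLocalRing.maximalIdeal A) ^ (n + 1) • (⊤ : Submodule A D.B) := by
  classical
  haveI := D.flat
  let m := IsLocalRing.maximalIdeal A
  let B := D.B
  haveI : m.IsMaximal := IsLocalRing.maximalIdeal.isMaximal _
  have hm : IsNilpotent m := Groth.L12.isNilpotent_maximalIdeal A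
  haveI : Module.Flat A (A ⊗[A] B) := Module.Flat.of_linearEquiv (TensorProduct.lid A B)
  haveI : Module.Free A B := Groth.L01.NilDescent.free_of_flat_baseChange m hm A Function.injective_id B
  let b := Module.Free.chooseBasis A B
  -- the graded piece of the base
  let V : Submodule k A := (m ^ n).restrictScalars k
  let W : Submodule k V := ((m ^ (n + 1)).restrictScalars k).comap V.subtype
  have hres : ∀ a : A, a - algebraMap k A (A.res a) ∈ m := fun a => by
    rw [Art.mem_maximalIdeal_iff, map_sub, A.res.commutes]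
    exact sub_self _
  haveI : Module.Finite k (V ⧸ W) := by
    obtain ⟨s, hs⟩ := (IsNoetherian.noetherian (m ^ n) : Submodule.FG (m ^ n : Ideal A))
    let g : s → V := fun a => ⟨a.1, hs.le (Submodule.subset_span a.2)⟩
    refine Module.Finite.of_surjective (Fintype.linearCombination k fun a : s => W.mkQ (g a)) ?_
    intro q
    obtain ⟨v, rfl⟩ := W.mkQ_surjective q
    obtain ⟨c, hc⟩ := (Submodule.mem_span_finset).mp (hs.ge v.2)
    refine ⟨fun a => A.res (c a), ?_⟩
    simp only [Fintype.linearCombination_apply, ← map_smul, ← map_sum]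
    rw [Submodule.mkQ_apply, Submodule.mkQ_apply, Submodule.Quotient.eq]
    show ((∑ a : s, A.res (c a) • g a : V) : A) - (v : A) ∈ m ^ (n + 1)
    rw [← hc.2, AddSubmonoidClass.coe_finset_sum, ← Finset.sum_coe_sort s (fun a => c a • a), ← Finset.sum_sub_distrib]
    refine sum_mem fun a _ => ?_
    rw [Submodule.coe_smul, Algebra.smul_def, smul_eq_mul, ← sub_mul, pow_succ']
    exact Ideal.mul_mem_mul (by rw [← neg_sub]; exact neg_mem (hres _)) (g a).2
  let bq := Module.finBasis k (V ⧸ W)
  choose e he using fun j => W.mkQ_surjective (bq j)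
  have hext : ∀ j, ∃ c : A →ₗ[k] k, c ∘ₗ V.subtype = (bq.coord j) ∘ₗ W.mkQ := fun j =>
    LinearMap.exists_extend (p := V) _
  choose c hc using hext
  have hc' : ∀ j, ∀ v : V, c j (v : A) = bq.coord j (W.mkQ v) := fun j v => LinearMap.congr_fun (hc j) v
  have hc0 : ∀ j, ∀ a : A, a ∈ m ^ (n + 1) → c j a = 0 := fun j a ha => by
    rw [hc' j ⟨a, Ideal.pow_le_pow_right n.le_succ ha⟩, show W.mkQ ⟨a, _⟩ = 0 from
      (Submodule.Quotient.mk_eq_zero _).mpr ha, map_zero]
  have hcmul : ∀ j, ∀ a ∈ m ^ n, ∀ a' : A, c j (a * a') = A.res a' * c j a := fun j a ha a' => by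
    have h1 : a * a' - A.res a' • a ∈ m ^ (n + 1) := by
      rw [Algebra.smul_def, mul_comm a, ← sub_mul, pow_succ']
      exact Ideal.mul_mem_mul (hres _) ha
    have h2 := hc0 j _ h1
    rwa [map_sub, map_smul, smul_eq_mul, sub_eq_zero] at h2
  have hce : ∀ j l, c j (e l : A) = if l = j then 1 else 0 := fun j l => by
    rw [hc', he, Module.Basis.coord_apply, Module.Basis.repr_self, Finsupp.single_apply]
  have hdecomp : ∀ a ∈ m ^ n, a - ∑ j, algebraMap k A (c j a) * (e j : A) ∈ m ^ (n + 1) := fun a ha => by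
    have h1 : W.mkQ (⟨a, ha⟩ - ∑ j, c j a • e j) = 0 := by
      rw [map_sub, map_sum]
      simp only [map_smul, he, show ∀ j, c j a = bq.coord j (W.mkQ ⟨a, ha⟩) from fun j => hc' j ⟨a, ha⟩,
        Module.Basis.coord_apply, bq.sum_repr, sub_self]
    have h2 : ((⟨a, ha⟩ - ∑ j, c j a • e j : V) : A) ∈ m ^ (n + 1) := (Submodule.Quotient.mk_eq_zero W).mp h1
    simpa [Algebra.smul_def] using h2
  -- coordinates in the fibre
  let Φ : Fin (Module.finrank k (V ⧸ W)) → B →+ B₀ := fun j =>
    (Finsupp.liftAddHom fun l => ((smulAddHom k B₀).flip (D.β (b l))).comp (c j).toAddMonoidHom).comp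
      b.repr.toAddMonoidHom
  have hΦ : ∀ j, ∀ a ∈ m ^ n, ∀ y : B, Φ j (a • y) = c j a • D.β y := fun j a ha y => by
    show (b.repr (a • y)).sum (fun l t => c j t • D.β (b l)) = _
    conv_rhs => rw [← b.linearCombination_repr y, Finsupp.linearCombination_apply, map_finsuppSum, Finsupp.smul_sum]
    rw [map_smul, Finsupp.sum_smul_index (fun l => by simp)]
    refine Finsupp.sum_congr fun l _ => ?_
    rw [hcmul j a ha, Algebra.smul_def, Algebra.smul_def, Algebra.smul_def, map_mul, map_mul, D.comm]
    simp only [AlgHom.toRingHom_eq_coe, RingHom.coe_coe]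
    ring
  have hΦmul : ∀ j, ∀ y ∈ m ^ n • (⊤ : Submodule A B), ∀ z : B, Φ j (z * y) = D.β z * Φ j y := fun j y hy z => by
    refine Submodule.smul_induction_on hy (fun a ha w _ => ?_) fun w w' hw hw' => by
      rw [mul_add, map_add, hw, hw', map_add, mul_add]
    rw [mul_smul_comm, hΦ j a ha, hΦ j a ha, map_mul, mul_smul_comm]
  choose lift hlift using D.surj
  have hker : ∀ y ∈ m ^ n • (⊤ : Submodule A B), (∀ j, Φ j y = 0) → y ∈ m ^ (n + 1) • (⊤ : Submodule A B) := by
    intro y hy h0
    have key : ∀ y ∈ m ^ n • (⊤ : Submodule A B),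
        y - ∑ j, (e j : A) • lift (Φ j y) ∈ m ^ (n + 1) • (⊤ : Submodule A B) := by
      intro y hy
      have hadd : ∀ (j : Fin (Module.finrank k (V ⧸ W))) (u : B), D.β u = 0 →
          (e j : A) • u ∈ m ^ (n + 1) • (⊤ : Submodule A B) := fun j u hu => by
        have h1 : u ∈ m • (⊤ : Submodule A B) := by
          rw [Ideal.smul_top_eq_map, Submodule.restrictScalars_mem]
          have h2 : u ∈ RingHom.ker D.β := hu
          rw [D.ker_eq] at h2
          exact Ideal.map_mono (fun a ha => (Art.mem_maximalIdeal_iff A a).mpr ha) h2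
        rw [pow_succ, Submodule.mul_smul]
        exact Submodule.smul_mem_smul (e j).2 h1
      refine Submodule.smul_induction_on hy (fun a ha w _ => ?_) fun w w' hw hw' => ?_
      · have h1 : a • w - ∑ j, (algebraMap k A (c j a) * (e j : A)) • w ∈ m ^ (n + 1) • (⊤ : Submodule A B) := by
          rw [← Finset.sum_smul, ← sub_smul]
          exact Submodule.smul_mem_smul (hdecomp a ha) trivial
        have h2 : ∀ j, (algebraMap k A (c j a) * (e j : A)) • w - (e j : A) • lift (Φ j (a • w)) ∈
            m ^ (n + 1) • (⊤ : Submodule A B) := fun j => by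
          rw [mul_comm, mul_smul, ← smul_sub]
          refine hadd j _ ?_
          rw [map_sub, hlift, hΦ j a ha, Algebra.smul_def (algebraMap k A (c j a)), map_mul, D.comm,
            Algebra.smul_def, show A.res.toRingHom (algebraMap k A (c j a)) = c j a from A.res.commutes _, sub_self]
        have := add_mem h1 (sum_mem fun j (_ : j ∈ Finset.univ) => h2 j)
        rwa [Finset.sum_sub_distrib, sub_add_sub_cancel] at this
      · have h2 : ∀ j, (e j : A) • (lift (Φ j w) + lift (Φ j w') - lift (Φ j (w + w'))) ∈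
            m ^ (n + 1) • (⊤ : Submodule A B) := fun j => hadd j _ (by
          rw [map_sub, map_add, hlift, hlift, hlift, map_add, sub_self])
        have := add_mem (add_mem hw hw') (sum_mem fun j (_ : j ∈ Finset.univ) => h2 j)
        convert this using 1
        simp only [smul_sub, smul_add, Finset.sum_sub_distrib, Finset.sum_add_distrib]
        abel
    have h3 := key y hy
    have h4 : ∀ j, (e j : A) • lift (Φ j y) ∈ m ^ (n + 1) • (⊤ : Submodule A B) := fun j => by
      rw [h0, pow_succ, Submodule.mul_smul]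
      refine Submodule.smul_mem_smul (e j).2 ?_
      rw [Ideal.smul_top_eq_map, Submodule.restrictScalars_mem]
      have h5 : lift 0 ∈ RingHom.ker D.β := hlift 0
      rw [D.ker_eq] at h5
      exact Ideal.map_mono (fun a ha => (Art.mem_maximalIdeal_iff A a).mpr ha) h5
    simpa using add_mem h3 (sum_mem fun j (_ : j ∈ Finset.univ) => h4 j)
  -- the obstruction is a coboundary
  have hlin : ∀ j, ∃ L : CotT.L0 P →ₗ[B₀] B₀, ∀ f : MvPolynomial ι k, aeval P.val f = 0 →
      L (1 ⊗ₜ KaehlerDifferential.D k P.toExtension.Ring f) = Φ j (evalIn D x f) := by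
    intro j
    let ev : P.toExtension.Ring →+* B := evalIn D x
    have hev : ∀ r, D.β (ev r) = algebraMap P.toExtension.Ring B₀ r := fun r =>
      (β_evalIn P D x hx r).trans (CotT.algebraMap_toExtension P r).symm
    have hevv : ∀ a : P.toExtension.ker, ev a ∈ m ^ n • (⊤ : Submodule A B) := fun a =>
      hv (a : P.toExtension.Ring) ((CotT.algebraMap_toExtension P _).symm.trans a.2)
    let ψ : P.toExtension.ker →+ B₀ := (Φ j).comp (ev.toAddMonoidHom.comp
      (P.toExtension.ker.subtype.toAddMonoidHom))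
    have hψ : ∀ (r : P.toExtension.Ring) (a : P.toExtension.ker),
        ψ (r • a) = algebraMap P.toExtension.Ring B₀ r * ψ a := fun r a => by
      refine ((congrArg (Φ j) (map_mul ev r a.1)).trans (hΦmul j _ (hevv a) _)).trans ?_
      rw [hev]
      rfl
    have hwd : ∀ a : P.toExtension.ker, Algebra.Extension.Cotangent.mk a = 0 → ψ a = 0 := by
      intro a ha
      have h1 : (a : P.toExtension.Ring) ∈ P.toExtension.ker ^ 2 := (Algebra.Extension.Cotangent.mk_eq_zero_iff _).mp ha
      rw [pow_two] at h1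
      have : ∀ z ∈ P.toExtension.ker * P.toExtension.ker, Φ j (ev z) = 0 := fun z hz => by
        refine Submodule.mul_induction_on hz (fun p hp q hq => ?_) fun p q hp hq => by
          rw [map_add, map_add, hp, hq, add_zero]
        rw [map_mul, hΦmul j _ (hevv ⟨q, hq⟩), hev, show algebraMap P.toExtension.Ring B₀ p = 0 from hp, zero_mul]
      exact this _ h1
    have hsurj := Algebra.Extension.Cotangent.mk_surjective (P := P.toExtension)
    choose sec hsec using hsurj
    have hval : ∀ a, ψ (sec (Algebra.Extension.Cotangent.mk a)) = ψ a := fun a => by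
      rw [← sub_eq_zero, ← map_sub]
      exact hwd _ (by rw [map_sub, hsec, sub_self])
    let h : P.toExtension.Cotangent →ₗ[B₀] B₀ :=
      { toFun := fun z => ψ (sec z)
        map_add' := fun z w => by
          obtain ⟨z, rfl⟩ := Algebra.Extension.Cotangent.mk_surjective z
          obtain ⟨w, rfl⟩ := Algebra.Extension.Cotangent.mk_surjective w
          rw [← map_add, hval, hval, hval, map_add]
        map_smul' := fun r z => by
          obtain ⟨z, rfl⟩ := Algebra.Extension.Cotangent.mk_surjective z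
          obtain ⟨r, rfl⟩ := P.toExtension.algebraMap_surjective r
          rw [algebraMap_smul, ← map_smul, hval, hval, RingHom.id_apply, hψ, smul_eq_mul] }
    obtain ⟨L, hL⟩ := (Groth.L12.CotTLib.T1_subsingleton_iff P B₀).mp hT h
    refine ⟨L, fun f hf => ?_⟩
    have hfk : f ∈ P.toExtension.ker := (CotT.algebraMap_toExtension P _).trans hf
    have h2 := LinearMap.congr_fun hL (Algebra.Extension.Cotangent.mk ⟨f, hfk⟩)
    rw [LinearMap.lcomp_apply, Algebra.Extension.cotangentComplex_mk] at h2
    exact h2.trans (hval ⟨f, hfk⟩)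
  choose L hL using hlin
  let z : ι → B := fun i => ∑ j, (e j : A) • lift (L j (1 ⊗ₜ KaehlerDifferential.D k P.toExtension.Ring (X i)))
  have hz : ∀ i, z i ∈ m ^ n • (⊤ : Submodule A B) := fun i =>
    sum_mem fun j _ => Submodule.smul_mem_smul (e j).2 trivial
  have hzΦ : ∀ i j, Φ j (z i) = L j (1 ⊗ₜ KaehlerDifferential.D k P.toExtension.Ring (X i)) := fun i j => by
    simp only [z, map_sum, hΦ j _ (e _).2, hce, ite_smul, one_smul, zero_smul, Finset.sum_ite_eq', Finset.mem_univ,
      ite_true, hlift]
  have hz0 : ∀ i, D.β (z i) = 0 := fun i => by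
    have h1 : z i ∈ (m : Ideal A) • (⊤ : Submodule A B) :=
      Submodule.smul_mono_left (Ideal.pow_le_self (by omega)) (hz i)
    rw [Ideal.smul_top_eq_map, Submodule.restrictScalars_mem] at h1
    have h2 : z i ∈ RingHom.ker D.β := by
      rw [D.ker_eq]
      exact Ideal.map_mono (fun a ha => (Art.mem_maximalIdeal_iff A a).mp ha) h1
    exact h2
  have hy : ∀ i, D.β (x i - z i) = P.val i := fun i => by rw [map_sub, hx, hz0, sub_zero]
  refine ⟨fun i => x i - z i, hy, fun f hf => ?_⟩
  have key : ∀ g : MvPolynomial ι k, evalIn D x g - evalIn D (fun i => x i - z i) g ∈ m ^ n • (⊤ : Submodule A B) ∧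
      ∀ j, Φ j (evalIn D x g - evalIn D (fun i => x i - z i) g) =
        L j (1 ⊗ₜ KaehlerDifferential.D k P.toExtension.Ring g) := by
    intro g
    induction g using MvPolynomial.induction_on with
    | C a =>
      simp only [evalIn, eval₂Hom_C, sub_self, map_zero]
      refine ⟨zero_mem _, fun j => ?_⟩
      rw [show (KaehlerDifferential.D k P.toExtension.Ring) (C a : MvPolynomial ι k) = 0 from
        Derivation.map_algebraMap _ a, TensorProduct.tmul_zero, map_zero]
    | add p q hp hq =>
      rw [map_add, map_add, add_sub_add_comm]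
      exact ⟨add_mem hp.1 hq.1, fun j => by
        rw [map_add, hp.2, hq.2, ← map_add, ← TensorProduct.tmul_add, ← map_add]⟩
    | mul_X p i hp =>
      have he : evalIn D x (p * X i) - evalIn D (fun i => x i - z i) (p * X i) =
          x i * (evalIn D x p - evalIn D (fun i => x i - z i) p) + evalIn D (fun i => x i - z i) p * z i := by
        simp only [map_mul, evalIn, eval₂Hom_X']
        ring
      rw [he]
      have h1 : ∀ (u v : B), v ∈ m ^ n • (⊤ : Submodule A B) → u * v ∈ m ^ n • (⊤ : Submodule A B) := fun u v hv => by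
        refine Submodule.smul_induction_on hv (fun a ha w _ => ?_) fun _ _ h h' => by rw [mul_add]; exact add_mem h h'
        rw [mul_smul_comm]
        exact Submodule.smul_mem_smul ha trivial
      refine ⟨add_mem (h1 _ _ hp.1) (h1 _ _ (hz i)), fun j => ?_⟩
      rw [map_add, hΦmul j _ hp.1, hΦmul j _ (hz i), hp.2, hzΦ, hx, β_evalIn P D _ hy]
      exact (apply_D_mul_X P (L j) p i).symm
  obtain ⟨h1, h2⟩ := key f
  have h3 : evalIn D (fun i => x i - z i) f ∈ m ^ n • (⊤ : Submodule A B) := by
    simpa using sub_mem (hv f hf) h1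
  refine hker _ h3 fun j => ?_
  have h4 := h2 j
  rw [map_sub, hL j f hf, sub_eq_self] at h4
  exact h4

/-- A constant lift. -/
theorem exists_const_lift (hT : Subsingleton (CotT.T1 P B₀)) :
    ∃ x : ι → D.B, (∀ i, D.β (x i) = P.val i) ∧ ∀ f : MvPolynomial ι k, aeval P.val f = 0 → evalIn D x f = 0 := by
  obtain ⟨N, hN⟩ := Groth.L12.isNilpotent_maximalIdeal A
  suffices h : ∀ n, ∃ x : ι → D.B, (∀ i, D.β (x i) = P.val i) ∧ ∀ f : MvPolynomial ι k, aeval P.val f = 0 →
      evalIn D x f ∈ (IsLocalRing.maximalIdeal A) ^ (n + 1) • (⊤ : Submodule A D.B) by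
    obtain ⟨x, hx, hv⟩ := h N
    refine ⟨x, hx, fun f hf => ?_⟩
    have := hv f hf
    rwa [pow_succ, hN, zero_mul, Ideal.zero_eq_bot, Submodule.bot_smul, Submodule.mem_bot] at this
  intro n
  induction n with
  | zero =>
    choose x hx using fun i => D.surj (P.val i)
    refine ⟨x, hx, fun f hf => ?_⟩
    rw [zero_add, pow_one, Ideal.smul_top_eq_map, Submodule.restrictScalars_mem]
    have h1 : evalIn D x f ∈ RingHom.ker D.β := (β_evalIn P D x hx f).trans hf
    rw [D.ker_eq] at h1
    exact Ideal.map_mono (fun a ha => (Art.mem_maximalIdeal_iff A a).mpr ha) h1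
  | succ n ih =>
    obtain ⟨x, hx, hv⟩ := ih
    exact exists_step P D hT (n + 1) (by omega) x hx hv

end Groth.L14.DefLift
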