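import Groth.Agent.L14.DefLift.Rigid

/-! # Rigid algebras only have trivial deformations -/

set_option autoImplicit false
set_option linter.style.haveILetI false
set_option backward.isDefEq.respectTransparency false

universe u

open TensorProduct MvPolynomial ArtFun CategoryTheory CategoryTheory.Limits AlgebraicGeometry

namespace Groth.L14.DefLift

variable {k B₀ ι σ : Type u} [Field k] [CommRing B₀] [Algebra k B₀] (P : Algebra.Presentation k B₀ ι σ)
variable {A : Art k k} (D : Defo B₀ A A.res.toRingHom)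

theorem exists_const_presentation (hT : Subsingleton (CotT.T1 P B₀)) :
    ∃ x : ι → D.B, (∀ i, D.β (x i) = P.val i) ∧ (∀ f, MvPolynomial.aeval P.val f = 0 → evalIn D x f = 0) ∧
      Function.Surjective (MvPolynomial.aeval x : MvPolynomial ι A →ₐ[A] D.B) ∧
      RingHom.ker (MvPolynomial.aeval x : MvPolynomial ι A →ₐ[A] D.B) =
        (RingHom.ker (MvPolynomial.aeval P.val)).map (MvPolynomial.map (algebraMap k A)) := by
  obtain ⟨x, hx, hv⟩ := exists_const_lift P D hT
  refine ⟨x, hx, hv, ?_⟩
  haveI := D.flat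
  let B := D.B
  let m := RingHom.ker A.res.toRingHom
  haveI : m.IsMaximal := RingHom.ker_isMaximal_of_surjective _ A.res_surjective
  have hm : IsNilpotent m := by
    rw [show m = IsLocalRing.maximalIdeal A from Ideal.ext fun a => (Art.mem_maximalIdeal_iff A a).symm]
    exact Groth.L12.isNilpotent_maximalIdeal A
  haveI : Module.Flat A (A ⊗[A] B) := Module.Flat.of_linearEquiv (TensorProduct.lid A B)
  haveI : Module.Free A B := Groth.L01.NilDescent.free_of_flat_baseChange m hm A Function.injective_id B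
  let πA : MvPolynomial ι A →ₐ[A] B := MvPolynomial.aeval x
  let res : MvPolynomial ι A →+* MvPolynomial ι k := MvPolynomial.map A.res.toRingHom
  let inc : MvPolynomial ι k →+* MvPolynomial ι A := MvPolynomial.map (algebraMap k A)
  have hri : ∀ f, res (inc f) = f := fun f => by
    show MvPolynomial.map _ (MvPolynomial.map _ f) = f
    rw [MvPolynomial.map_map, show A.res.toRingHom.comp (algebraMap k A) = RingHom.id k from
      RingHom.ext A.res.commutes, MvPolynomial.map_id]
  have hkres : ∀ a : MvPolynomial ι A, res a = 0 → a ∈ m • (⊤ : Submodule A (MvPolynomial ι A)) := fun a ha => by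
    rw [Ideal.smul_top_eq_map, Submodule.restrictScalars_mem, MvPolynomial.algebraMap_eq, ← MvPolynomial.ker_map]
    exact ha
  have hβπ : ∀ a, D.β (πA a) = MvPolynomial.aeval P.val (res a) := by
    refine fun a => RingHom.congr_fun (f := D.β.comp πA.toRingHom) (g := (MvPolynomial.aeval P.val).toRingHom.comp res)
      (MvPolynomial.ringHom_ext (fun c => ?_) fun i => ?_) a
    · show D.β (MvPolynomial.aeval x (C c)) = MvPolynomial.aeval P.val (MvPolynomial.map A.res.toRingHom (C c))
      rw [MvPolynomial.aeval_C, MvPolynomial.map_C, MvPolynomial.aeval_C, D.comm]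
    · show D.β (MvPolynomial.aeval x (X i)) = MvPolynomial.aeval P.val (MvPolynomial.map A.res.toRingHom (X i))
      rw [MvPolynomial.aeval_X, MvPolynomial.map_X, MvPolynomial.aeval_X, hx]
  have hsurj : Function.Surjective πA := by
    rw [← AlgHom.coe_toLinearMap, ← LinearMap.range_eq_top, eq_top_iff]
    refine le_of_nilpotent hm fun b _ => ?_
    obtain ⟨f, hf⟩ := P.toGenerators.aeval_val_surjective (D.β b)
    refine Submodule.mem_sup.mpr ⟨πA (inc f), ⟨inc f, rfl⟩, b - πA (inc f), ?_, add_sub_cancel _ _⟩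
    rw [Ideal.smul_top_eq_map, Submodule.restrictScalars_mem, ← D.ker_eq, RingHom.mem_ker, map_sub, hβπ, hri, hf,
      sub_self]
  refine ⟨hsurj, le_antisymm ?_ ?_⟩
  · obtain ⟨s, hs⟩ := Module.projective_lifting_property πA.toLinearMap LinearMap.id hsurj
    let qI : MvPolynomial ι A →ₗ[A] LinearMap.ker πA.toLinearMap :=
      (LinearMap.id - s ∘ₗ πA.toLinearMap).codRestrict _ fun a => by
        show πA (a - s (πA a)) = 0
        rw [map_sub, show πA (s (πA a)) = πA a from LinearMap.congr_fun hs _, sub_self]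
    suffices h : LinearMap.ker πA.toLinearMap ≤
        ((RingHom.ker (MvPolynomial.aeval P.val)).map inc).restrictScalars A from fun a ha => h ha
    refine le_of_nilpotent hm fun a ha => ?_
    have h1 : res a ∈ RingHom.ker (MvPolynomial.aeval P.val) := by
      rw [RingHom.mem_ker, ← hβπ, show πA a = 0 from ha, map_zero]
    refine Submodule.mem_sup.mpr ⟨inc (res a), Ideal.mem_map_of_mem _ h1, a - inc (res a), ?_, add_sub_cancel _ _⟩
    have h2 : πA (a - inc (res a)) = 0 := by
      rw [map_sub, show πA a = 0 from ha, zero_sub, neg_eq_zero,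
        show πA (inc (res a)) = evalIn D x (res a) from MvPolynomial.eval₂_map _ _ _ _]
      exact hv _ h1
    have h3 := Submodule.mem_map_of_mem (f := qI) (hkres (a - inc (res a)) (by rw [map_sub, hri, sub_self]))
    rw [Submodule.map_smul''] at h3
    have h4 := Submodule.mem_map_of_mem (f := (LinearMap.ker πA.toLinearMap).subtype) h3
    rw [Submodule.map_smul''] at h4
    have h5 : Submodule.map (LinearMap.ker πA.toLinearMap).subtype (Submodule.map qI ⊤) ≤
        LinearMap.ker πA.toLinearMap := Submodule.map_le_iff_le_comap.2 fun z _ => z.2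
    convert Submodule.smul_mono (le_refl m) h5 h4 using 1
    show a - inc (res a) = (a - inc (res a)) - s (πA (a - inc (res a)))
    rw [h2, map_zero, sub_zero]
  · refine Ideal.map_le_iff_le_comap.2 fun f hf => ?_
    exact (MvPolynomial.eval₂_map (algebraMap k A) x (algebraMap A D.B) f).trans (hv f hf)

/-- Rigid algebras only have trivial deformations. -/
theorem iso_trivial (hT : Subsingleton (CotT.T1 P B₀))
    (hflat : Flat (Spec.map (CommRingCat.ofHom (algebraMap k B₀)))) :
    Nonempty ((toSch D).Iso (DefSch.trivial (Spec (CommRingCat.of B₀))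
      (Spec.map (CommRingCat.ofHom (algebraMap k B₀))) hflat A)) := by
  obtain ⟨x, hx, hv, hsurj, hker⟩ := exists_const_presentation P D hT
  let πA : MvPolynomial ι A →ₐ[A] D.B := MvPolynomial.aeval x
  have hP : Function.Surjective (MvPolynomial.aeval P.val : MvPolynomial ι k →ₐ[k] B₀) :=
    P.toGenerators.aeval_val_surjective
  have hev : RingHom.ker (MvPolynomial.aeval P.val : MvPolynomial ι k →ₐ[k] B₀).toRingHom ≤ RingHom.ker (evalIn D x) :=
    fun f hf => hv f hf
  let s : B₀ →+* D.B := RingHom.liftOfSurjective (MvPolynomial.aeval P.val : MvPolynomial ι k →ₐ[k] B₀).toRingHom hP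
    ⟨evalIn D x, hev⟩
  have hs : ∀ f, s (MvPolynomial.aeval P.val f) = evalIn D x f := fun f =>
    RingHom.liftOfRightInverse_comp_apply _ _ _ _ f
  have hs0 : ∀ c, s (algebraMap k B₀ c) = algebraMap A D.B (algebraMap k A c) := fun c => by
    rw [← AlgHom.commutes (MvPolynomial.aeval P.val) c, hs]
    exact MvPolynomial.eval₂Hom_C _ _ c
  have hsb : ∀ b, D.β (s b) = b := fun b => by
    obtain ⟨f, rfl⟩ := hP b
    rw [hs, β_evalIn P D x hx]
  have hw : CommRingCat.ofHom (algebraMap k A) ≫ CommRingCat.ofHom (algebraMap A D.B) =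
      CommRingCat.ofHom (algebraMap k B₀) ≫ CommRingCat.ofHom s :=
    CommRingCat.hom_ext (RingHom.ext fun c => (hs0 c).symm)
  have hd : ∀ {T : CommRingCat.{u}} (a : CommRingCat.of A ⟶ T) (b : CommRingCat.of B₀ ⟶ T),
      CommRingCat.ofHom (algebraMap k A) ≫ a = CommRingCat.ofHom (algebraMap k B₀) ≫ b →
      ∀ z ∈ RingHom.ker πA, (MvPolynomial.eval₂Hom a.hom fun i => b.hom (P.val i)) z = 0 := by
    intro T a b hab z hz
    rw [hker] at hz
    refine (Ideal.map_le_iff_le_comap.2 fun f (hf : MvPolynomial.aeval P.val f = 0) => ?_ :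
      _ ≤ RingHom.ker (MvPolynomial.eval₂Hom a.hom fun i => b.hom (P.val i))) hz
    show MvPolynomial.eval₂Hom a.hom (fun i => b.hom (P.val i)) (MvPolynomial.map (algebraMap k A) f) = 0
    rw [MvPolynomial.eval₂Hom_map_hom, ← map_zero b.hom, ← hf]
    refine RingHom.congr_fun (g := b.hom.comp (MvPolynomial.aeval P.val).toRingHom)
      (MvPolynomial.ringHom_ext (fun c => ?_) fun i => by simp) f
    simpa using ConcreteCategory.congr_hom hab c
  have hpo : IsPushout (CommRingCat.ofHom (algebraMap k A)) (CommRingCat.ofHom (algebraMap k B₀))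
      (CommRingCat.ofHom (algebraMap A D.B)) (CommRingCat.ofHom s) := by
    let d : ∀ {T : CommRingCat.{u}} (a : CommRingCat.of A ⟶ T) (b : CommRingCat.of B₀ ⟶ T),
        CommRingCat.ofHom (algebraMap k A) ≫ a = CommRingCat.ofHom (algebraMap k B₀) ≫ b →
        (CommRingCat.of D.B ⟶ T) := fun a b hab =>
      CommRingCat.ofHom (RingHom.liftOfSurjective πA.toRingHom hsurj ⟨_, hd a b hab⟩)
    have hdA : ∀ {T : CommRingCat.{u}} (a : CommRingCat.of A ⟶ T) (b : CommRingCat.of B₀ ⟶ T) (hab)
        (z : MvPolynomial ι A), (d a b hab).hom (πA z) = MvPolynomial.eval₂Hom a.hom (fun i => b.hom (P.val i)) z :=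
      fun a b hab z => RingHom.liftOfRightInverse_comp_apply _ _ _ _ z
    refine ⟨⟨hw⟩, ⟨PushoutCocone.IsColimit.mk _ (fun c => d c.inl c.inr c.condition)
      (fun c => CommRingCat.hom_ext (RingHom.ext fun a => ?_))
      (fun c => CommRingCat.hom_ext (RingHom.ext fun b => ?_))
      (fun c q h₁ h₂ => CommRingCat.hom_ext (RingHom.ext fun z => ?_))⟩⟩
    · show (d c.inl c.inr c.condition).hom (algebraMap A D.B a) = c.inl.hom a
      rw [← AlgHom.commutes πA a, hdA c.inl c.inr c.condition]
      exact MvPolynomial.eval₂Hom_C _ _ a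
    · obtain ⟨f, rfl⟩ := hP b
      show (d c.inl c.inr c.condition).hom (s (MvPolynomial.aeval P.val f)) = _
      rw [hs, show evalIn D x f = πA (MvPolynomial.map (algebraMap k A) f) from
        (MvPolynomial.eval₂_map _ _ _ _).symm, hdA c.inl c.inr c.condition, MvPolynomial.eval₂Hom_map_hom]
      refine RingHom.congr_fun (g := c.inr.hom.comp (MvPolynomial.aeval P.val).toRingHom)
        (MvPolynomial.ringHom_ext (fun e => ?_) fun i => by simp) f
      simpa using ConcreteCategory.congr_hom c.condition e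
    · obtain ⟨z, rfl⟩ := hsurj z
      refine Eq.trans ?_ (hdA c.inl c.inr c.condition z).symm
      refine RingHom.congr_fun (f := q.hom.comp πA.toRingHom) (g := MvPolynomial.eval₂Hom c.inl.hom _)
        (MvPolynomial.ringHom_ext (fun e => ?_) fun i => ?_) z
      · simpa [πA] using ConcreteCategory.congr_hom h₁ e
      · have h := ConcreteCategory.congr_hom h₂ (P.val i)
        rw [MvPolynomial.eval₂Hom_X', ← h]
        show q.hom (MvPolynomial.aeval x (MvPolynomial.X i)) = q.hom (s (P.val i))
        rw [MvPolynomial.aeval_X, ← MvPolynomial.aeval_X (R := k) P.val i, hs, evalIn, MvPolynomial.eval₂Hom_X']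
  have hq : IsPullback (Spec.map (CommRingCat.ofHom s)) (toSch D).f
      (Spec.map (CommRingCat.ofHom (algebraMap k B₀))) (Art.specMap (Art.ofBase A)) :=
    (isPullback_SpecMap_of_isPushout _ _ _ _ hpo).flip
  refine ⟨⟨hq.isoIsPullback _ _ (IsPullback.of_hasPullback _ _), IsPullback.isoIsPullback_hom_snd _ _ _ _, ?_⟩⟩
  apply pullback.hom_ext
  · refine (Category.assoc _ _ _).trans ((congrArg (_ ≫ ·) (IsPullback.isoIsPullback_hom_fst _ _ _ _)).trans ?_)
    refine Eq.trans ?_ (DefSch.baseChange_i_fst (DefSch.self _ _ hflat) (Art.ofBase A)).symm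
    exact (Spec.map_comp _ _).symm.trans
      ((congrArg Spec.map (CommRingCat.hom_ext (RingHom.ext hsb))).trans (Spec.map_id _))
  · refine (Category.assoc _ _ _).trans ((congrArg (_ ≫ ·) (IsPullback.isoIsPullback_hom_snd _ _ _ _)).trans ?_)
    exact (toSch D).i_f.trans (DefSch.baseChange_i_f (DefSch.self _ _ hflat) (Art.ofBase A)).symm

end Groth.L14.DefLift

namespace Groth.L14.DefLift

variable {Λ k B₀ : Type u} [CommRing Λ] [Field k] [Algebra Λ k] [CommRing B₀] [Algebra k B₀]

/-- Every deformation of `Spec B₀` is isomorphic to one from an algebra. -/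
theorem exists_iso_toSch {A : Art Λ k}
    (ξ : DefSch (Spec (CommRingCat.of B₀)) (Spec.map (CommRingCat.ofHom (algebraMap k B₀))) A) :
    ∃ D : Defo B₀ A A.res.toRingHom, Nonempty (ξ.Iso (toSch D)) := by
  obtain ⟨D, e, h1, h2⟩ := exists_defo ξ
  exact ⟨D, ⟨⟨e, h1, h2⟩⟩⟩

end Groth.L14.DefLift
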