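import Groth.Agent.L14.DefLift.Lift
import Groth.Agent.L20.ThickAffine
import Groth.Prelude.Def_ArtFun4
import Mathlib.RingTheory.RingHom.Flat

/-! # The deformation functor of an unobstructed affine scheme is smooth -/

set_option autoImplicit false
set_option linter.style.haveILetI false

universe u

open CategoryTheory CategoryTheory.Limits AlgebraicGeometry ArtFun ArtFun.Art

namespace Groth.L14.DefLift

theorem isPushout_of_surjective {A S H B : CommRingCat.{u}} (f : A ⟶ S) (γ : A ⟶ H) (β : S ⟶ B) (δ : H ⟶ B)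
    (w : f ≫ β = γ ≫ δ) (hs : Function.Surjective f.hom) (hδ : Function.Surjective δ.hom)
    (hker : RingHom.ker δ.hom ≤ (RingHom.ker f.hom).map γ.hom) : IsPushout f γ β δ := by
  have hk : ∀ {T : CommRingCat.{u}} (a : S ⟶ T) (b : H ⟶ T), f ≫ a = γ ≫ b →
      ∀ c ∈ RingHom.ker δ.hom, b.hom c = 0 := fun a b hab c hc =>
    (Ideal.map_le_iff_le_comap.2 fun x (hx : f.hom x = 0) =>
      ((ConcreteCategory.congr_hom hab x).symm.trans ((congrArg a.hom hx).trans (map_zero a.hom))) :
      (RingHom.ker f.hom).map γ.hom ≤ RingHom.ker b.hom) (hker hc)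
  let d : ∀ {T : CommRingCat.{u}} (a : S ⟶ T) (b : H ⟶ T), f ≫ a = γ ≫ b → (B ⟶ T) := fun a b hab =>
    CommRingCat.ofHom ((Ideal.Quotient.lift _ b.hom (hk a b hab)).comp
      (RingHom.quotientKerEquivOfSurjective hδ).symm.toRingHom)
  have hd : ∀ {T : CommRingCat.{u}} (a : S ⟶ T) (b : H ⟶ T) (hab : f ≫ a = γ ≫ b) (c : H),
      (d a b hab).hom (δ.hom c) = b.hom c := fun a b hab c =>
    (congrArg (Ideal.Quotient.lift _ b.hom (hk a b hab))
      ((RingHom.quotientKerEquivOfSurjective hδ).symm_apply_apply (Ideal.Quotient.mk _ c))).trans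
      (Ideal.Quotient.lift_mk _ _ _)
  refine ⟨⟨w⟩, ⟨PushoutCocone.IsColimit.mk _ (fun s => d s.inl s.inr s.condition)
    (fun s => CommRingCat.hom_ext (RingHom.ext fun z => ?_))
    (fun s => CommRingCat.hom_ext (RingHom.ext fun c => hd s.inl s.inr s.condition c))
    (fun s m h₁ h₂ => CommRingCat.hom_ext (RingHom.ext fun b => ?_))⟩⟩
  · obtain ⟨a, rfl⟩ := hs z
    show (d s.inl s.inr s.condition).hom (β.hom (f.hom a)) = s.inl.hom (f.hom a)
    rw [show β.hom (f.hom a) = δ.hom (γ.hom a) from ConcreteCategory.congr_hom w a, hd s.inl s.inr s.condition]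
    exact (ConcreteCategory.congr_hom s.condition a).symm
  · obtain ⟨c, rfl⟩ := hδ b
    exact (ConcreteCategory.congr_hom h₂ c).trans (hd s.inl s.inr s.condition c).symm

variable {Λ k : Type u} [CommRing Λ] [Field k] [Algebra Λ k] {B₀ : Type u} [CommRing B₀] [Algebra k B₀]

/-- Every deformation of an affine scheme is affine and comes from a deformation of the algebra. -/
theorem exists_defo {A : Art Λ k}
    (ξ : DefSch (Spec (CommRingCat.of B₀)) (Spec.map (CommRingCat.ofHom (algebraMap k B₀))) A) :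
    ∃ (D : Defo B₀ A A.res.toRingHom) (e : ξ.total ≅ Spec (CommRingCat.of D.B)),
      e.hom ≫ Spec.map (CommRingCat.ofHom (algebraMap A D.B)) = ξ.f ∧
      ξ.i ≫ e.hom = Spec.map (CommRingCat.ofHom D.β) := by
  haveI : IsClosedImmersion (specRes A) := IsClosedImmersion.spec_of_surjective _ A.res_surjective
  have hs : ∀ P Q : PrimeSpectrum A, P = Q := fun P Q =>
    PrimeSpectrum.ext ((IsLocalRing.eq_maximalIdeal (Ideal.IsPrime.isMaximal' P.isPrime)).trans
      (IsLocalRing.eq_maximalIdeal (Ideal.IsPrime.isMaximal' Q.isPrime)).symm)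
  haveI : Surjective (specRes A) := ⟨fun z => ⟨⟨⊥, Ideal.isPrime_bot⟩, hs _ _⟩⟩
  haveI : IsClosedImmersion ξ.i :=
    MorphismProperty.of_isPullback (P := @IsClosedImmersion.{u}) ξ.isPullback.flip inferInstance
  haveI : Surjective ξ.i := MorphismProperty.of_isPullback (P := @Surjective.{u}) ξ.isPullback.flip inferInstance
  haveI : IsAffine ξ.total := Groth.L20.ThickAffine.isAffine_of_surjective ξ.i ξ.i.surjective
  let R : CommRingCat.{u} := Γ(ξ.total, ⊤)
  let e : ξ.total ≅ Spec R := ξ.total.isoSpec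
  let φ : CommRingCat.of A ⟶ R := Spec.preimage (e.inv ≫ ξ.f)
  let β : R ⟶ CommRingCat.of B₀ := Spec.preimage (ξ.i ≫ e.hom)
  have hφ : Spec.map φ = e.inv ≫ ξ.f := Spec.map_preimage _
  have hβ : Spec.map β = ξ.i ≫ e.hom := Spec.map_preimage _
  letI : Algebra A R := φ.hom.toAlgebra
  have hflat : Module.Flat A R := by
    haveI : Flat (Spec.map φ) := by rw [hφ]; infer_instance
    exact RingHom.flat_algebraMap_iff.mp (HasRingHomProperty.Spec_iff.mp ‹Flat (Spec.map φ)›)
  have hw : φ ≫ β = CommRingCat.ofHom A.res.toRingHom ≫ CommRingCat.ofHom (algebraMap k B₀) := by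
    apply Spec.map_injective
    rw [Spec.map_comp, Spec.map_comp, hφ, hβ, Category.assoc, e.hom_inv_id_assoc]
    exact ξ.isPullback.w
  have hpb : IsPullback (Spec.map β) (Spec.map (CommRingCat.ofHom (algebraMap k B₀))) (Spec.map φ) (specRes A) :=
    ξ.isPullback.of_iso (Iso.refl _) e (Iso.refl _) (Iso.refl _) (by simp [hβ]) (by simp) (by simp [hφ]) (by simp)
  -- compare with the quotient
  let J : Ideal R := (RingHom.ker A.res.toRingHom).map φ.hom
  let j : k →+* R ⧸ J := RingHom.liftOfSurjective A.res.toRingHom A.res_surjective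
    ⟨(Ideal.Quotient.mk J).comp φ.hom, fun a ha => Ideal.Quotient.eq_zero_iff_mem.mpr (Ideal.mem_map_of_mem _ ha)⟩
  have hj : ∀ a, j (A.res a) = Ideal.Quotient.mk J (φ.hom a) := fun a =>
    RingHom.liftOfRightInverse_comp_apply A.res.toRingHom _ _ _ a
  have hpo := isPushout_of_surjective (CommRingCat.ofHom A.res.toRingHom) φ (CommRingCat.ofHom j)
    (CommRingCat.ofHom (Ideal.Quotient.mk J)) (CommRingCat.hom_ext (RingHom.ext hj)) A.res_surjective
    Ideal.Quotient.mk_surjective Ideal.mk_ker.le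
  have hq := (isPullback_SpecMap_of_isPushout _ _ _ _ hpo).flip
  let E := hpb.isoIsPullback _ _ hq
  let ε : CommRingCat.of (R ⧸ J) ⟶ CommRingCat.of B₀ := Spec.preimage E.hom
  have hε : Spec.map ε = E.hom := Spec.map_preimage _
  have heq : β = CommRingCat.ofHom (Ideal.Quotient.mk J) ≫ ε := by
    apply Spec.map_injective
    rw [Spec.map_comp, hε, IsPullback.isoIsPullback_hom_fst]
  haveI : IsIso ε := by
    haveI : IsIso (Scheme.Spec.map ε.op) := by
      show IsIso (Spec.map ε)
      rw [hε]; infer_instance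
    haveI : IsIso ε.op := isIso_of_fully_faithful Scheme.Spec ε.op
    exact isIso_of_op ε
  have hεb : Function.Bijective ε.hom := ConcreteCategory.bijective_of_isIso ε
  have hβs : Function.Surjective β.hom := by
    rw [heq]
    exact hεb.2.comp Ideal.Quotient.mk_surjective
  refine ⟨⟨R, hflat, β.hom, hβs, fun a => ConcreteCategory.congr_hom hw a, ?_⟩, e, ?_, hβ.symm⟩
  · show RingHom.ker β.hom = J
    rw [heq, CommRingCat.hom_comp, RingHom.ker_comp_of_injective _ hεb.1]
    exact Ideal.mk_ker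
  · show e.hom ≫ Spec.map φ = ξ.f
    rw [hφ, e.hom_inv_id_assoc]

/-- The deformation functor of an unobstructed algebra maps surjections to surjections. -/
theorem surjective_map {ι : Type u} {σ : Type u} [Fintype σ] [DecidableEq σ] (π₀ : MvPolynomial ι k →ₐ[k] B₀)
    (hπ₀ : Function.Surjective π₀) (f : σ → MvPolynomial ι k) (hf : Ideal.span (Set.range f) = RingHom.ker π₀)
    (hun : Unobstructed π₀ f) {A' A : Art Λ k} (μ : A' ⟶ A) (hμ : Function.Surjective μ) :
    Function.Surjective
      ((defFunctor (Spec (CommRingCat.of B₀)) (Spec.map (CommRingCat.ofHom (algebraMap k B₀)))).map μ) := by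
  intro c
  induction c using Quotient.inductionOn with | h ξ => ?_
  obtain ⟨D, e, hef, hei⟩ := exists_defo ξ
  let p : A' →+* A := μ.toAlgHom.toRingHom
  obtain ⟨D', q, hq, hqc, hqb, hqk⟩ := lifts hπ₀ hf hun p hμ A.res.toRingHom A.res_surjective D
  have hres : A.res.toRingHom.comp p = A'.res.toRingHom := congrArg AlgHom.toRingHom μ.res_comp
  have hflat : Flat (Spec.map (CommRingCat.ofHom (algebraMap A' D'.B))) :=
    HasRingHomProperty.Spec_iff.mpr (RingHom.flat_algebraMap_iff.mpr D'.flat)
  have hpoβ := isPushout_of_surjective (CommRingCat.ofHom A'.res.toRingHom) (CommRingCat.ofHom (algebraMap A' D'.B))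
    (CommRingCat.ofHom (algebraMap k B₀)) (CommRingCat.ofHom D'.β)
    (CommRingCat.hom_ext (RingHom.ext fun a => ((D'.comm a).trans
      (congrArg (algebraMap k B₀) (RingHom.congr_fun hres a))).symm))
    A'.res_surjective D'.surj (by
      show RingHom.ker D'.β ≤ (RingHom.ker A'.res.toRingHom).map (algebraMap A' D'.B)
      exact D'.ker_eq.le.trans (le_of_eq (congrArg (fun t => (RingHom.ker t).map (algebraMap A' D'.B)) hres)))
  let ξ' : DefSch (Spec (CommRingCat.of B₀)) (Spec.map (CommRingCat.ofHom (algebraMap k B₀))) A' :=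
    { total := Spec (CommRingCat.of D'.B)
      f := Spec.map (CommRingCat.ofHom (algebraMap A' D'.B))
      flat := hflat
      i := Spec.map (CommRingCat.ofHom D'.β)
      isPullback := (isPullback_SpecMap_of_isPushout _ _ _ _ hpoβ).flip }
  refine ⟨ξ'.cl, Quotient.sound ?_⟩
  have hpoq := isPushout_of_surjective (CommRingCat.ofHom p) (CommRingCat.ofHom (algebraMap A' D'.B))
    (CommRingCat.ofHom (algebraMap A D.B)) (CommRingCat.ofHom q)
    (CommRingCat.hom_ext (RingHom.ext fun a => (hqc a).symm)) hμ hq hqk.le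
  have hq' : IsPullback (Spec.map (CommRingCat.ofHom q)) (Spec.map (CommRingCat.ofHom (algebraMap A D.B))) ξ'.f
      (specMap μ) := (isPullback_SpecMap_of_isPushout _ _ _ _ hpoq).flip
  let E := (IsPullback.of_hasPullback ξ'.f (specMap μ)).isoIsPullback _ _ hq'
  refine ⟨⟨E ≪≫ e.symm, ?_, ?_⟩⟩
  · rw [CategoryTheory.Iso.trans_hom, CategoryTheory.Iso.symm_hom, Category.assoc, ← hef, e.inv_hom_id_assoc]
    exact IsPullback.isoIsPullback_hom_snd _ _ _ _
  · rw [CategoryTheory.Iso.trans_hom, CategoryTheory.Iso.symm_hom, ← Category.assoc, Iso.comp_inv_eq]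
    apply hq'.hom_ext
    · rw [Category.assoc, IsPullback.isoIsPullback_hom_fst, DefSch.baseChange_i_fst, hei]
      show Spec.map (CommRingCat.ofHom D'.β) = _
      rw [← Spec.map_comp, ← CommRingCat.ofHom_comp]
      exact congrArg (fun t => Spec.map (CommRingCat.ofHom t)) (RingHom.ext fun b => (hqb b).symm)
    · rw [Category.assoc, IsPullback.isoIsPullback_hom_snd, DefSch.baseChange_i_f, hei]
      rw [← Spec.map_comp, ← Spec.map_comp, ← CommRingCat.ofHom_comp, ← CommRingCat.ofHom_comp]
      exact congrArg (fun t => Spec.map (CommRingCat.ofHom t)) (RingHom.ext fun b => (D.comm b).symm)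

end Groth.L14.DefLift
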