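import Groth.Agent.L14.DefLift.Glue
import Groth.Agent.L12.Tangent
import Mathlib.RingTheory.Extension.Cotangent.Basic
import Mathlib.RingTheory.Extension.Generators

/-! # First-order deformations of an algebra and a concrete `T¹` -/

set_option autoImplicit false
set_option linter.style.haveILetI false
set_option backward.isDefEq.respectTransparency false

universe u w

open CategoryTheory AlgebraicGeometry MvPolynomial TensorProduct ArtFun ArtFun.Art

namespace Groth.L14.DefLift

variable {Λ k B₀ : Type u} [CommRing Λ] [Field k] [Algebra Λ k] [CommRing B₀] [Algebra k B₀]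
variable {ι : Type w} (G : Algebra.Generators k B₀ ι)

/-- Evaluation of a polynomial over `k` in a deformation, along a section. -/
noncomputable def evS {A : Art Λ k} (s : k →+* A) (D : Defo B₀ A A.res.toRingHom) (x : ι → D.B) :
    MvPolynomial (ι) k →+* D.B :=
  eval₂Hom ((algebraMap A D.B).comp s) x

theorem β_evS {A : Art Λ k} (s : k →+* A) (hs : ∀ c, A.res (s c) = c) (D : Defo B₀ A A.res.toRingHom)
    (x : ι → D.B) (hx : ∀ i, D.β (x i) = G.val i) (f : MvPolynomial (ι) k) :
    D.β (evS s D x f) = aeval G.val f := by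
  refine RingHom.congr_fun (f := D.β.comp (evS s D x)) (g := (aeval G.val).toRingHom)
    (MvPolynomial.ringHom_ext (fun c => ?_) fun i => ?_) f
  · show D.β (evS s D x (C c)) = aeval G.val (C c)
    rw [evS, eval₂Hom_C, RingHom.comp_apply, D.comm, aeval_C]
    exact congrArg _ (hs c)
  · show D.β (evS s D x (X i)) = aeval G.val (X i)
    rw [evS, eval₂Hom_X', hx, aeval_X]

theorem map_evS {A A' : Art Λ k} (μ : A ⟶ A') (s : k →+* A) (s' : k →+* A') (hμ : ∀ c, μ (s c) = s' c)
    (D : Defo B₀ A A.res.toRingHom) (D' : Defo B₀ A' A'.res.toRingHom) (q : D.B →+* D'.B)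
    (hq : ∀ a, q (algebraMap A D.B a) = algebraMap A' D'.B (μ a)) (x : ι → D.B) (f : MvPolynomial (ι) k) :
    q (evS s D x f) = evS s' D' (fun i => q (x i)) f := by
  refine RingHom.congr_fun (f := q.comp (evS s D x)) (g := evS s' D' fun i => q (x i))
    (MvPolynomial.ringHom_ext (fun c => ?_) fun i => ?_) f
  · show q (evS s D x (C c)) = evS s' D' (fun i => q (x i)) (C c)
    rw [evS, evS, eval₂Hom_C, eval₂Hom_C, RingHom.comp_apply, RingHom.comp_apply, hq, hμ]
  · show q (evS s D x (X i)) = evS s' D' (fun i => q (x i)) (X i)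
    rw [evS, evS, eval₂Hom_X', eval₂Hom_X']

variable (Λ k) in
/-- `ε`. -/
def dEps : dual Λ k := (DualNumber.eps : DualNumber k)

variable (Λ k) in
/-- `k → k[ε]`. -/
def dIn : k →+* dual Λ k := TrivSqZeroExt.inlHom k k

theorem res_dIn (c : k) : (dual Λ k).res (dIn Λ k c) = c := rfl

theorem dual_decomp (c : dual Λ k) :
    c = dIn Λ k (TrivSqZeroExt.fst c) + dEps Λ k * dIn Λ k (TrivSqZeroExt.snd c) := by
  have key : ∀ c' : DualNumber k, c' = (TrivSqZeroExt.inl (TrivSqZeroExt.fst c') : DualNumber k) +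
      (DualNumber.eps : DualNumber k) * (TrivSqZeroExt.inl (TrivSqZeroExt.snd c') : DualNumber k) := fun c' => by
    ext <;> simp
  exact key c

theorem dEps_mul_self : dEps Λ k * dEps Λ k = 0 := DualNumber.eps_mul_eps

theorem fst_dEps : (dual Λ k).res.toRingHom (dEps Λ k) = 0 := DualNumber.fst_eps

theorem snd_dEps_mul (c : dual Λ k) : TrivSqZeroExt.snd (dEps Λ k * c) = TrivSqZeroExt.fst c := by
  have key : ∀ c' : DualNumber k,
      TrivSqZeroExt.snd ((DualNumber.eps : DualNumber k) * c') = TrivSqZeroExt.fst c' := fun c' => by simp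
  exact key c

variable (D : Defo B₀ (dual Λ k) (dual Λ k).res.toRingHom)

/-- `ε` in a deformation. -/
noncomputable abbrev eB : D.B := algebraMap (dual Λ k) D.B (dEps Λ k)

theorem β_eB : D.β (eB D) = 0 := by
  rw [eB, D.comm, fst_dEps, map_zero]

theorem exists_eq_eB_mul {b : D.B} (h : D.β b = 0) : ∃ z, b = eB D * z := by
  have h1 : b ∈ RingHom.ker D.β := h
  rw [D.ker_eq] at h1
  have h2 : b ∈ Ideal.span {eB D} := by
    refine Ideal.map_le_iff_le_comap.2 (fun c hc => ?_) h1
    show algebraMap (dual Λ k) D.B c ∈ Ideal.span {eB D}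
    rw [dual_decomp c, show TrivSqZeroExt.fst c = 0 from hc, map_zero, zero_add, map_mul]
    exact Ideal.mul_mem_right _ _ (Ideal.mem_span_singleton_self _)
  obtain ⟨z, hz⟩ := Ideal.mem_span_singleton'.mp h2
  exact ⟨z, by rw [← hz, mul_comm]⟩

theorem β_eq_zero_of_eB_mul {y : D.B} (h : eB D * y = 0) : D.β y = 0 := by
  let v := Module.Basis.ofVectorSpace k B₀
  obtain ⟨w, hw⟩ := exists_lifts D v
  obtain ⟨b, hb⟩ := exists_basis D v w hw
  have h1 : dEps Λ k • b.repr y = 0 := by
    rw [← map_smul, Algebra.smul_def, h, map_zero]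
  rw [← b.linearCombination_repr y, hb, β_linearCombination]
  rw [show (b.repr y).mapRange (dual Λ k).res (map_zero (dual Λ k).res) = 0 from Finsupp.ext fun j => by
    have h2 : dEps Λ k * b.repr y j = 0 := DFunLike.congr_fun h1 j
    have h3 := congrArg TrivSqZeroExt.snd h2
    rw [snd_dEps_mul] at h3
    rw [Finsupp.mapRange_apply, Finsupp.zero_apply]
    exact h3, map_zero]

theorem β_eq_of_eB_mul {y y' : D.B} (h : eB D * y = eB D * y') : D.β y = D.β y' := by
  rw [← sub_eq_zero, ← map_sub]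
  exact β_eq_zero_of_eB_mul D (by rw [mul_sub, h, sub_self])

theorem eB_mul_eq {y y' : D.B} (h : D.β y = D.β y') : eB D * y = eB D * y' := by
  obtain ⟨z, hz⟩ := exists_eq_eB_mul D (b := y - y') (by rw [map_sub, h, sub_self])
  rw [← sub_eq_zero, ← mul_sub, hz, ← mul_assoc, eB, ← map_mul,
    dEps_mul_self, map_zero, zero_mul]

theorem eB_sq : eB D * eB D = 0 := by
  rw [eB, ← map_mul, dEps_mul_self, map_zero]

theorem exists_y (x : ι → D.B) (hx : ∀ i, D.β (x i) = G.val i) {f : MvPolynomial (ι) k}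
    (hf : aeval G.val f = 0) : ∃ y, evS (dIn Λ k) D x f = eB D * y :=
  exists_eq_eB_mul D (by rw [β_evS G _ res_dIn D x hx, hf])

theorem mem_ker_iff (f : MvPolynomial (ι) k) : f ∈ G.toExtension.ker ↔ aeval G.val f = 0 := by
  rw [show f ∈ G.toExtension.ker ↔ algebraMap G.toExtension.Ring B₀ f = 0 from Iff.rfl, ← G.algebraMap_apply]
  rfl

/-- A cotangent class of a relation. -/
noncomputable def gMk (f : MvPolynomial (ι) k) (hf : aeval G.val f = 0) : G.toExtension.Cotangent :=
  Algebra.Extension.Cotangent.mk ⟨f, (mem_ker_iff G f).mpr hf⟩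

/-- `h` is the class of the deformation at the lifts `x`. -/
def HasCls (x : ι → D.B) (h : G.toExtension.Cotangent →ₗ[B₀] B₀) : Prop :=
  ∀ (f : MvPolynomial (ι) k) (hf : aeval G.val f = 0) (y : D.B),
    evS (dIn Λ k) D x f = eB D * y → h (gMk G f hf) = D.β y

theorem exists_cls (x : ι → D.B) (hx : ∀ i, D.β (x i) = G.val i) : ∃ h, HasCls G D x h := by
  let R := MvPolynomial (ι) k
  let ev : R →+* D.B := evS (dIn Λ k) D x
  have hev : ∀ a : G.toExtension.ker, ∃ y, ev a.1 = eB D * y := fun a =>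
    exists_y G D x hx ((mem_ker_iff G _).mp a.2)
  choose y hy using hev
  let ψ : G.toExtension.ker →+ B₀ := AddMonoidHom.mk' (fun a => D.β (y a)) fun a b => by
    rw [← map_add]
    refine β_eq_of_eB_mul D ?_
    rw [mul_add, ← hy, ← hy, ← hy]
    exact map_add ev a.1 b.1
  have hψ : ∀ (r : G.toExtension.Ring) (a : G.toExtension.ker),
      ψ (r • a) = algebraMap G.toExtension.Ring B₀ r * ψ a := fun r a => by
    show D.β (y (r • a)) = _ * D.β (y a)
    rw [show algebraMap G.toExtension.Ring B₀ r = D.β (ev r) from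
      ((G.algebraMap_apply r).trans (β_evS G _ res_dIn D x hx r).symm), ← map_mul]
    refine β_eq_of_eB_mul D ?_
    rw [← hy, mul_left_comm, ← hy]
    exact map_mul ev r a.1
  have hwd : ∀ a : G.toExtension.ker, Algebra.Extension.Cotangent.mk a = 0 → ψ a = 0 := by
    intro a ha
    have h1 : (a : G.toExtension.Ring) ∈ G.toExtension.ker ^ 2 := (Algebra.Extension.Cotangent.mk_eq_zero_iff _).mp ha
    rw [pow_two] at h1
    have : ∀ z ∈ G.toExtension.ker * G.toExtension.ker, ev z = 0 := fun z hz => by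
      refine Submodule.mul_induction_on hz (fun p hp q hq => ?_) fun p q hp hq => by
        rw [map_add, hp, hq, add_zero]
      rw [map_mul, hy ⟨p, hp⟩, hy ⟨q, hq⟩, mul_mul_mul_comm, eB_sq, zero_mul]
    exact β_eq_zero_of_eB_mul D ((hy a).symm.trans (this _ h1))
  have hsurj := Algebra.Extension.Cotangent.mk_surjective (P := G.toExtension)
  choose sec hsec using hsurj
  have hval : ∀ a, ψ (sec (Algebra.Extension.Cotangent.mk a)) = ψ a := fun a => by
    rw [← sub_eq_zero, ← map_sub]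
    exact hwd _ (by rw [map_sub, hsec, sub_self])
  let h : G.toExtension.Cotangent →ₗ[B₀] B₀ :=
    { toFun := fun z => ψ (sec z)
      map_add' := fun z w => by
        obtain ⟨z, rfl⟩ := Algebra.Extension.Cotangent.mk_surjective z
        obtain ⟨w, rfl⟩ := Algebra.Extension.Cotangent.mk_surjective w
        rw [← map_add, hval, hval, hval, map_add]
      map_smul' := fun r z => by
        obtain ⟨z, rfl⟩ := Algebra.Extension.Cotangent.mk_surjective z
        obtain ⟨r, rfl⟩ := G.toExtension.algebraMap_surjective r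
        rw [algebraMap_smul, ← map_smul, hval, hval, RingHom.id_apply, hψ, smul_eq_mul] }
  refine ⟨h, fun f hf y' hy' => ?_⟩
  show ψ (sec (gMk G f hf)) = _
  rw [gMk, hval]
  exact β_eq_of_eB_mul D ((hy _).symm.trans hy')

theorem hasCls_unique {x : ι → D.B} (hx : ∀ i, D.β (x i) = G.val i)
    {h h' : G.toExtension.Cotangent →ₗ[B₀] B₀} (hh : HasCls G D x h) (hh' : HasCls G D x h') : h = h' := by
  refine LinearMap.ext fun z => ?_
  obtain ⟨⟨f, hf⟩, rfl⟩ := Algebra.Extension.Cotangent.mk_surjective z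
  have hf' : aeval G.val f = 0 := (mem_ker_iff G f).mp hf
  obtain ⟨y, hy⟩ := exists_y G D x hx hf'
  exact (hh f hf' y hy).trans (hh' f hf' y hy).symm

theorem apply_D_mul_X_gen (L : G.toExtension.CotangentSpace →ₗ[B₀] B₀) (p : MvPolynomial (ι) k) (i : ι) :
    L (1 ⊗ₜ KaehlerDifferential.D k G.toExtension.Ring (p * X i)) =
      G.val i * L (1 ⊗ₜ KaehlerDifferential.D k G.toExtension.Ring p) +
        aeval G.val p * L (1 ⊗ₜ KaehlerDifferential.D k G.toExtension.Ring (X i)) := by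
  have h : ∀ (r : G.toExtension.Ring) (w : KaehlerDifferential k G.toExtension.Ring),
      L (1 ⊗ₜ (r • w)) = algebraMap G.toExtension.Ring B₀ r * L (1 ⊗ₜ w) := fun r w => by
    rw [TensorProduct.tmul_smul, ← algebraMap_smul B₀ r ((1 : B₀) ⊗ₜ[G.toExtension.Ring] w), map_smul, smul_eq_mul]
  let p' : G.toExtension.Ring := p
  let X' : G.toExtension.Ring := X i
  show L (1 ⊗ₜ KaehlerDifferential.D k G.toExtension.Ring (p' * X')) = _
  rw [Derivation.leibniz, TensorProduct.tmul_add, map_add, h, h, add_comm]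
  exact congrArg₂ (· + ·) (congrArg (· * _) ((G.algebraMap_apply X').trans (aeval_X _ i)))
    (congrArg (· * _) (G.algebraMap_apply p'))

theorem exists_taylor (L : G.toExtension.CotangentSpace →ₗ[B₀] B₀) (x z : ι → D.B)
    (hx : ∀ i, D.β (x i) = G.val i)
    (hz : ∀ i, D.β (z i) = L (1 ⊗ₜ KaehlerDifferential.D k G.toExtension.Ring (X i)))
    (g : MvPolynomial (ι) k) :
    ∃ w, evS (dIn Λ k) D (fun i => x i + eB D * z i) g = evS (dIn Λ k) D x g + eB D * w ∧
      D.β w = L (1 ⊗ₜ KaehlerDifferential.D k G.toExtension.Ring g) := by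
  induction g using MvPolynomial.induction_on with
  | C a =>
    refine ⟨0, by simp [evS], ?_⟩
    rw [show (KaehlerDifferential.D k G.toExtension.Ring) (C a : MvPolynomial (ι) k) = 0 from
      Derivation.map_algebraMap _ a, TensorProduct.tmul_zero, map_zero, map_zero]
  | add p q hp hq =>
    obtain ⟨w, hw, hw'⟩ := hp
    obtain ⟨w', hw2, hw2'⟩ := hq
    refine ⟨w + w', by rw [map_add, map_add, hw, hw2]; ring, ?_⟩
    rw [map_add, hw', hw2', ← map_add, ← TensorProduct.tmul_add, ← map_add]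
  | mul_X p i hp =>
    obtain ⟨w, hw, hw'⟩ := hp
    refine ⟨w * x i + evS (dIn Λ k) D x p * z i, ?_, ?_⟩
    · have h1 : evS (dIn Λ k) D (fun i => x i + eB D * z i) (X i) = x i + eB D * z i := eval₂Hom_X' _ _ _
      have h2 : evS (dIn Λ k) D x (X i) = x i := eval₂Hom_X' _ _ _
      rw [map_mul, map_mul, h1, h2, hw]
      have h3 := eB_sq D
      linear_combination (w * z i) * h3
    · rw [map_add, map_mul, map_mul, hw', hx, β_evS G _ res_dIn D x hx, hz]
      refine Eq.trans ?_ (apply_D_mul_X_gen G L p i).symm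
      ring

theorem hasCls_shift (L : G.toExtension.CotangentSpace →ₗ[B₀] B₀) {x z : ι → D.B}
    (hx : ∀ i, D.β (x i) = G.val i)
    (hz : ∀ i, D.β (z i) = L (1 ⊗ₜ KaehlerDifferential.D k G.toExtension.Ring (X i)))
    {h : G.toExtension.Cotangent →ₗ[B₀] B₀} (hh : HasCls G D x h) :
    HasCls G D (fun i => x i + eB D * z i) (h + L ∘ₗ G.toExtension.cotangentComplex) := by
  intro f hf y hy
  obtain ⟨w, hw, hw'⟩ := exists_taylor G D L x z hx hz f
  obtain ⟨y₀, hy₀⟩ := exists_y G D x hx hf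
  rw [LinearMap.add_apply, hh f hf y₀ hy₀, LinearMap.comp_apply, gMk, Algebra.Extension.cotangentComplex_mk]
  rw [hw, hy₀, ← mul_add] at hy
  rw [← β_eq_of_eB_mul D hy, map_add, hw']

/-- The concrete `T¹`. -/
abbrev TOne : Type (max u w) :=
  (G.toExtension.Cotangent →ₗ[B₀] B₀) ⧸
    LinearMap.range (LinearMap.lcomp B₀ B₀ G.toExtension.cotangentComplex)

theorem mk_eq_of_lifts {x x' : ι → D.B} (hx : ∀ i, D.β (x i) = G.val i) (hx' : ∀ i, D.β (x' i) = G.val i)
    {h h' : G.toExtension.Cotangent →ₗ[B₀] B₀} (hh : HasCls G D x h) (hh' : HasCls G D x' h') :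
    (Submodule.Quotient.mk h : TOne G) = Submodule.Quotient.mk h' := by
  choose z hz using fun i => exists_eq_eB_mul D (b := x' i - x i) (by rw [map_sub, hx', hx, sub_self])
  let L : G.toExtension.CotangentSpace →ₗ[B₀] B₀ := G.cotangentSpaceBasis.constr B₀ fun i => D.β (z i)
  have hL : ∀ i, D.β (z i) = L (1 ⊗ₜ KaehlerDifferential.D k G.toExtension.Ring (X i)) := fun i => by
    rw [show ((1 : B₀) ⊗ₜ KaehlerDifferential.D k G.toExtension.Ring (X i : MvPolynomial (ι) k)) =
      G.cotangentSpaceBasis i from (G.cotangentSpaceBasis_apply i).symm, Module.Basis.constr_basis]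
  have hx'' : x' = fun i => x i + eB D * z i := funext fun i => by rw [← hz, add_sub_cancel]
  subst hx''
  rw [← hasCls_unique G D hx' (hasCls_shift G D L hx hL hh) hh', eq_comm, Submodule.Quotient.eq, add_sub_cancel_left]
  exact ⟨L, rfl⟩

/-- The class in `T¹` of a first-order deformation. -/
noncomputable def tauD : TOne G :=
  Submodule.Quotient.mk
    (exists_cls G D (fun i => (D.surj (G.val i)).choose) fun i => (D.surj (G.val i)).choose_spec).choose

theorem tauD_eq {x : ι → D.B} (hx : ∀ i, D.β (x i) = G.val i) {h : G.toExtension.Cotangent →ₗ[B₀] B₀}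
    (hh : HasCls G D x h) : tauD G D = Submodule.Quotient.mk h :=
  mk_eq_of_lifts G D (fun i => (D.surj (G.val i)).choose_spec) hx
    (exists_cls G D (fun i => (D.surj (G.val i)).choose) fun i => (D.surj (G.val i)).choose_spec).choose_spec hh

variable {D}

theorem tauD_congr {D' : Defo B₀ (dual Λ k) (dual Λ k).res.toRingHom} (φ : D.B →+* D'.B)
    (h : ∀ a, φ (algebraMap (dual Λ k) D.B a) = algebraMap (dual Λ k) D'.B a) (hb : ∀ b, D'.β (φ b) = D.β b) :
    tauD G D = tauD G D' := by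
  choose x hx using fun i => D.surj (G.val i)
  obtain ⟨h', hh'⟩ := exists_cls G D x hx
  rw [tauD_eq G D hx hh', tauD_eq G D' (x := fun i => φ (x i)) (fun i => by rw [hb, hx]) (h := h') fun f hf y hy => ?_]
  obtain ⟨y₀, hy₀⟩ := exists_y G D x hx hf
  rw [← map_evS (𝟙 (dual Λ k)) (dIn Λ k) (dIn Λ k) (fun c => rfl) D D' φ h x, hy₀, map_mul, h] at hy
  rw [hh' f hf y₀ hy₀, ← hb, β_eq_of_eB_mul D' hy]

theorem poly_decomp (a : MvPolynomial (ι) (dual Λ k)) :
    ∃ a₀ a₁ : MvPolynomial (ι) k,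
      a = MvPolynomial.map (dIn Λ k) a₀ + C (dEps Λ k) * MvPolynomial.map (dIn Λ k) a₁ := by
  induction a using MvPolynomial.induction_on with
  | C c =>
    exact ⟨C (TrivSqZeroExt.fst c), C (TrivSqZeroExt.snd c), by rw [map_C, map_C, ← C_mul, ← C_add, ← dual_decomp]⟩
  | add a b ha hb =>
    obtain ⟨a₀, a₁, rfl⟩ := ha
    obtain ⟨b₀, b₁, rfl⟩ := hb
    exact ⟨a₀ + b₀, a₁ + b₁, by rw [map_add, map_add]; ring⟩
  | mul_X a i ha =>
    obtain ⟨a₀, a₁, rfl⟩ := ha
    exact ⟨a₀ * X i, a₁ * X i, by rw [map_mul, map_mul, map_X]; ring⟩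

theorem aeval_decomp (x : ι → D.B) (a₀ a₁ : MvPolynomial (ι) k) :
    aeval x (MvPolynomial.map (dIn Λ k) a₀ + C (dEps Λ k) * MvPolynomial.map (dIn Λ k) a₁) =
      evS (dIn Λ k) D x a₀ + eB D * evS (dIn Λ k) D x a₁ := by
  rw [map_add, map_mul, aeval_C]
  exact congrArg₂ (· + ·) (eval₂_map _ _ _ _) (congrArg (_ * ·) (eval₂_map _ _ _ _))

theorem aeval_surjective_dual (x : ι → D.B) (hx : ∀ i, D.β (x i) = G.val i) :
    Function.Surjective (aeval x : MvPolynomial (ι) (dual Λ k) →ₐ[dual Λ k] D.B) := by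
  intro b
  obtain ⟨f, hf⟩ := G.aeval_val_surjective (D.β b)
  obtain ⟨z, hz⟩ := exists_eq_eB_mul D (b := b - evS (dIn Λ k) D x f) (by
    rw [map_sub, β_evS G _ res_dIn D x hx, hf, sub_self])
  obtain ⟨g, hg⟩ := G.aeval_val_surjective (D.β z)
  refine ⟨MvPolynomial.map (dIn Λ k) f + C (dEps Λ k) * MvPolynomial.map (dIn Λ k) g, ?_⟩
  rw [aeval_decomp, eB_mul_eq D (y' := z) ((β_evS G _ res_dIn D x hx g).trans hg), ← hz, add_sub_cancel]

theorem aeval_eq_zero_iff {x : ι → D.B} (hx : ∀ i, D.β (x i) = G.val i) {h : G.toExtension.Cotangent →ₗ[B₀] B₀}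
    (hh : HasCls G D x h) (a₀ a₁ : MvPolynomial (ι) k) :
    aeval x (MvPolynomial.map (dIn Λ k) a₀ + C (dEps Λ k) * MvPolynomial.map (dIn Λ k) a₁) = 0 ↔
      ∃ hf : aeval G.val a₀ = 0, h (gMk G a₀ hf) + aeval G.val a₁ = 0 := by
  rw [aeval_decomp]
  constructor
  · intro e
    have hf : aeval G.val a₀ = 0 := by
      have := congrArg D.β e
      rwa [map_add, map_mul, β_eB, zero_mul, add_zero, map_zero, β_evS G _ res_dIn D x hx] at this
    obtain ⟨y, hy⟩ := exists_y G D x hx hf
    refine ⟨hf, ?_⟩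
    rw [hy, ← mul_add] at e
    rw [hh a₀ hf y hy, ← β_evS G _ res_dIn D x hx a₁, ← map_add, β_eq_zero_of_eB_mul D e]
  · rintro ⟨hf, e⟩
    obtain ⟨y, hy⟩ := exists_y G D x hx hf
    rw [hy, ← mul_add, ← mul_zero (eB D)]
    refine eB_mul_eq D ?_
    rw [map_add, ← hh a₀ hf y hy, β_evS G _ res_dIn D x hx, e, map_zero]

theorem exists_compat_of_tauD_eq {D' : Defo B₀ (dual Λ k) (dual Λ k).res.toRingHom} (e : tauD G D = tauD G D') :
    ∃ φ : D.B →+* D'.B, (∀ a, φ (algebraMap (dual Λ k) D.B a) = algebraMap (dual Λ k) D'.B a) ∧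
      ∀ b, D'.β (φ b) = D.β b := by
  choose x hx using fun i => D.surj (G.val i)
  choose x' hx' using fun i => D'.surj (G.val i)
  obtain ⟨h, hh⟩ := exists_cls G D x hx
  obtain ⟨h', hh'⟩ := exists_cls G D' x' hx'
  rw [tauD_eq G D hx hh, tauD_eq G D' hx' hh', Submodule.Quotient.eq] at e
  obtain ⟨L, hL⟩ := e
  choose z hz using fun i => D'.surj (L (1 ⊗ₜ KaehlerDifferential.D k G.toExtension.Ring (X i)))
  have h2 := hasCls_shift G D' L hx' hz hh'
  rw [show h' + L ∘ₗ G.toExtension.cotangentComplex = h by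
    rw [show L ∘ₗ G.toExtension.cotangentComplex = h - h' from hL, add_sub_cancel]] at h2
  have hx2 : ∀ i, D'.β (x' i + eB D' * z i) = G.val i := fun i => by
    rw [map_add, map_mul, β_eB, zero_mul, add_zero, hx']
  have hk : RingHom.ker (aeval x : MvPolynomial (ι) (dual Λ k) →ₐ[dual Λ k] D.B).toRingHom ≤
      RingHom.ker (aeval (fun i => x' i + eB D' * z i) :
        MvPolynomial (ι) (dual Λ k) →ₐ[dual Λ k] D'.B).toRingHom := by
    intro a (ha : aeval x a = 0)
    obtain ⟨a₀, a₁, rfl⟩ := poly_decomp a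
    exact (aeval_eq_zero_iff G hx2 h2 a₀ a₁).mpr ((aeval_eq_zero_iff G hx hh a₀ a₁).mp ha)
  let φ : D.B →+* D'.B := RingHom.liftOfSurjective
    (aeval x : MvPolynomial (ι) (dual Λ k) →ₐ[dual Λ k] D.B).toRingHom (aeval_surjective_dual G x hx) ⟨_, hk⟩
  have hφ : ∀ a, φ (aeval x a) = aeval (fun i => x' i + eB D' * z i) a := fun a =>
    RingHom.liftOfRightInverse_comp_apply _ _ _ _ a
  refine ⟨φ, fun c => ?_, fun b => ?_⟩
  · rw [← aeval_C x c, hφ, aeval_C]
  · obtain ⟨a, rfl⟩ := aeval_surjective_dual G x hx b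
    obtain ⟨a₀, a₁, rfl⟩ := poly_decomp a
    rw [hφ, aeval_decomp, aeval_decomp, map_add, map_add, map_mul, map_mul, β_eB, β_eB, zero_mul, zero_mul,
      β_evS G _ res_dIn D x hx, β_evS G _ res_dIn D' _ hx2]

end Groth.L14.DefLift
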