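import Groth.Agent.L14.DefLift.Scheme

/-! # Deformations of an algebra as deformations of its spectrum -/

set_option autoImplicit false

universe u

open CategoryTheory CategoryTheory.Limits AlgebraicGeometry ArtFun ArtFun.Art

namespace Groth.L14.DefLift

variable {Λ k : Type u} [CommRing Λ] [Field k] [Algebra Λ k] {B₀ : Type u} [CommRing B₀] [Algebra k B₀]

theorem toSch_isPullback {A : Art Λ k} (D : Defo B₀ A A.res.toRingHom) :
    IsPullback (Spec.map (CommRingCat.ofHom D.β)) (Spec.map (CommRingCat.ofHom (algebraMap k B₀)))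
      (Spec.map (CommRingCat.ofHom (algebraMap A D.B))) (specRes A) :=
  (isPullback_SpecMap_of_isPushout _ _ _ _ (isPushout_of_surjective (CommRingCat.ofHom A.res.toRingHom)
    (CommRingCat.ofHom (algebraMap A D.B)) (CommRingCat.ofHom (algebraMap k B₀)) (CommRingCat.ofHom D.β)
    (CommRingCat.hom_ext (RingHom.ext fun a => (D.comm a).symm)) A.res_surjective D.surj
    (show RingHom.ker D.β ≤ (RingHom.ker A.res.toRingHom).map (algebraMap A D.B) from D.ker_eq.le))).flip

/-- The deformation of `Spec B₀` attached to a deformation of `B₀`. -/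
noncomputable def toSch {A : Art Λ k} (D : Defo B₀ A A.res.toRingHom) :
    DefSch (Spec (CommRingCat.of B₀)) (Spec.map (CommRingCat.ofHom (algebraMap k B₀))) A where
  total := Spec (CommRingCat.of D.B)
  f := Spec.map (CommRingCat.ofHom (algebraMap A D.B))
  flat := HasRingHomProperty.Spec_iff.mpr (RingHom.flat_algebraMap_iff.mpr D.flat)
  i := Spec.map (CommRingCat.ofHom D.β)
  isPullback := toSch_isPullback D

/-- Reduction along a surjection. -/
theorem map_toSch {A' A : Art Λ k} (μ : A' ⟶ A) (hμ : Function.Surjective μ) (D' : Defo B₀ A' A'.res.toRingHom)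
    (D : Defo B₀ A A.res.toRingHom) (q : D'.B →+* D.B) (hq : Function.Surjective q)
    (hqc : ∀ a, q (algebraMap A' D'.B a) = algebraMap A D.B (μ a)) (hqb : ∀ b, D.β (q b) = D'.β b)
    (hqk : RingHom.ker q ≤ (RingHom.ker μ.toAlgHom.toRingHom).map (algebraMap A' D'.B)) :
    (defFunctor (Spec (CommRingCat.of B₀)) (Spec.map (CommRingCat.ofHom (algebraMap k B₀)))).map μ (toSch D').cl =
      (toSch D).cl := by
  refine Quotient.sound ?_
  have hpoq := isPushout_of_surjective (CommRingCat.ofHom μ.toAlgHom.toRingHom)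
    (CommRingCat.ofHom (algebraMap A' D'.B)) (CommRingCat.ofHom (algebraMap A D.B)) (CommRingCat.ofHom q)
    (CommRingCat.hom_ext (RingHom.ext fun a => (hqc a).symm)) hμ hq hqk
  have hq' : IsPullback (Spec.map (CommRingCat.ofHom q)) (toSch D).f (toSch D').f (specMap μ) :=
    (isPullback_SpecMap_of_isPushout _ _ _ _ hpoq).flip
  refine ⟨⟨(IsPullback.of_hasPullback (toSch D').f (specMap μ)).isoIsPullback _ _ hq', ?_, ?_⟩⟩
  · exact IsPullback.isoIsPullback_hom_snd _ _ _ _
  · apply hq'.hom_ext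
    · refine (Category.assoc _ _ _).trans ((congrArg (_ ≫ ·) (IsPullback.isoIsPullback_hom_fst _ _ _ hq')).trans
        ((DefSch.baseChange_i_fst _ _).trans ?_))
      show Spec.map (CommRingCat.ofHom D'.β) = Spec.map (CommRingCat.ofHom D.β) ≫ Spec.map (CommRingCat.ofHom q)
      rw [← Spec.map_comp, ← CommRingCat.ofHom_comp]
      exact congrArg (fun t => Spec.map (CommRingCat.ofHom t)) (RingHom.ext fun b => (hqb b).symm)
    · exact (Category.assoc _ _ _).trans ((congrArg (_ ≫ ·) (IsPullback.isoIsPullback_hom_snd _ _ _ hq')).trans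
        ((DefSch.baseChange_i_f _ _).trans (toSch D).i_f.symm))

/-- An isomorphism of algebras gives an isomorphism of deformations. -/
theorem cl_eq_of_ringEquiv {A : Art Λ k} {D₁ D₂ : Defo B₀ A A.res.toRingHom} (ψ : D₂.B ≃+* D₁.B)
    (hψ : ∀ a, ψ (algebraMap A D₂.B a) = algebraMap A D₁.B a) (hψβ : ∀ b, D₁.β (ψ b) = D₂.β b) :
    (toSch D₁).cl = (toSch D₂).cl := by
  refine Quotient.sound ⟨⟨⟨Spec.map (CommRingCat.ofHom ψ.toRingHom),
    Spec.map (CommRingCat.ofHom ψ.symm.toRingHom), ?_, ?_⟩, ?_, ?_⟩⟩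
  · exact (Spec.map_comp _ _).symm.trans
      ((congrArg Spec.map (CommRingCat.hom_ext (RingHom.ext ψ.apply_symm_apply))).trans (Spec.map_id _))
  · exact (Spec.map_comp _ _).symm.trans
      ((congrArg Spec.map (CommRingCat.hom_ext (RingHom.ext ψ.symm_apply_apply))).trans (Spec.map_id _))
  · exact (Spec.map_comp _ _).symm.trans (congrArg Spec.map (CommRingCat.hom_ext (RingHom.ext hψ)))
  · exact (Spec.map_comp _ _).symm.trans (congrArg Spec.map (CommRingCat.hom_ext (RingHom.ext hψβ)))

/-- Isomorphic deformations give a map of algebras. -/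
theorem exists_hom_of_cl_eq {A : Art Λ k} {D₁ D₂ : Defo B₀ A A.res.toRingHom} (h : (toSch D₁).cl = (toSch D₂).cl) :
    ∃ ψ : D₂.B →+* D₁.B, (∀ a, ψ (algebraMap A D₂.B a) = algebraMap A D₁.B a) ∧ ∀ b, D₁.β (ψ b) = D₂.β b := by
  obtain ⟨e⟩ := Quotient.exact h
  let φ : CommRingCat.of D₂.B ⟶ CommRingCat.of D₁.B := Spec.preimage e.iso.hom
  have hφ : Spec.map φ = e.iso.hom := Spec.map_preimage _
  refine ⟨φ.hom, fun a => ?_, fun b => ?_⟩
  · refine ConcreteCategory.congr_hom (Spec.map_injective (a₁ := CommRingCat.ofHom (algebraMap A D₂.B) ≫ φ)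
      (a₂ := CommRingCat.ofHom (algebraMap A D₁.B)) ?_) a
    rw [Spec.map_comp, hφ]
    exact e.hom_f
  · refine ConcreteCategory.congr_hom (Spec.map_injective (a₁ := φ ≫ CommRingCat.ofHom D₁.β)
      (a₂ := CommRingCat.ofHom D₂.β) ?_) b
    rw [Spec.map_comp, hφ]
    exact e.i_hom

end Groth.L14.DefLift
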