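import Groth.Agent.L14.DefLift.ToSch
import Groth.Agent.L12.CotTBasic
import Groth.Agent.L12.ArtBasic

/-! # Extensions of a deformation along a semismall extension -/

set_option autoImplicit false
set_option linter.style.haveILetI false
set_option backward.isDefEq.respectTransparency false

universe u

open TensorProduct MvPolynomial ArtFun

namespace Groth.L14.DefLift

variable {k B₀ : Type u} [Field k] [CommRing B₀] [Algebra k B₀] {C' C : Art k k} (p : C' ⟶ C)
variable (D : Defo B₀ C C.res.toRingHom)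

/-- An extension of a deformation. -/
structure Ext1 where
  D' : Defo B₀ C' C'.res.toRingHom
  q : D'.B →+* D.B
  q_surj : Function.Surjective q
  q_comm : ∀ a, q (algebraMap C' D'.B a) = algebraMap C D.B (p a)
  q_β : ∀ b, D.β (q b) = D'.β b
  q_ker : RingHom.ker q = (RingHom.ker p.toAlgHom.toRingHom).map (algebraMap C' D'.B)

/-- The coefficient module. -/
abbrev Coeff (B₀ : Type u) [CommRing B₀] [Algebra k B₀] (p : C' ⟶ C) : Type u := B₀ ⊗[k] ↥(RingHom.ker p.toAlgHom)

variable {p D}

/-- Equivalence of extensions. -/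
def Ext1.Equiv (E F : Ext1 p D) : Prop :=
  ∃ ψ : E.D'.B ≃+* F.D'.B, (∀ a, ψ (algebraMap C' E.D'.B a) = algebraMap C' F.D'.B a) ∧ ∀ b, F.q (ψ b) = E.q b

section incl

variable (hp : Art.IsSemismallExt p) (E : Ext1 p D)
include hp

theorem mul_ker {c j : C'} (hc : C'.res c = 0) (hj : j ∈ RingHom.ker p.toAlgHom) : c * j = 0 := by
  have : c * j ∈ IsLocalRing.maximalIdeal C' * RingHom.ker p.toAlgHom :=
    Ideal.mul_mem_mul ((Art.mem_maximalIdeal_iff C' c).mpr hc) hj
  rwa [hp.2, Ideal.mem_bot] at this

theorem j_mul_eq {j : C'} (hj : j ∈ RingHom.ker p.toAlgHom) {x y : E.D'.B} (h : E.D'.β x = E.D'.β y) :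
    algebraMap C' E.D'.B j * x = algebraMap C' E.D'.B j * y := by
  rw [← sub_eq_zero, ← mul_sub]
  have h1 : x - y ∈ RingHom.ker E.D'.β := by rw [RingHom.mem_ker, map_sub, h, sub_self]
  rw [E.D'.ker_eq] at h1
  suffices h2 : ∀ z ∈ (RingHom.ker C'.res.toRingHom).map (algebraMap C' E.D'.B), ∀ w,
      algebraMap C' E.D'.B j * (w * z) = 0 by simpa using h2 _ h1 1
  intro z hz
  induction hz using Submodule.span_induction with
  | mem z hz =>
    obtain ⟨c, hc, rfl⟩ := hz
    intro w
    rw [mul_left_comm, ← map_mul, mul_comm j c, mul_ker hp hc hj, map_zero, mul_zero]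
  | zero => intro w; simp
  | add a b _ _ ha hb => intro w; rw [mul_add, mul_add, ha, hb, add_zero]
  | smul c a _ ha => intro w; rw [smul_eq_mul, ← mul_assoc w]; exact ha _

theorem exists_incl : ∃ f : Coeff B₀ p →+ E.D'.B,
    ∀ (x : E.D'.B) (j : ↥(RingHom.ker p.toAlgHom)), f (E.D'.β x ⊗ₜ[k] j) = algebraMap C' E.D'.B (j : C') * x := by
  choose s hs using E.D'.surj
  letI : Algebra k E.D'.B := ((algebraMap C' E.D'.B).comp (algebraMap k C')).toAlgebra
  let bil : B₀ →ₗ[k] ↥(RingHom.ker p.toAlgHom) →ₗ[k] E.D'.B :=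
    LinearMap.mk₂ k (fun b j => algebraMap C' E.D'.B (j : C') * s b)
      (fun b b' j => by
        show algebraMap C' E.D'.B (j : C') * s (b + b') = _ + _
        rw [← mul_add]
        exact j_mul_eq hp E j.2 (by rw [map_add, hs, hs, hs]))
      (fun c b j => by
        show algebraMap C' E.D'.B (j : C') * s (c • b) = c • _
        rw [Algebra.smul_def (A := E.D'.B), mul_left_comm]
        refine j_mul_eq hp E j.2 ?_
        rw [hs, map_mul, hs, Algebra.smul_def]
        congr 1
        exact ((E.D'.comm _).trans (congrArg _ (C'.res.commutes c))).symm)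
      (fun b j j' => by
        show algebraMap C' E.D'.B ((j + j' : ↥(RingHom.ker p.toAlgHom)) : C') * s b = _
        rw [Submodule.coe_add, map_add, add_mul])
      (fun c b j => by
        show algebraMap C' E.D'.B ((c • j : ↥(RingHom.ker p.toAlgHom)) : C') * s b = c • _
        rw [Submodule.coe_smul_of_tower, Algebra.smul_def c (j : C'), map_mul, mul_assoc, Algebra.smul_def]
        rfl)
  exact ⟨(TensorProduct.lift bil).toAddMonoidHom, fun x j => j_mul_eq hp E j.2 (hs _)⟩

/-- `J ⊗ B₀` inside the extension. -/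
noncomputable def incl : Coeff B₀ p →+ E.D'.B := (exists_incl hp E).choose

theorem incl_tmul (x : E.D'.B) (j : ↥(RingHom.ker p.toAlgHom)) :
    incl hp E (E.D'.β x ⊗ₜ[k] j) = algebraMap C' E.D'.B (j : C') * x := (exists_incl hp E).choose_spec x j

theorem incl_smul (x : E.D'.B) (t : Coeff B₀ p) : incl hp E (E.D'.β x • t) = x * incl hp E t := by
  induction t using TensorProduct.induction_on with
  | zero => simp
  | tmul b j =>
    obtain ⟨y, rfl⟩ := E.D'.surj b
    rw [TensorProduct.smul_tmul', smul_eq_mul, ← map_mul, incl_tmul, incl_tmul, mul_left_comm]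
  | add a b ha hb => rw [smul_add, map_add, map_add, mul_add, ha, hb]

theorem q_incl (t : Coeff B₀ p) : E.q (incl hp E t) = 0 := by
  induction t using TensorProduct.induction_on with
  | zero => simp
  | tmul b j =>
    obtain ⟨y, rfl⟩ := E.D'.surj b
    rw [incl_tmul, map_mul, E.q_comm, show p.toAlgHom (j : C') = 0 from j.2, map_zero, zero_mul]
  | add a b ha hb => rw [map_add, map_add, ha, hb, add_zero]

theorem β_incl (t : Coeff B₀ p) : E.D'.β (incl hp E t) = 0 := by
  rw [← E.q_β, q_incl hp E, map_zero]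

theorem incl_mul_incl (u v : Coeff B₀ p) : incl hp E u * incl hp E v = 0 := by
  rw [← incl_smul, β_incl, zero_smul, map_zero]

theorem alg_mul_incl {c : C'} (hc : C'.res c = 0) (t : Coeff B₀ p) : algebraMap C' E.D'.B c * incl hp E t = 0 := by
  rw [← incl_smul, E.D'.comm, show C'.res.toRingHom c = 0 from hc, map_zero, zero_smul, map_zero]

theorem exists_incl_eq {x : E.D'.B} (h : E.q x = 0) : ∃ t, incl hp E t = x := by
  have h1 : x ∈ RingHom.ker E.q := h
  rw [E.q_ker] at h1
  induction h1 using Submodule.span_induction with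
  | mem z hz =>
    obtain ⟨j, hj, rfl⟩ := hz
    exact ⟨E.D'.β 1 ⊗ₜ[k] ⟨j, hj⟩, by rw [incl_tmul, mul_one]⟩
  | zero => exact ⟨0, map_zero _⟩
  | add a b _ _ ha hb =>
    obtain ⟨s, hs⟩ := ha (by
      rw [← RingHom.mem_ker, E.q_ker]; assumption)
    obtain ⟨t, ht⟩ := hb (by
      rw [← RingHom.mem_ker, E.q_ker]; assumption)
    exact ⟨s + t, by rw [map_add, hs, ht]⟩
  | smul c a _ ha =>
    obtain ⟨t, ht⟩ := ha (by
      rw [← RingHom.mem_ker, E.q_ker]; assumption)
    exact ⟨E.D'.β c • t, by rw [incl_smul, ht, smul_eq_mul]⟩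

theorem incl_injective : Function.Injective (incl hp E) := by
  classical
  haveI := E.D'.flat
  let m := IsLocalRing.maximalIdeal C'
  haveI : m.IsMaximal := IsLocalRing.maximalIdeal.isMaximal _
  haveI : Module.Flat C' (C' ⊗[C'] E.D'.B) := Module.Flat.of_linearEquiv (TensorProduct.lid C' E.D'.B)
  haveI : Module.Free C' E.D'.B :=
    Groth.L01.NilDescent.free_of_flat_baseChange m (Groth.L12.isNilpotent_maximalIdeal C') C' Function.injective_id _
  let b := Module.Free.chooseBasis C' E.D'.B
  rw [injective_iff_map_eq_zero]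
  have hgen : ∀ t : Coeff B₀ p, ∃ f : Module.Free.ChooseBasisIndex C' E.D'.B →₀ ↥(RingHom.ker p.toAlgHom),
      t = f.sum fun l j => E.D'.β (b l) ⊗ₜ[k] j := by
    intro t
    induction t using TensorProduct.induction_on with
    | zero => exact ⟨0, by simp⟩
    | tmul x j =>
      obtain ⟨y, rfl⟩ := E.D'.surj x
      refine ⟨(b.repr y).mapRange (fun c => C'.res c • j) (by simp), ?_⟩
      rw [Finsupp.sum_mapRange_index (by simp)]
      conv_lhs => rw [← b.linearCombination_repr y, Finsupp.linearCombination_apply, map_finsuppSum,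
        Finsupp.sum, TensorProduct.sum_tmul]
      refine Finset.sum_congr rfl fun l _ => ?_
      rw [Algebra.smul_def, map_mul, E.D'.comm, ← Algebra.smul_def, TensorProduct.smul_tmul]
      rfl
    | add s t hs ht =>
      obtain ⟨f, rfl⟩ := hs
      obtain ⟨g, rfl⟩ := ht
      exact ⟨f + g, (Finsupp.sum_add_index' (fun l => TensorProduct.tmul_zero _ _)
        fun l => TensorProduct.tmul_add _).symm⟩
  intro t ht
  obtain ⟨f, rfl⟩ := hgen t
  let g : Module.Free.ChooseBasisIndex C' E.D'.B →₀ C' :=
    Finsupp.mapRange (fun j : ↥(RingHom.ker p.toAlgHom) => (j : C')) rfl f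
  have hg : ∀ l, g l = (f l : C') := fun l => rfl
  have h1 : Finsupp.linearCombination C' b g = 0 := by
    rw [Finsupp.linearCombination_apply]
    show (Finsupp.mapRange (fun j : ↥(RingHom.ker p.toAlgHom) => (j : C')) rfl f).sum (fun i a => a • b i) = 0
    rw [Finsupp.sum_mapRange_index (fun l => zero_smul C' (b l)), ← ht, map_finsuppSum]
    refine Finsupp.sum_congr fun l _ => ?_
    rw [incl_tmul, Algebra.smul_def]
  have h2 := (linearIndependent_iff.mp b.linearIndependent) g h1
  have h3 : f = 0 := Finsupp.ext fun l => Subtype.ext (by rw [← hg, h2]; rfl)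
  simp [h3]

end incl

end Groth.L14.DefLift
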