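import Groth.Agent.L14.DefLift.TorsorSch

/-! # First-order deformations of affine schemes -/

set_option autoImplicit false
set_option linter.style.haveILetI false
set_option backward.isDefEq.respectTransparency false

universe u

open CategoryTheory CategoryTheory.Limits AlgebraicGeometry ArtFun ArtFun.Art TensorProduct

namespace Groth.L14.DefLift

/-- Functoriality of `T¹` in an isomorphism. -/
noncomputable def T1congr {A B : Type u} [CommRing A] [CommRing B] [Algebra A B] {ι σ : Type u}
    (P : Algebra.Presentation A B ι σ) {M N : Type u} [AddCommGroup M] [Module B M] [AddCommGroup N] [Module B N]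
    (e : M ≃ₗ[B] N) : CotT.T1 P M ≃ CotT.T1 P N where
  toFun := CotT.T1map P e.toLinearMap
  invFun := CotT.T1map P e.symm.toLinearMap
  left_inv z := by
    obtain ⟨c, rfl⟩ := Submodule.Quotient.mk_surjective _ z
    exact congrArg Submodule.Quotient.mk (Subtype.ext (LinearMap.ext fun x => e.symm_apply_apply _))
  right_inv z := by
    obtain ⟨c, rfl⟩ := Submodule.Quotient.mk_surjective _ z
    exact congrArg Submodule.Quotient.mk (Subtype.ext (LinearMap.ext fun x => e.apply_symm_apply _))

variable (k B : Type u) [Field k] [CommRing B] [Algebra k B]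

theorem isSemismallExt_dual : Art.IsSemismallExt (toBase (Art.dual k k)) := by
  refine ⟨(Art.dual k k).res_surjective, ?_⟩
  rw [eq_bot_iff, Ideal.mul_le]
  intro a ha b hb
  have ha' : (a : DualNumber k).fst = 0 := (Art.mem_maximalIdeal_iff (Art.dual k k) a).mp ha
  have hb' : (b : DualNumber k).fst = 0 := hb
  have key : ∀ u v : DualNumber k, u.fst = 0 → v.fst = 0 → u * v = 0 := fun u v hu hv => by
    refine TrivSqZeroExt.ext ?_ ?_ <;> simp [hu, hv]
  exact key a b ha' hb'

theorem exists_kerEquiv : Nonempty (k ≃ₗ[k] ↥(RingHom.ker (toBase (Art.dual k k)).toAlgHom)) := by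
  let f : k →ₗ[k] ↥(RingHom.ker (toBase (Art.dual k k)).toAlgHom) :=
    { toFun := fun c => ⟨(TrivSqZeroExt.inr c : DualNumber k), TrivSqZeroExt.fst_inr k c⟩
      map_add' := fun c d => Subtype.ext (TrivSqZeroExt.inr_add k c d)
      map_smul' := fun c d => Subtype.ext (TrivSqZeroExt.inr_smul k c d) }
  refine ⟨LinearEquiv.ofBijective f ⟨fun c d h => TrivSqZeroExt.inr_injective (congrArg Subtype.val h), fun z => ?_⟩⟩
  exact ⟨(z.1 : DualNumber k).snd, Subtype.ext (TrivSqZeroExt.ext (z.2 : (z.1 : DualNumber k).fst = 0).symm rfl)⟩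

theorem nonempty_dual_equiv :
    Nonempty ((defFunctor (Λ := k) (Spec (CommRingCat.of B)) (Spec.map (CommRingCat.ofHom (algebraMap k B)))).obj
        (Art.dual k k) ≃ CotT.T1 (CotT.canon k B) B) := by
  let x := Spec.map (CommRingCat.ofHom (algebraMap k B))
  have hx : Flat x := inferInstance
  let 𝒳 : DefSch (Spec (CommRingCat.of B)) x (Art.base k k) := DefSch.self _ x hx
  let p := toBase (Art.dual k k)
  have hiso : ∀ ξ : DefSch (Spec (CommRingCat.of B)) x (Art.base k k), IsIso ξ.i := fun ξ =>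
    ξ.isPullback.isIso_fst_of_isIso
  let e : ∀ ξ : DefSch (Spec (CommRingCat.of B)) x (Art.base k k), ξ.Iso 𝒳 := fun ξ =>
    haveI := hiso ξ
    { iso := (asIso ξ.i).symm
      hom_f := by
        show inv ξ.i ≫ x = ξ.f
        rw [IsIso.inv_comp_eq, ξ.i_f, Art.comp_specRes_base]
      i_hom := IsIso.hom_inv_id ξ.i }
  have huniq : ∀ (ξ : DefSch (Spec (CommRingCat.of B)) x (Art.base k k)) (f g : ξ.Iso 𝒳), f.iso = g.iso := by
    intro ξ f g
    haveI := hiso ξ
    exact CategoryTheory.Iso.ext ((cancel_epi ξ.i).mp (f.i_hom.trans g.i_hom.symm))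
  let G : Quot (fun a b : (Σ 𝒳' : DefSch (Spec (CommRingCat.of B)) x (Art.dual k k), (𝒳'.baseChange p).Iso 𝒳) =>
      ∃ ψ : a.1.Iso b.1, ((ψ.baseChange p).trans b.2).iso = a.2.iso) ≃
      (defFunctor (Λ := k) (Spec (CommRingCat.of B)) x).obj (Art.dual k k) :=
    Equiv.ofBijective (Quot.lift (fun a => a.1.cl) fun a b ⟨ψ, _⟩ => Quotient.sound ⟨ψ⟩)
      ⟨fun u v => by
        induction u using Quot.ind with | _ a => ?_
        induction v using Quot.ind with | _ b => ?_
        intro h
        obtain ⟨ψ⟩ := Quotient.exact h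
        exact Quot.sound ⟨ψ, huniq _ _ _⟩,
      fun c => by
        induction c using Quotient.inductionOn with
        | h ξ => exact ⟨Quot.mk _ ⟨ξ, e _⟩, rfl⟩⟩
  obtain ⟨E⟩ := nonempty_equiv (CotT.canon k B) (isSemismallExt_dual k) 𝒳
    ⟨DefSch.trivial (Spec (CommRingCat.of B)) x hx (Art.dual k k), ⟨e _⟩⟩
  obtain ⟨ek⟩ := exists_kerEquiv k
  let eM : Coeff B p ≃ₗ[B] B :=
    (TensorProduct.AlgebraTensorModule.congr (LinearEquiv.refl B B) ek.symm).trans
      (TensorProduct.AlgebraTensorModule.rid k B B)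
  exact ⟨G.symm.trans (E.trans (T1congr (CotT.canon k B) eM))⟩

end Groth.L14.DefLift
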