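import Groth.Agent.L14.DefLift.TorsorClass

/-! # Extensions of deformations of affine schemes -/

set_option autoImplicit false
set_option linter.style.haveILetI false
set_option backward.isDefEq.respectTransparency false

universe u

open CategoryTheory CategoryTheory.Limits AlgebraicGeometry ArtFun ArtFun.Art TensorProduct

namespace Groth.L14.DefLift

/-- A cartesian square of affine schemes with surjective bottom. -/
theorem surjective_and_ker_of_isPullback {A S H B : CommRingCat.{u}} (f : A ⟶ S) (γ : A ⟶ H) (β : S ⟶ B) (δ : H ⟶ B)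
    (hs : Function.Surjective f.hom) (h : IsPullback (Spec.map δ) (Spec.map β) (Spec.map γ) (Spec.map f)) :
    Function.Surjective δ.hom ∧ RingHom.ker δ.hom = (RingHom.ker f.hom).map γ.hom := by
  let J : Ideal H := (RingHom.ker f.hom).map γ.hom
  let j : S →+* H ⧸ J := RingHom.liftOfSurjective f.hom hs
    ⟨(Ideal.Quotient.mk J).comp γ.hom, fun a ha => Ideal.Quotient.eq_zero_iff_mem.mpr (Ideal.mem_map_of_mem _ ha)⟩
  have hj : ∀ a, j (f.hom a) = Ideal.Quotient.mk J (γ.hom a) := fun a =>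
    RingHom.liftOfRightInverse_comp_apply f.hom _ _ _ a
  have hpo := isPushout_of_surjective f γ (CommRingCat.ofHom j)
    (CommRingCat.ofHom (Ideal.Quotient.mk J)) (CommRingCat.hom_ext (RingHom.ext hj)) hs
    Ideal.Quotient.mk_surjective Ideal.mk_ker.le
  have hq := (isPullback_SpecMap_of_isPushout _ _ _ _ hpo).flip
  let E := h.isoIsPullback _ _ hq
  let ε : CommRingCat.of (H ⧸ J) ⟶ B := Spec.preimage E.hom
  have hε : Spec.map ε = E.hom := Spec.map_preimage _
  have heq : δ = CommRingCat.ofHom (Ideal.Quotient.mk J) ≫ ε := by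
    apply Spec.map_injective
    rw [Spec.map_comp, hε, IsPullback.isoIsPullback_hom_fst]
  haveI : IsIso ε := by
    haveI : IsIso (Scheme.Spec.map ε.op) := by
      show IsIso (Spec.map ε)
      rw [hε]; infer_instance
    haveI : IsIso ε.op := isIso_of_fully_faithful Scheme.Spec ε.op
    exact isIso_of_op ε
  have hεb : Function.Bijective ε.hom := ConcreteCategory.bijective_of_isIso ε
  rw [heq]
  refine ⟨hεb.2.comp Ideal.Quotient.mk_surjective, ?_⟩
  rw [CommRingCat.hom_comp, RingHom.ker_comp_of_injective _ hεb.1]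
  exact Ideal.mk_ker

variable {k B₀ : Type u} [Field k] [CommRing B₀] [Algebra k B₀] {C' Cb : Art k k} {p : C' ⟶ Cb}
variable {D : Defo B₀ Cb Cb.res.toRingHom}

theorem Ext1.equiv_symm {E F : Ext1 p D} (h : E.Equiv F) : F.Equiv E := by
  obtain ⟨ψ, h1, h2⟩ := h
  exact ⟨ψ.symm, fun a => by rw [RingEquiv.symm_apply_eq, h1], fun b => by rw [← h2, RingEquiv.apply_symm_apply]⟩

section Classify

variable {ι σ : Type u} (P : Algebra.Presentation k B₀ ι σ) (hp : Art.IsSemismallExt p)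

include hp in
theorem exists_classify (E₁ : Ext1 p D) :
    ∃ Φ : Ext1 p D → CotT.T1 P (Coeff B₀ p), Function.Surjective Φ ∧ ∀ E F, Φ E = Φ F ↔ E.Equiv F := by
  choose x0 hx0 using fun i => D.surj (P.val i)
  obtain ⟨x₁, hx₁⟩ := IsLift.exists' (x0 := x0) E₁
  choose x hx using fun E : Ext1 p D => IsLift.exists' (x0 := x0) E
  choose h hh using fun E : Ext1 p D => exists_isClass P hx0 (hx E) hp hx₁
  have hT : ∀ g g', CotT.homToT1 P (Coeff B₀ p) g = CotT.homToT1 P (Coeff B₀ p) g' ↔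
      ∃ L : CotT.L0 P →ₗ[B₀] Coeff B₀ p, g - g' = L ∘ₗ P.toExtension.cotangentComplex := fun g g' => by
    rw [← sub_eq_zero, ← map_sub, ← LinearMap.mem_ker, Groth.L12.CotTLib.ker_homToT1, LinearMap.mem_range]
    exact ⟨fun ⟨L, hL⟩ => ⟨L, hL.symm⟩, fun ⟨L, hL⟩ => ⟨L, hL.symm⟩⟩
  have hshift : ∀ (E : Ext1 p D) (y : _) (hy : IsLift x0 E y) (g : _), IsClass P hp (E₁ := E₁) x₁ y g →
      CotT.homToT1 P (Coeff B₀ p) (h E) = CotT.homToT1 P (Coeff B₀ p) g := fun E y hy g hg => by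
    obtain ⟨L, hL⟩ := exists_shift_of_lifts P hx0 hp hx₁ (hx E) hy
    have e := isClass_unique P hx0 hp hy hg (isClass_shift P hx0 hp hx₁ (hx E) (hh E) L hL)
    exact (hT _ _).mpr ⟨L, LinearMap.ext fun z => by simp [e]⟩
  refine ⟨fun E => CotT.homToT1 P _ (h E), fun z => ?_, fun E F => ⟨fun e => ?_, fun e => ?_⟩⟩
  · obtain ⟨g, rfl⟩ := Groth.L12.CotTLib.homToT1_surjective P _ z
    obtain ⟨E, y, hy, hg⟩ := exists_realisation P hx0 hp hx₁ g
    exact ⟨E, hshift E y hy g hg⟩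
  · obtain ⟨L, hL⟩ := (hT _ _).mp e
    let y : ι → E.D'.B := fun i => x E i + incl hp E (L (1 ⊗ₜ KaehlerDifferential.D k P.toExtension.Ring (MvPolynomial.X i)))
    have hy : IsLift x0 E y := fun i => by rw [map_add, hx E i, q_incl, add_zero]
    have hg := isClass_shift P hx0 hp hx₁ (hx E) (hh E) L (fun i => rfl) (x' := y)
    rw [show h E - L ∘ₗ P.toExtension.cotangentComplex = h F from LinearMap.ext fun z => by
      rw [← hL]; simp] at hg
    exact equiv_of_isClass P hx0 hp hx₁ hy (hx F) hg (hh F)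
  · obtain ⟨ψ, hψ1, hψ2⟩ := e
    let y : ι → F.D'.B := fun i => ψ (x E i)
    have hy : IsLift x0 F y := fun i => by rw [hψ2]; exact hx E i
    have hg : IsClass P hp (E₁ := E₁) x₁ y (h E) := fun a ha hf => hh E a (ψ.injective (by
      rw [map_zero, ← ha]
      refine RingHom.congr_fun (f := ψ.toRingHom.comp (MvPolynomial.aeval (x E)).toRingHom)
        (g := (MvPolynomial.aeval y).toRingHom) (MvPolynomial.ringHom_ext (fun c => ?_) fun i => ?_) a
      · simp [hψ1]
      · simp [y])) hf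
    exact (hshift F y hy _ hg).symm

end Classify

section Sch

/-- The base change of the scheme of an extension. -/
theorem toSch_bc (hp : Function.Surjective p) (E : Ext1 p D) :
    IsPullback (Spec.map (CommRingCat.ofHom E.q)) (toSch D).f (toSch E.D').f (specMap p) :=
  (isPullback_SpecMap_of_isPushout _ _ _ _ (isPushout_of_surjective (CommRingCat.ofHom p.toAlgHom.toRingHom)
    (CommRingCat.ofHom (algebraMap C' E.D'.B)) (CommRingCat.ofHom (algebraMap Cb D.B)) (CommRingCat.ofHom E.q)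
    (CommRingCat.hom_ext (RingHom.ext fun a => (E.q_comm a).symm)) hp E.q_surj E.q_ker.le)).flip

/-- Ring isomorphisms give isomorphisms of deformations. -/
noncomputable def isoOfRingEquiv {D₁ D₂ : Defo B₀ C' C'.res.toRingHom} (ψ : D₂.B ≃+* D₁.B)
    (hψ : ∀ a, ψ (algebraMap C' D₂.B a) = algebraMap C' D₁.B a) (hψβ : ∀ b, D₁.β (ψ b) = D₂.β b) :
    (toSch D₁).Iso (toSch D₂) where
  iso :=
    { hom := Spec.map (CommRingCat.ofHom ψ.toRingHom)
      inv := Spec.map (CommRingCat.ofHom ψ.symm.toRingHom)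
      hom_inv_id := (Spec.map_comp _ _).symm.trans
        ((congrArg Spec.map (CommRingCat.hom_ext (RingHom.ext ψ.apply_symm_apply))).trans (Spec.map_id _))
      inv_hom_id := (Spec.map_comp _ _).symm.trans
        ((congrArg Spec.map (CommRingCat.hom_ext (RingHom.ext ψ.symm_apply_apply))).trans (Spec.map_id _)) }
  hom_f := (Spec.map_comp _ _).symm.trans (congrArg Spec.map (CommRingCat.hom_ext (RingHom.ext hψ)))
  i_hom := (Spec.map_comp _ _).symm.trans (congrArg Spec.map (CommRingCat.hom_ext (RingHom.ext hψβ)))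

variable {𝒳 : DefSch (Spec (CommRingCat.of B₀)) (Spec.map (CommRingCat.ofHom (algebraMap k B₀))) Cb}
variable (w : 𝒳.Iso (toSch D))

/-- The inclusion of the given deformation into an extension. -/
noncomputable def clIncl
    (a : Σ 𝒳' : DefSch (Spec (CommRingCat.of B₀)) (Spec.map (CommRingCat.ofHom (algebraMap k B₀))) C',
      (𝒳'.baseChange p).Iso 𝒳) : (toSch D).total ⟶ a.1.total :=
  w.iso.inv ≫ a.2.iso.inv ≫ pullback.fst a.1.f (specMap p)

theorem rel_iff_clIncl
    (a b : Σ 𝒳' : DefSch (Spec (CommRingCat.of B₀)) (Spec.map (CommRingCat.ofHom (algebraMap k B₀))) C',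
      (𝒳'.baseChange p).Iso 𝒳) (ψ : a.1.Iso b.1) :
    ((ψ.baseChange p).trans b.2).iso = a.2.iso ↔ clIncl w a ≫ ψ.iso.hom = clIncl w b := by
  constructor
  · intro h
    have h1 : b.2.iso.inv = a.2.iso.inv ≫ (ψ.baseChange p).iso.hom := by
      rw [← h]
      exact ((Category.assoc _ _ _).trans ((congrArg (_ ≫ ·) (ψ.baseChange p).iso.inv_hom_id).trans
        (Category.comp_id _))).symm
    show (w.iso.inv ≫ a.2.iso.inv ≫ pullback.fst a.1.f (specMap p)) ≫ ψ.iso.hom =
      w.iso.inv ≫ b.2.iso.inv ≫ pullback.fst b.1.f (specMap p)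
    rw [h1, Category.assoc, Category.assoc]
    congr 1
    rw [Category.assoc]
    congr 1
    exact (DefSch.pullMap_fst ψ.iso.hom ψ.hom_f p).symm
  · intro h
    refine CategoryTheory.Iso.ext ?_
    show (ψ.baseChange p).iso.hom ≫ b.2.iso.hom = a.2.iso.hom
    rw [← Iso.eq_comp_inv]
    apply pullback.hom_ext
    · refine (DefSch.pullMap_fst ψ.iso.hom ψ.hom_f p).trans ?_
      have h' : w.iso.inv ≫ (a.2.iso.inv ≫ pullback.fst a.1.f (specMap p) ≫ ψ.iso.hom) =
          w.iso.inv ≫ (b.2.iso.inv ≫ pullback.fst b.1.f (specMap p)) := by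
        simpa [clIncl] using h
      rw [cancel_epi] at h'
      rw [Category.assoc, ← h', ← Category.assoc a.2.iso.hom, a.2.iso.hom_inv_id, Category.id_comp]
    · refine (DefSch.pullMap_snd ψ.iso.hom ψ.hom_f p).trans ?_
      have ha : a.2.iso.hom ≫ 𝒳.f = pullback.snd a.1.f (specMap p) := a.2.hom_f
      have hb : b.2.iso.inv ≫ pullback.snd b.1.f (specMap p) = 𝒳.f := b.2.symm.hom_f
      rw [Category.assoc, hb, ha]

/-- An extension represents a scheme extension. -/
def Rep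
    (a : Σ 𝒳' : DefSch (Spec (CommRingCat.of B₀)) (Spec.map (CommRingCat.ofHom (algebraMap k B₀))) C',
      (𝒳'.baseChange p).Iso 𝒳) (E : Ext1 p D) : Prop :=
  ∃ u : a.1.Iso (toSch E.D'), clIncl w a ≫ u.iso.hom = Spec.map (CommRingCat.ofHom E.q)

theorem exists_rep (hp : Function.Surjective p)
    (a : Σ 𝒳' : DefSch (Spec (CommRingCat.of B₀)) (Spec.map (CommRingCat.ofHom (algebraMap k B₀))) C',
      (𝒳'.baseChange p).Iso 𝒳) : ∃ E : Ext1 p D, Rep w a E := by
  obtain ⟨D', e, hef, hei⟩ := exists_defo a.1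
  let u : a.1.Iso (toSch D') := ⟨e, hef, hei⟩
  let c : Spec (CommRingCat.of D.B) ⟶ Spec (CommRingCat.of D'.B) := clIncl w a ≫ u.iso.hom
  let δ : CommRingCat.of D'.B ⟶ CommRingCat.of D.B := Spec.preimage c
  have hδ : Spec.map δ = c := Spec.map_preimage _
  have hw : w.iso.inv ≫ 𝒳.f = (toSch D).f := w.symm.hom_f
  have hpb : IsPullback (Spec.map δ) (Spec.map (CommRingCat.ofHom (algebraMap Cb D.B)))
      (Spec.map (CommRingCat.ofHom (algebraMap C' D'.B))) (Spec.map (CommRingCat.ofHom p.toAlgHom.toRingHom)) := by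
    refine (IsPullback.of_hasPullback a.1.f (specMap p)).of_iso (a.2.iso ≪≫ w.iso) e (Iso.refl _) (Iso.refl _) ?_ ?_ ?_ ?_
    · rw [hδ]
      show pullback.fst a.1.f (specMap p) ≫ e.hom =
        (a.2.iso.hom ≫ w.iso.hom) ≫ ((w.iso.inv ≫ a.2.iso.inv ≫ pullback.fst a.1.f (specMap p)) ≫ e.hom)
      simp only [Category.assoc, Iso.hom_inv_id_assoc]
    · show pullback.snd a.1.f (specMap p) ≫ 𝟙 _ = (a.2.iso.hom ≫ w.iso.hom) ≫ (toSch D).f
      rw [Category.comp_id, Category.assoc, w.hom_f]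
      exact a.2.hom_f.symm
    · show a.1.f ≫ 𝟙 _ = e.hom ≫ (toSch D').f
      rw [Category.comp_id]
      exact hef.symm
    · simp only [Iso.refl_hom, Category.comp_id, Category.id_comp]
  obtain ⟨h1, h2⟩ := surjective_and_ker_of_isPullback (CommRingCat.ofHom p.toAlgHom.toRingHom)
    (CommRingCat.ofHom (algebraMap C' D'.B)) (CommRingCat.ofHom (algebraMap Cb D.B)) δ hp hpb
  refine ⟨⟨D', δ.hom, h1, fun x => ?_, fun b => ?_, h2⟩, u, hδ.symm⟩
  · refine ConcreteCategory.congr_hom (Spec.map_injective (a₁ := CommRingCat.ofHom (algebraMap C' D'.B) ≫ δ)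
      (a₂ := CommRingCat.ofHom p.toAlgHom.toRingHom ≫ CommRingCat.ofHom (algebraMap Cb D.B)) ?_) x
    rw [Spec.map_comp, Spec.map_comp]
    exact hpb.w
  · refine ConcreteCategory.congr_hom (Spec.map_injective (a₁ := δ ≫ CommRingCat.ofHom D.β)
      (a₂ := CommRingCat.ofHom D'.β) ?_) b
    rw [Spec.map_comp, hδ]
    have e1 : (toSch D).i ≫ w.iso.inv = 𝒳.i := w.symm.i_hom
    have e2 : 𝒳.i ≫ a.2.iso.inv = (a.1.baseChange p).i := a.2.symm.i_hom
    show (toSch D).i ≫ ((w.iso.inv ≫ a.2.iso.inv ≫ pullback.fst a.1.f (specMap p)) ≫ e.hom) = (toSch D').i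
    refine Eq.trans ?_ hei
    rw [← DefSch.baseChange_i_fst a.1 p, ← e2, ← e1]
    simp only [Category.assoc]

theorem exists_of_ext (hp : Function.Surjective p) (E : Ext1 p D) :
    ∃ a : Σ 𝒳' : DefSch (Spec (CommRingCat.of B₀)) (Spec.map (CommRingCat.ofHom (algebraMap k B₀))) C',
      (𝒳'.baseChange p).Iso 𝒳, Rep w a E := by
  have hq := toSch_bc hp E
  let i₀ := (IsPullback.of_hasPullback (toSch E.D').f (specMap p)).isoIsPullback _ _ hq
  have hf : i₀.hom ≫ (toSch D).f = pullback.snd (toSch E.D').f (specMap p) := IsPullback.isoIsPullback_hom_snd _ _ _ _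
  have hi : ((toSch E.D').baseChange p).i ≫ i₀.hom = (toSch D).i := by
    apply hq.hom_ext
    · refine (Category.assoc _ _ _).trans ((congrArg (_ ≫ ·) (IsPullback.isoIsPullback_hom_fst _ _ _ hq)).trans
        ((DefSch.baseChange_i_fst _ _).trans ?_))
      show Spec.map (CommRingCat.ofHom E.D'.β) = Spec.map (CommRingCat.ofHom D.β) ≫ Spec.map (CommRingCat.ofHom E.q)
      rw [← Spec.map_comp, ← CommRingCat.ofHom_comp]
      exact congrArg (fun t => Spec.map (CommRingCat.ofHom t)) (RingHom.ext fun b => (E.q_β b).symm)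
    · exact (Category.assoc _ _ _).trans ((congrArg (_ ≫ ·) (IsPullback.isoIsPullback_hom_snd _ _ _ hq)).trans
        ((DefSch.baseChange_i_f _ _).trans (toSch D).i_f.symm))
  let e : ((toSch E.D').baseChange p).Iso 𝒳 := DefSch.Iso.trans ⟨i₀, hf, hi⟩ w.symm
  refine ⟨⟨toSch E.D', e⟩, DefSch.Iso.refl _, ?_⟩
  show (w.iso.inv ≫ (i₀ ≪≫ w.iso.symm).inv ≫ pullback.fst _ _) ≫ 𝟙 _ = _
  rw [Category.comp_id, Iso.trans_inv, Iso.symm_inv, Category.assoc, Iso.inv_hom_id_assoc]
  exact IsPullback.isoIsPullback_inv_fst _ _ _ _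

theorem equiv_iff {a b : Σ 𝒳' : DefSch (Spec (CommRingCat.of B₀)) (Spec.map (CommRingCat.ofHom (algebraMap k B₀))) C',
      (𝒳'.baseChange p).Iso 𝒳} {E F : Ext1 p D} (hE : Rep w a E) (hF : Rep w b F) :
    E.Equiv F ↔ ∃ ψ : a.1.Iso b.1, ((ψ.baseChange p).trans b.2).iso = a.2.iso := by
  obtain ⟨ua, hua⟩ := hE
  obtain ⟨ub, hub⟩ := hF
  constructor
  · intro h
    obtain ⟨ψ, h1, h2⟩ := Ext1.equiv_symm h
    let v : (toSch E.D').Iso (toSch F.D') := isoOfRingEquiv ψ h1 fun b => by rw [← E.q_β, h2, F.q_β]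
    refine ⟨ua.trans (v.trans ub.symm), (rel_iff_clIncl w a b _).mpr ?_⟩
    show clIncl w a ≫ ua.iso.hom ≫ v.iso.hom ≫ ub.iso.inv = clIncl w b
    rw [← Category.assoc, hua, ← Category.assoc, Iso.comp_inv_eq, hub]
    exact (Spec.map_comp _ _).symm.trans (congrArg Spec.map (CommRingCat.hom_ext (RingHom.ext h2)))
  · rintro ⟨ψ, hψ⟩
    have hψ' := (rel_iff_clIncl w a b ψ).mp hψ
    let v : (toSch E.D').Iso (toSch F.D') := ua.symm.trans (ψ.trans ub)
    have hv : Spec.map (CommRingCat.ofHom E.q) ≫ v.iso.hom = Spec.map (CommRingCat.ofHom F.q) := by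
      show _ ≫ ua.iso.inv ≫ ψ.iso.hom ≫ ub.iso.hom = _
      rw [← hua, Category.assoc, Iso.hom_inv_id_assoc, ← Category.assoc, hψ', hub]
    let φ : CommRingCat.of F.D'.B ⟶ CommRingCat.of E.D'.B := Spec.preimage v.iso.hom
    let φ' : CommRingCat.of E.D'.B ⟶ CommRingCat.of F.D'.B := Spec.preimage v.iso.inv
    have hφ : Spec.map φ = v.iso.hom := Spec.map_preimage _
    have hφ' : Spec.map φ' = v.iso.inv := Spec.map_preimage _
    have i1 : φ ≫ φ' = 𝟙 _ := Spec.map_injective (by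
      rw [Spec.map_comp, hφ, hφ', Spec.map_id]; exact v.iso.inv_hom_id)
    have i2 : φ' ≫ φ = 𝟙 _ := Spec.map_injective (by
      rw [Spec.map_comp, hφ, hφ', Spec.map_id]; exact v.iso.hom_inv_id)
    refine Ext1.equiv_symm ⟨RingEquiv.ofRingHom φ.hom φ'.hom (congrArg CommRingCat.Hom.hom i2)
      (congrArg CommRingCat.Hom.hom i1), fun x => ?_, fun x => ?_⟩
    · refine ConcreteCategory.congr_hom (Spec.map_injective (a₁ := CommRingCat.ofHom (algebraMap C' F.D'.B) ≫ φ)
        (a₂ := CommRingCat.ofHom (algebraMap C' E.D'.B)) ?_) x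
      rw [Spec.map_comp, hφ]
      exact v.hom_f
    · refine ConcreteCategory.congr_hom (Spec.map_injective (a₁ := φ ≫ CommRingCat.ofHom E.q)
        (a₂ := CommRingCat.ofHom F.q) ?_) x
      rw [Spec.map_comp, hφ]
      exact hv

/-- Extensions of a deformation of an affine scheme are classified by `T¹`. -/
theorem nonempty_equiv {ι σ : Type u} (P : Algebra.Presentation k B₀ ι σ) (hp : Art.IsSemismallExt p)
    (𝒴 : DefSch (Spec (CommRingCat.of B₀)) (Spec.map (CommRingCat.ofHom (algebraMap k B₀))) Cb)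
    (hne : ∃ 𝒳' : DefSch (Spec (CommRingCat.of B₀)) (Spec.map (CommRingCat.ofHom (algebraMap k B₀))) C',
      Nonempty ((𝒳'.baseChange p).Iso 𝒴)) :
    Nonempty (Quot (fun a b : (Σ 𝒳' : DefSch (Spec (CommRingCat.of B₀)) (Spec.map (CommRingCat.ofHom (algebraMap k B₀))) C',
        (𝒳'.baseChange p).Iso 𝒴) => ∃ ψ : a.1.Iso b.1, ((ψ.baseChange p).trans b.2).iso = a.2.iso) ≃
      CotT.T1 P (Coeff B₀ p)) := by
  obtain ⟨D, e, hef, hei⟩ := exists_defo 𝒴
  let w : 𝒴.Iso (toSch D) := ⟨e, hef, hei⟩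
  obtain ⟨X₁, ⟨e₁⟩⟩ := hne
  obtain ⟨E₁, -⟩ := exists_rep w hp.1 ⟨X₁, e₁⟩
  obtain ⟨Φ, hΦs, hΦ⟩ := exists_classify P hp E₁
  choose R hR using exists_rep w hp.1
  refine ⟨Equiv.ofBijective (Quot.lift (fun a => Φ (R a)) fun a b h => (hΦ _ _).mpr ((equiv_iff w (hR a) (hR b)).mpr h))
    ⟨fun x y => ?_, fun z => ?_⟩⟩
  · induction x using Quot.ind with | _ a => ?_
    induction y using Quot.ind with | _ b => ?_
    exact fun h => Quot.sound ((equiv_iff w (hR a) (hR b)).mp ((hΦ _ _).mp h))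
  · obtain ⟨E, rfl⟩ := hΦs z
    obtain ⟨a, ha⟩ := exists_of_ext w hp.1 E
    exact ⟨Quot.mk _ a, (hΦ _ _).mpr ((equiv_iff w (hR a) ha).mpr ⟨DefSch.Iso.refl _, (rel_iff_clIncl w a a _).mpr
      (Category.comp_id _)⟩)⟩

end Sch

end Groth.L14.DefLift
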